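import Cfsg.Agent.Lib.OrthPrime.Criterion

/-! Arithmetic of invariant non-degenerate subspaces. -/

set_option autoImplicit false

namespace CfsgLib.OrthPrime

theorem neg_one_pow_sq (j : ℕ) : ((-1 : ℤ) ^ j) * (-1) ^ j = 1 := by
  rw [← mul_pow, neg_one_mul, neg_neg, one_pow]

theorem pow_unit_shift {i a b D : ℕ} (h : a + D = b) (hD : Even D) :
    ((-1 : ℤ) ^ (a * unit i)) = (-1) ^ (b * unit i) := by
  rw [← h, Nat.add_mul, pow_add, (hD.mul_right (unit i)).neg_one_pow, mul_one]

theorem pow_unit_succ_self (i a : ℕ) :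
    ((-1 : ℤ) ^ ((a + 1) * unit i)) = (-1) ^ (a * unit i) * (-1) ^ unit i := by
  rw [Nat.add_mul, one_mul, pow_add]

/-- The criterion for a non-degenerate subspace of even dimension. -/
def NDEvenCrit (n : ℕ) (e : ℤ) (i m : ℕ) (s : ℤ) : Prop :=
  (n % (unit i * i) = 0 ∧ e ≠ (-1) ^ (n / (unit i * i) * unit i)) ∨
  (m % (unit i * i) = 0 ∧ s = (-1) ^ (m / (unit i * i) * unit i)) ∨
  (0 < m % (unit i * i) ∧ m % (unit i * i) < n % (unit i * i)) ∨
  (0 < n % (unit i * i) ∧ m % (unit i * i) = n % (unit i * i) ∧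
    s = e * (-1) ^ ((n / (unit i * i) + m / (unit i * i)) * unit i))

/-- The criterion for a non-degenerate subspace of odd dimension. -/
def NDOddCrit (n : ℕ) (e : ℤ) (i m : ℕ) : Prop :=
  (n % (unit i * i) = 0 ∧ e ≠ (-1) ^ (n / (unit i * i) * unit i)) ∨ m % (unit i * i) < n % (unit i * i)

theorem valid_bound {n i N : ℕ} {e : ℤ} (hc : 0 < unit i * i) (h : Valid n e i N) :
    N ≤ n / (unit i * i) ∧ N * (unit i * i) ≤ n := by
  have hle : N * (unit i * i) ≤ n := h.2.elim le_of_lt fun h' => h'.1.le
  exact ⟨(Nat.le_div_iff_mul_le hc).2 hle, hle⟩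

theorem valid_top {n i : ℕ} {e : ℤ} (hM : 1 ≤ n / (unit i * i))
    (h : 0 < n % (unit i * i) ∨ e = (-1) ^ (n / (unit i * i) * unit i)) : Valid n e i (n / (unit i * i)) := by
  have hd := Nat.div_add_mod n (unit i * i)
  rw [mul_comm] at hd
  refine ⟨hM, ?_⟩
  rcases Nat.eq_zero_or_pos (n % (unit i * i)) with h0 | h0
  · exact Or.inr ⟨by omega, h.resolve_left (by omega)⟩
  · exact Or.inl (by omega)

theorem nd_odd_arith {n i m : ℕ} {e : ℤ} (hi : 0 < i) (hmn : m < n) (hm : Odd m) :
    (NDOddCrit n e i m → ∀ N, Valid n e i N → NDOddCond n i N m) ∧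
      (1 ≤ n / (unit i * i) → (∀ N, Valid n e i N → NDOddCond n i N m) → NDOddCrit n e i m) := by
  have hu : 0 < unit i := by unfold unit; split_ifs <;> norm_num
  unfold NDOddCrit NDOddCond
  have hc : 0 < unit i * i := Nat.mul_pos hu hi
  have hce : Even (unit i * i) := even_unit_mul i
  generalize hcdef : unit i * i = c at hc hce ⊢
  have hn := Nat.div_add_mod n c
  have hml := Nat.div_add_mod m c
  rw [mul_comm] at hn hml
  have hl := Nat.mod_lt m hc
  set M := n / c
  set k := n % c
  set m' := m / c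
  set l := m % c
  have hl0 : 0 < l := by
    by_contra h0
    obtain ⟨o, ho⟩ := hm
    obtain ⟨j, hj⟩ := hce.mul_left m'
    omega
  constructor
  · intro hcrit N hN
    obtain ⟨hNM, hNn⟩ := valid_bound (by rw [hcdef]; exact hc) hN
    rw [hcdef] at hNM hNn
    by_cases hlt : N < m'
    · have := Nat.mul_le_mul_right c hlt.le
      exact ⟨m - N * c, N, by omega, le_rfl, by omega⟩
    refine ⟨l, m', by omega, by omega, ?_⟩
    rcases Nat.lt_or_ge N M with h | h
    · have := Nat.mul_le_mul_right c (show N + 1 ≤ M by omega)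
      rw [Nat.add_mul, one_mul] at this
      omega
    · obtain rfl : N = M := le_antisymm hNM h
      rcases hcrit with ⟨h0, hne⟩ | hlk
      · refine absurd ?_ hne
        rcases hN.2 with h' | ⟨-, h'⟩
        · rw [hcdef] at h'; omega
        · exact h'
      · omega
  · intro hM H
    by_cases hv : 0 < k ∨ e = (-1) ^ (M * unit i)
    · obtain ⟨a, b, hab, -, ha⟩ := H M (by
        have := valid_top (n := n) (i := i) (e := e) (by rw [hcdef]; exact hM) (by rw [hcdef]; exact hv)
        rwa [hcdef] at this)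
      refine Or.inr ?_
      have hb : b ≤ m' := (Nat.le_div_iff_mul_le hc).2 (by omega)
      have := Nat.mul_le_mul_right c hb
      omega
    · push Not at hv
      exact Or.inl ⟨by omega, hv.2⟩

theorem nd_even_arith {n i m : ℕ} {e s : ℤ} (hi : 0 < i) (hmn : m < n) (hm : 0 < m) (he : e = 1 ∨ e = -1)
    (hs : s = 1 ∨ s = -1) :
    (NDEvenCrit n e i m s → ∀ N, Valid n e i N → NDCond n e i N m s) ∧
      (1 ≤ n / (unit i * i) → (∀ N, Valid n e i N → NDCond n e i N m s) → NDEvenCrit n e i m s) := by
  have hu : 0 < unit i := by unfold unit; split_ifs <;> norm_num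
  unfold NDEvenCrit NDCond
  have hc : 0 < unit i * i := Nat.mul_pos hu hi
  generalize hcdef : unit i * i = c at hc ⊢
  have hn := Nat.div_add_mod n c
  have hml := Nat.div_add_mod m c
  rw [mul_comm] at hn hml
  have hl := Nat.mod_lt m hc
  have hk := Nat.mod_lt n hc
  set M := n / c
  set k := n % c
  set m' := m / c
  set l := m % c
  have hm'M : m' ≤ M := Nat.div_le_div_right hmn.le
  constructor
  · intro hcrit N hN
    obtain ⟨hNM, hNn⟩ := valid_bound (by rw [hcdef]; exact hc) hN
    rw [hcdef] at hNM hNn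
    by_cases hlt : N < m'
    · have := Nat.mul_le_mul_right c (show N + 1 ≤ m' by omega)
      rw [Nat.add_mul, one_mul] at this
      exact ⟨m - N * c, N, by omega, le_rfl, by omega, fun h => by omega, fun h => by omega⟩
    rcases Nat.lt_or_ge N M with h | h
    · have hNM1 := Nat.mul_le_mul_right c (show N + 1 ≤ M by omega)
      rw [Nat.add_mul, one_mul] at hNM1
      by_cases hA : l = 0 → s = (-1) ^ (m' * unit i)
      · exact ⟨l, m', by omega, by omega, by omega, hA, fun h' => by omega⟩
      push Not at hA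
      obtain ⟨hl0, hA⟩ := hA
      have hm'1 : 1 ≤ m' := by
        by_contra h0
        rw [Nat.lt_one_iff.1 (not_le.1 h0), zero_mul] at hml
        omega
      have hm'c : (m' - 1) * c + c = m' * c := by
        rw [← Nat.succ_mul, Nat.succ_eq_add_one, Nat.sub_add_cancel hm'1]
      refine ⟨c, m' - 1, by omega, by omega, by omega, fun h' => by omega, fun h' => ?_⟩
      have hk0 : k = 0 := by omega
      have hMN : N + 1 = M := by
        by_contra hne
        have := Nat.mul_le_mul_right c (show N + 2 ≤ M by omega)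
        rw [Nat.add_mul] at this
        omega
      rcases hcrit with ⟨-, hne⟩ | ⟨-, hA'⟩ | ⟨h1, -⟩ | ⟨h1, -⟩
      · have hs' : s = -(-1) ^ (m' * unit i) := by
          rcases hs with h | h <;> rcases neg_one_pow_eq_or ℤ (m' * unit i) with h2 | h2 <;>
            simp [h, h2] at hA ⊢
        have he' : e = -(-1) ^ (M * unit i) := by
          rcases he with h | h <;> rcases neg_one_pow_eq_or ℤ (M * unit i) with h2 | h2 <;>
            simp [h, h2] at hne ⊢
        obtain ⟨j, hj⟩ : ∃ j, m' = j + 1 := Nat.exists_eq_add_one.2 hm'1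
        rw [hs', he', ← hMN, hj, pow_unit_succ_self, pow_unit_succ_self, Nat.add_sub_cancel]
        linear_combination ((-1 : ℤ) ^ (j * unit i) * (-1) ^ unit i) * neg_one_pow_sq (N * unit i)
      · exact absurd hA' hA
      · omega
      · omega
    · obtain rfl : N = M := le_antisymm hNM h
      refine ⟨l, m', by omega, hm'M, ?_⟩
      have hf : n - M * c = k := by omega
      rw [hf]
      rcases hcrit with ⟨h0, hne⟩ | ⟨h0, hA⟩ | ⟨h1, h2⟩ | ⟨h1, h2, hE⟩
      · refine absurd ?_ hne
        rcases hN.2 with h' | ⟨-, h'⟩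
        · rw [hcdef] at h'; omega
        · exact h'
      · refine ⟨by omega, fun _ => hA, fun h' => ?_⟩
        rcases hN.2 with h2 | ⟨-, h2⟩
        · rw [hcdef] at h2; omega
        · rw [h2, neg_one_pow_sq, one_mul, hA]
      · exact ⟨by omega, fun h' => by omega, fun h' => by omega⟩
      · refine ⟨by omega, fun h' => by omega, fun _ => ?_⟩
        rw [hE, Nat.add_mul, pow_add, mul_assoc]
  · intro hM H
    by_cases hv : 0 < k ∨ e = (-1) ^ (M * unit i)
    · obtain ⟨a, b, hab, hb, ha, ha0, haf⟩ := H M (by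
        have := valid_top (n := n) (i := i) (e := e) (by rw [hcdef]; exact hM) (by rw [hcdef]; exact hv)
        rwa [hcdef] at this)
      have hf : n - M * c = k := by omega
      rw [hf] at ha haf
      have hb' : b ≤ m' := (Nat.le_div_iff_mul_le hc).2 (by omega)
      have hbm : b = m' := by
        by_contra hne
        have := Nat.mul_le_mul_right c (show b + 1 ≤ m' by omega)
        rw [Nat.add_mul, one_mul] at this
        omega
      subst hbm
      rcases Nat.eq_zero_or_pos l with h0 | h0
      · exact Or.inr (Or.inl ⟨h0, ha0 (by omega)⟩)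
      rcases (show l ≤ k by omega).lt_or_eq with h1 | h1
      · exact Or.inr (Or.inr (Or.inl ⟨h0, h1⟩))
      · refine Or.inr (Or.inr (Or.inr ⟨by omega, h1, ?_⟩))
        rw [haf (by omega), Nat.add_mul, pow_add, mul_assoc]
    · push Not at hv
      exact Or.inl ⟨by omega, hv.2⟩

end CfsgLib.OrthPrime
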