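import Cfsg.Agent.Lib.OrthPrime.Criterion

/-! Arithmetic of invariant totally singular subspaces in even dimension. -/

set_option autoImplicit false

namespace CfsgLib.OrthPrime

/-- The numerical condition for even dimension and odd order of `q`. -/
theorem ts_even_odd {d m i r : ℕ} {e : ℤ} (he : e = 1 ∨ e = -1) (hmd : m < d) (hi : Odd i) (him : i ≤ m) :
    (∀ N, Valid (2 * d) e i N → TSCond (2 * d) e r i N m) ↔
      (2 * (m % i) < (2 * d) % (2 * i) ∨ (2 * (m % i) = (2 * d) % (2 * i) ∧ e = 1) ∨
        ((2 * d) % (2 * i) = 0 ∧ e = -1)) := by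
  have hev : ¬ Even i := Nat.not_even_iff_odd.2 hi
  have hipos : 0 < i := hi.pos
  have hml := Nat.div_add_mod m i
  have hM := Nat.div_add_mod (2 * d) (2 * i)
  have hk := Nat.mod_lt (2 * d) (show 2 * i > 0 by omega)
  rw [mul_comm] at hml hM
  set m' := m / i
  set l := m % i
  set M := (2 * d) / (2 * i)
  set k := (2 * d) % (2 * i)
  have hl : l < i := Nat.mod_lt m hipos
  have hpow : ∀ N : ℕ, ((-1 : ℤ) ^ (N * unit i)) = 1 := fun N => by
    rw [unit, if_neg hev, mul_comm, pow_mul, neg_one_sq, one_pow]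
  simp only [Valid, TSCond, tsMax, if_neg hev, hpow, mul_one]
  simp only [unit, if_neg hev]
  have h2 : ∀ N : ℕ, N * (2 * i) = 2 * (N * i) := fun N => by ring
  have hm'1 : 1 ≤ m' := (Nat.le_div_iff_mul_le hipos).2 (by omega)
  have hM1 : 1 ≤ M := (Nat.le_div_iff_mul_le (by omega)).2 (by omega)
  have hm'M : m' ≤ M := by
    by_contra hc
    have := Nat.mul_le_mul_right i (show M + 1 ≤ m' by omega)
    rw [Nat.add_mul, one_mul] at this
    have := h2 M
    omega
  constructor
  · intro H
    by_cases hvalid : 0 < k ∨ e = 1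
    · obtain ⟨a, b, hab, hb, ha⟩ := H M ⟨hM1, by
        rcases hvalid with h | h
        · exact Or.inl (by omega)
        · rcases Nat.eq_zero_or_pos k with h0 | h0
          · exact Or.inr ⟨by omega, h⟩
          · exact Or.inl (by omega)⟩
      have hbm : b ≤ m' := (Nat.le_div_iff_mul_le hipos).2 (by omega)
      have := Nat.mul_le_mul_right i hbm
      have hfk : 2 * d - M * (2 * i) = k := by omega
      rw [hfk] at ha
      rcases ha with ha | ⟨ha, he1⟩
      · exact Or.inl (by omega)
      · rcases Nat.lt_or_ge (2 * l) k with h | h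
        · exact Or.inl h
        · exact Or.inr (Or.inl ⟨by omega, he1⟩)
    · push Not at hvalid
      exact Or.inr (Or.inr ⟨by omega, he.resolve_left hvalid.2⟩)
  · rintro hR N ⟨hN1, hN⟩
    have hNM : N ≤ M := by
      by_contra hc
      have := Nat.mul_le_mul_right (2 * i) (show M + 1 ≤ N by omega)
      rw [Nat.add_mul, one_mul] at this
      rcases hN with h | ⟨h, -⟩ <;> omega
    have hNM' := Nat.mul_le_mul_right i hNM
    have hN2 := h2 N
    have hM2 := h2 M
    by_cases hlt : N < m'
    · have := Nat.mul_le_mul_right i (le_of_lt hlt)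
      exact ⟨m - N * i, N, by omega, le_rfl, Or.inl (by omega)⟩
    refine ⟨l, m', by omega, by omega, ?_⟩
    rcases Nat.lt_or_ge N M with h | h
    · have := Nat.mul_le_mul_right i (show N + 1 ≤ M by omega)
      rw [Nat.add_mul, one_mul] at this
      exact Or.inl (by omega)
    obtain rfl : N = M := by omega
    rcases hR with h1 | ⟨h1, h1'⟩ | ⟨h1, h1'⟩
    · exact Or.inl (by omega)
    · exact Or.inr ⟨by omega, h1'⟩
    · rcases hN with h | ⟨-, h⟩
      · omega
      · rw [h1'] at h; norm_num at h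

/-- The numerical condition for even dimension and even order of `q`. -/
theorem ts_even_even {d m i r : ℕ} {e : ℤ} (he : e = 1 ∨ e = -1) (hmd : m < d) (hi : Even i) (hipos : 0 < i)
    (him : i ≤ m) (ht : 1 ≤ (r - 1) / i) :
    (∀ N, Valid (2 * d) e i N → TSCond (2 * d) e r i N m) ↔
      ((r - 1) / i + 2 * (m / i) ≤ (2 * d) / i ∧
        ((2 * (m % i) ≤ i ∧ (2 * d) % i = 0 ∧ e * (-1) ^ ((2 * d) / i) = -1 ∧
            (r - 1) / i + 2 * (m / i) < (2 * d) / i) ∨
          (2 * (m % i) ≤ (2 * d) % i ∧ e * (-1) ^ ((2 * d) / i) = 1) ∨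
          (2 * (m % i) < (2 * d) % i ∧ e * (-1) ^ ((2 * d) / i) = -1))) := by
  have hml := Nat.div_add_mod m i
  have hM := Nat.div_add_mod (2 * d) i
  have hk := Nat.mod_lt (2 * d) hipos
  rw [mul_comm] at hml hM
  set t := (r - 1) / i
  set m' := m / i
  set l := m % i
  set M := (2 * d) / i
  set k := (2 * d) % i
  have hl : l < i := Nat.mod_lt m hipos
  set s := e * (-1 : ℤ) ^ M with hsdef
  have hs : s = 1 ∨ s = -1 := by
    rcases he with h | h <;> rcases neg_one_pow_eq_or ℤ M with h' | h' <;> simp [hsdef, h, h']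
  have hsD : ∀ N D, N + D = M → e * (-1) ^ N = s * (-1) ^ D := fun N D h => by
    rw [hsdef, ← h, pow_add, mul_assoc, mul_assoc, ← mul_pow, neg_one_mul, neg_neg, one_pow, mul_one]
  have hval : ∀ N, Valid (2 * d) e i N ↔ (1 ≤ N ∧ (N * i < 2 * d ∨ (N * i = 2 * d ∧ e * (-1) ^ N = 1))) := by
    intro N
    simp only [Valid, unit, if_pos hi, one_mul, mul_one]
    refine and_congr_right fun _ => or_congr Iff.rfl (and_congr_right fun _ => ⟨fun h => ?_, fun h => ?_⟩)
    · rw [h, ← mul_pow, neg_one_mul, neg_neg, one_pow]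
    · have := congrArg (· * (-1 : ℤ) ^ N) h
      simp only [mul_assoc, ← mul_pow, neg_one_mul, neg_neg, one_pow, mul_one, one_mul] at this
      exact this
  simp only [TSCond, tsMax, if_pos hi, unit, one_mul, mul_one]
  have hm'1 : 1 ≤ m' := (Nat.le_div_iff_mul_le hipos).2 (by omega)
  have hM2 : 2 ≤ M := (Nat.le_div_iff_mul_le hipos).2 (by omega)
  have hlow : ∀ a b, m = a + b * i → b ≤ m' ∧ l ≤ a ∧ (b < m' → l + i ≤ a) := fun a b hab => by
    have hb : b ≤ m' := (Nat.le_div_iff_mul_le hipos).2 (by omega)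
    have h1 : b * i ≤ m' * i := Nat.mul_le_mul_right i hb
    refine ⟨hb, by omega, fun hlt => ?_⟩
    have h2 : (b + 1) * i ≤ m' * i := Nat.mul_le_mul_right i hlt
    rw [Nat.add_mul, one_mul] at h2
    omega
  have hM1i : (M - 1) * i + i = M * i := by
    rw [← Nat.succ_mul, Nat.succ_eq_add_one, Nat.sub_add_cancel (by omega)]
  constructor
  · intro H
    have hT : t + 2 * m' ≤ M := by
      by_contra hc
      obtain ⟨a, b, hab, hb, ha⟩ := H (M - 1) ((hval _).2 ⟨by omega, Or.inl (by omega)⟩)
      have ha' : 2 * a ≤ 2 * d - (M - 1) * i := ha.elim le_of_lt fun h => h.1.le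
      obtain ⟨-, -, hlt⟩ := hlow a b hab
      have := hlt (by omega)
      omega
    refine ⟨hT, ?_⟩
    by_cases hv : 0 < k ∨ s = 1
    · obtain ⟨a, b, hab, -, ha⟩ := H M ((hval _).2 ⟨by omega, by
        rcases Nat.eq_zero_or_pos k with h0 | h0
        · exact Or.inr ⟨by omega, hv.resolve_left (by omega)⟩
        · exact Or.inl (by omega)⟩)
      obtain ⟨-, hla, -⟩ := hlow a b hab
      rcases ha with ha | ⟨ha, hs1⟩
      · rcases hs with h | h
        · exact Or.inr (Or.inl ⟨by omega, h⟩)
        · exact Or.inr (Or.inr ⟨by omega, h⟩)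
      · exact Or.inr (Or.inl ⟨by omega, hs1⟩)
    · push Not at hv
      have hs' : s = -1 := hs.resolve_left hv.2
      obtain ⟨a, b, hab, -, ha⟩ := H (M - 1) ((hval _).2 ⟨by omega, Or.inl (by omega)⟩)
      have ha' : 2 * a ≤ 2 * d - (M - 1) * i := ha.elim le_of_lt fun h => h.1.le
      obtain ⟨-, hla, -⟩ := hlow a b hab
      refine Or.inl ⟨by omega, by omega, hs', ?_⟩
      by_contra hc
      have hM2i : (M - 2) * i + i + i = M * i := by
        rw [add_assoc, ← two_mul, ← Nat.add_mul, Nat.sub_add_cancel (by omega)]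
      obtain ⟨a', b', hab', hb', ha'⟩ := H (M - 2) ((hval _).2 ⟨by omega, Or.inl (by omega)⟩)
      obtain ⟨-, -, hlt'⟩ := hlow a' b' hab'
      have := hlt' (by omega)
      rcases ha' with ha' | ⟨ha', hs1⟩
      · omega
      · rw [hsD (M - 2) 2 (by omega), hs'] at hs1
        norm_num at hs1
  · rintro ⟨hT, hR⟩ N hN
    obtain ⟨hN1, hN⟩ := (hval N).1 hN
    have hNM : N ≤ M := by
      by_contra hc
      have := Nat.mul_le_mul_right i (show M + 1 ≤ N by omega)
      rw [Nat.add_mul, one_mul] at this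
      rcases hN with h | ⟨h, -⟩ <;> omega
    have hNM' := Nat.mul_le_mul_right i hNM
    set J := (N - t + 1) / 2 with hJdef
    have one_less : N + 1 = M → e * (-1) ^ N = -s := fun h => by rw [hsD N 1 h, pow_one]; ring
    by_cases hJ : m' ≤ J
    · refine ⟨l, m', by omega, hJ, ?_⟩
      rcases (show N = M ∨ N + 1 = M ∨ N + 2 ≤ M by omega) with h | h | h
      · subst h
        rcases hR with ⟨h1, h2, h3, h4⟩ | ⟨h1, h2⟩ | ⟨h1, h2⟩
        · rcases hN with hN | ⟨-, hN⟩
          · omega
          · exact absurd (hN.symm.trans h3) (by norm_num)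
        · rcases h1.lt_or_eq with h1 | h1
          · exact Or.inl (by omega)
          · exact Or.inr ⟨by omega, h2⟩
        · exact Or.inl (by omega)
      · have hh : N * i + i = M * i := by rw [← h, Nat.add_mul, one_mul]
        rcases hR with ⟨h1, h2, h3, h4⟩ | ⟨h1, h2⟩ | ⟨h1, h2⟩
        · rcases h1.lt_or_eq with h1 | h1
          · exact Or.inl (by omega)
          · exact Or.inr ⟨by omega, by rw [one_less h, h3, neg_neg]⟩
        · exact Or.inl (by omega)
        · exact Or.inl (by omega)
      · have := Nat.mul_le_mul_right i h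
        rw [Nat.add_mul] at this
        exact Or.inl (by omega)
    · have hJm := Nat.mul_le_mul_right i (show J ≤ m' by omega)
      refine ⟨m - J * i, J, by omega, le_rfl, ?_⟩
      rcases (show N + 2 * m' = M + 2 * J ∨ N + 2 * m' + 1 = M + 2 * J ∨ N + 2 * m' + 2 ≤ M + 2 * J by omega)
        with h | h | h
      · have hh := congrArg (· * i) h
        simp only [Nat.add_mul, mul_assoc] at hh
        rcases hR with ⟨h1, h2, h3, h4⟩ | ⟨h1, h2⟩ | ⟨h1, h2⟩
        · omega
        · rcases h1.lt_or_eq with h1 | h1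
          · exact Or.inl (by omega)
          · refine Or.inr ⟨by omega, ?_⟩
            rw [hsD N (2 * (m' - J)) (by omega), pow_mul, neg_one_sq, one_pow, mul_one]
            exact h2
        · exact Or.inl (by omega)
      · have hh := congrArg (· * i) h
        simp only [Nat.add_mul, mul_assoc, one_mul] at hh
        rcases hR with ⟨h1, h2, h3, h4⟩ | ⟨h1, h2⟩ | ⟨h1, h2⟩
        · rcases h1.lt_or_eq with h1 | h1
          · exact Or.inl (by omega)
          · refine Or.inr ⟨by omega, ?_⟩
            rw [hsD N (2 * (m' - J) + 1) (by omega), pow_succ, pow_mul, neg_one_sq, one_pow, h3]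
            norm_num
        · exact Or.inl (by omega)
        · exact Or.inl (by omega)
      · have hh := Nat.mul_le_mul_right i h
        simp only [Nat.add_mul, mul_assoc] at hh
        exact Or.inl (by omega)

end CfsgLib.OrthPrime
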