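import Cfsg.Agent.Lib.OrthPrime.NDGlue
import Cfsg.Agent.Lib.InvolTwo.OmegaClasses

/-! Elements of order two in characteristic two. -/

set_option autoImplicit false

namespace CfsgLib.OrthPrime

open QuadraticMap CfsgLib.Geometry CfsgLib.OrthMax CfsgLib.PrimeOrderSp

universe u

variable {F : Type u} [Field F] {ι : Type} [Fintype ι] [DecidableEq ι] {R : QuadraticForm F (ι → F)}

omit [Fintype ι] [DecidableEq ι] in
theorem neg_eq_self_two (h2 : (2 : F) = 0) (v : ι → F) : -v = v := by
  funext k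
  rw [Pi.neg_apply]
  linear_combination (-v k) * h2

theorem sq_sub_one_eq_zero (h2 : (2 : F) = 0) {f : Module.End F (ι → F)} (hff : f ^ 2 = 1) : (f - 1) ^ 2 = 0 := by
  refine LinearMap.ext fun v => ?_
  have h : f (f v) = v := by
    have := LinearMap.congr_fun hff v
    rwa [pow_two, Module.End.mul_apply, Module.End.one_apply] at this
  simp only [pow_two, Module.End.mul_apply, LinearMap.sub_apply, Module.End.one_apply, map_sub, h,
    LinearMap.zero_apply]
  funext k
  simp only [Pi.sub_apply, Pi.zero_apply]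
  linear_combination (v k - f v k) * h2

variable [Finite F]

/-- In characteristic two an involution is in `Ω` exactly when its moved space has even dimension. -/
theorem two_mem_omega_iff (hR : (polarBilin R).Nondegenerate) (hn : 5 ≤ Fintype.card ι) (h2 : (2 : F) = 0)
    {f : Module.End F (ι → F)} (hf : ∀ v, R (f v) = R v) (hff : f ^ 2 = 1) :
    (∃ x ∈ Cfsg.Geo.omegaGL ⇑R, Matrix.toLin' ((x : GL ι F) : Matrix ι ι F) = f) ↔
      Even (Module.finrank F (LinearMap.range (f - 1))) := by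
  have hG := reflGroup_eq_orth hR (Or.inl (by rw [Module.finrank_fintype_fun_eq_card]; omega))
  have hff' : ∀ v, f (f v) = v := fun v => by
    have := LinearMap.congr_fun hff v
    rwa [pow_two, Module.End.mul_apply, Module.End.one_apply] at this
  let e : (ι → F) ≃ₗ[F] (ι → F) := LinearEquiv.ofLinearMap f f (LinearMap.ext hff') (LinearMap.ext hff')
  let g : orth R := ⟨e, fun v => hf v⟩
  have hmem : (∃ x ∈ Cfsg.Geo.omegaGL ⇑R, Matrix.toLin' ((x : GL ι F) : Matrix ι ι F) = f) ↔
      g ∈ commutator (orth R) := by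
    constructor
    · rintro ⟨x, hx, hxf⟩
      rw [omegaGL_eq_map] at hx
      obtain ⟨y, hy, rfl⟩ := hx
      rw [toLin'_orthToGL] at hxf
      rw [show g = y from Subtype.ext (LinearEquiv.toLinearMap_injective hxf).symm]
      exact hy
    · intro hg
      exact ⟨orthToGL R g, by rw [omegaGL_eq_map]; exact Subgroup.mem_map_of_mem _ hg, toLin'_orthToGL g⟩
  have hrange : movSpace (g : (ι → F) ≃ₗ[F] (ι → F)) = LinearMap.range (f - 1) := by
    refine le_antisymm ?_ ?_ <;> rintro _ ⟨v, rfl⟩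
    · refine ⟨-v, ?_⟩
      rw [map_neg, LinearMap.sub_apply, Module.End.one_apply, neg_sub]
      rfl
    · refine ⟨-v, ?_⟩
      show -v - f (-v) = (f - 1) v
      rw [map_neg, LinearMap.sub_apply, Module.End.one_apply]
      abel
  rw [hmem, mem_commutator_orth_iff hR hG, ← hrange]
  constructor
  · intro h
    have h1 : dicksonHom hR hG g = 1 := congrArg Prod.snd h
    rw [dicksonHom, MonoidHom.mk'_apply] at h1
    exact (ZMod.natCast_eq_zero_iff_even).1 (Multiplicative.ofAdd.injective h1)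
  · intro h
    refine Prod.ext (sqClass_eq_one_of_two h2 _) ?_
    show dicksonHom hR hG g = 1
    rw [dicksonHom, MonoidHom.mk'_apply]
    exact congrArg Multiplicative.ofAdd ((ZMod.natCast_eq_zero_iff_even).2 h)

theorem two_scalar_sq (hR : (polarBilin R).Nondegenerate) (hn : 0 < Fintype.card ι) (h2 : (2 : F) = 0)
    {x : GL ι F} (hx : x ∈ Cfsg.Geo.omegaGL ⇑R) {z : F}
    (hz : ((x ^ 2 : GL ι F) : Matrix ι ι F) = z • (1 : Matrix ι ι F)) :
    Matrix.toLin' (x : Matrix ι ι F) ^ 2 = 1 := by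
  haveI := Fintype.ofFinite F
  rcases scalar_two_cases hR hn hx hz with h | h
  · exact h
  · refine LinearMap.ext fun v => ?_
    rw [pow_two, Module.End.mul_apply, h, neg_eq_self_two h2, Module.End.one_apply]

/-- An involution of `Ω` with totally singular moved space of given even dimension. -/
theorem exists_two_ts (hR : (polarBilin R).Nondegenerate) (hn : 5 ≤ Fintype.card ι) [CharP F 2] {j : ℕ}
    (hj : 0 < j) {U : Submodule F (ι → F)} (hU : ∀ u ∈ U, R u = 0) (hUd : Module.finrank F U = 2 * j) :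
    ∃ x : GL ι F, x ∈ Cfsg.Geo.omegaGL ⇑R ∧ x ^ 2 = 1 ∧ (∀ z : F, (x : Matrix ι ι F) ≠ z • (1 : Matrix ι ι F)) ∧
      (∀ v, R (Matrix.toLin' (x : Matrix ι ι F) v) = R v) ∧
      LinearMap.range (Matrix.toLin' (x : Matrix ι ι F) - 1) ≤ U ∧
      Module.finrank F (LinearMap.range (Matrix.toLin' (x : Matrix ι ι F) - 1)) = 2 * j := by
  haveI : Fact (Nat.Prime 2) := ⟨Nat.prime_two⟩
  have h2 : (2 : F) = 0 := CharTwo.two_eq_zero
  obtain ⟨f, hf, -, hn2, hr, -, -, hrU, -⟩ := exists_unip hR (j := j) (s := 0) hU (by omega) Fin.elim0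
    (fun _ _ k => k.elim0) (fun k => k.elim0) fun k => k.elim0
  rw [Set.range_eq_empty, Submodule.span_empty, sup_bot_eq] at hrU
  have hff : f ^ 2 = 1 := pow_char_eq_one le_rfl (hn2 rfl)
  obtain ⟨x, hx, hxf⟩ := (two_mem_omega_iff hR hn h2 hf hff).2 ⟨j, by omega⟩
  refine ⟨x, hx, ?_, fun z hz => ?_, hxf.symm ▸ hf, hxf.symm ▸ hrU, hxf.symm ▸ (by omega)⟩
  · refine Units.ext (Matrix.toLin'.injective ?_)
    rw [toLin'_pow, hxf, hff, Units.val_one, Matrix.toLin'_one, Module.End.one_eq_id]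
  · have hfz : f = z • 1 := by rw [← hxf, hz, map_smul, Matrix.toLin'_one, Module.End.one_eq_id]
    rw [hfz] at hff hr
    have hz1 : z = 1 := by
      haveI : Nonempty ι := Fintype.card_pos_iff.1 (by omega)
      obtain ⟨k⟩ := ‹Nonempty ι›
      have h1 := congrFun (LinearMap.congr_fun hff (Pi.single k 1)) k
      rw [smul_pow, one_pow, LinearMap.smul_apply, Module.End.one_apply, Pi.smul_apply, Pi.single_eq_same,
        smul_eq_mul, mul_one] at h1
      rcases sq_eq_one_iff.1 h1 with h | h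
      · exact h
      · rw [h]; linear_combination -h2
    rw [hz1, one_smul, sub_self, LinearMap.range_zero, finrank_bot] at hr
    omega

/-- An involution in `Ω` fixes a nonsingular vector unless its moved space is a half-dimensional singular one. -/
theorem exists_fixed_nonsingular (hR : (polarBilin R).Nondegenerate) (h2 : (2 : F) = 0) {d : ℕ}
    (hn : Fintype.card ι = 2 * d) {f : Module.End F (ι → F)} (hf : ∀ v, R (f v) = R v) (hff : f ^ 2 = 1)
    (hev : Even (Module.finrank F (LinearMap.range (f - 1)))) (hd : ¬ (Even d ∧ sgn R ⊤ = 1)) :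
    ∃ v, f v = v ∧ R v ≠ 0 := by
  by_contra hc
  push Not at hc
  haveI := Fintype.ofFinite F
  have hsing : ∀ v ∈ LinearMap.ker (f - 1), R v = 0 := fun v hv =>
    hc v (by rwa [LinearMap.mem_ker, LinearMap.sub_apply, Module.End.one_apply, sub_eq_zero] at hv)
  have hrk : LinearMap.range (f - 1) ≤ LinearMap.ker (f - 1) := by
    rintro _ ⟨v, rfl⟩
    exact (pow_two (f - 1) ▸ sq_sub_one_eq_zero h2 hff : (f - 1) * (f - 1) = 0) |> fun h =>
      LinearMap.mem_ker.2 (LinearMap.congr_fun h v)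
  have hk := finrank_ker_sub_one hR hf
  rw [Module.finrank_fintype_fun_eq_card, hn] at hk
  have htop : (⊤ : Submodule F (ι → F)) ⊓ polarPerp R ⊤ = ⊥ :=
    nondeg_iff.1 fun u _ hu' => hR.1 u fun v => hu' v trivial
  have h3 := Submodule.finrank_mono hrk
  rcases ts_dim_le htop (le_top : LinearMap.ker (f - 1) ≤ ⊤) hsing with h | ⟨h, hp⟩
  · rw [finrank_top, Module.finrank_fintype_fun_eq_card, hn] at h
    omega
  · rw [finrank_top, Module.finrank_fintype_fun_eq_card, hn] at h
    obtain ⟨j, hj⟩ := hev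
    exact hd ⟨⟨j, by omega⟩, sgn_plus hp⟩

theorem line_orbit [CharP F 2] {v₀ : ι → F} (h0 : R v₀ ≠ 0) (W : Submodule F (ι → F)) :
    InOrbit R (Submodule.span F {v₀}) W ↔ Module.finrank F W = 1 ∧ ∃ v ∈ W, R v ≠ 0 := by
  have hv₀ : v₀ ≠ 0 := fun h => h0 (by rw [h, QuadraticMap.map_zero])
  constructor
  · intro h
    obtain ⟨e, he⟩ := id h
    refine ⟨h.finrank_eq.trans (finrank_span_singleton hv₀), (e ⟨v₀, Submodule.mem_span_singleton_self _⟩ : ι → F),
      Subtype.coe_prop _, ?_⟩
    rw [he]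
    exact h0
  · rintro ⟨h1, v, hv, hQv⟩
    haveI := Fintype.ofFinite F
    obtain ⟨t, ht⟩ := FiniteField.isSquare_of_char_two (ringChar.eq F 2) (R v₀ / R v)
    have ht0 : t ≠ 0 := fun h => by
      rw [h, mul_zero] at ht
      exact div_ne_zero h0 hQv ht
    have hW : Submodule.span F {t • v} = W := by
      refine Submodule.eq_of_le_of_finrank_le ((Submodule.span_singleton_le_iff_mem _ _).2 (W.smul_mem _ hv)) ?_
      rw [h1, finrank_span_singleton (smul_ne_zero ht0 fun h => hQv (by rw [h, QuadraticMap.map_zero]))]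
    have htv : R (t • v) = R v₀ := by
      rw [CfsgLib.Geometry.map_smul', ← ht, div_mul_cancel₀ _ hQv]
    have htv0 : t • v ≠ 0 := fun h => h0 (by rw [← htv, h, QuadraticMap.map_zero])
    subst hW
    refine ⟨(LinearEquiv.toSpanNonzeroSingleton F _ v₀ hv₀).symm.trans
      (LinearEquiv.toSpanNonzeroSingleton F _ (t • v) htv0), fun w => ?_⟩
    obtain ⟨c, rfl⟩ := (LinearEquiv.toSpanNonzeroSingleton F _ v₀ hv₀).surjective w
    rw [LinearEquiv.trans_apply, LinearEquiv.symm_apply_apply, LinearEquiv.toSpanNonzeroSingleton_apply,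
      LinearEquiv.toSpanNonzeroSingleton_apply]
    simp only [CfsgLib.Geometry.map_smul'] at htv ⊢
    rw [htv]

/-- An element of odd prime order fixing no nonsingular point. -/
theorem exists_no_fixed_point [CharP F 2] (hR : (polarBilin R).Nondegenerate) {r : ℕ} [Fact r.Prime]
    (hr2 : r ≠ 2) (hn : 2 ≤ Fintype.card ι)
    (hd : r ∣ Nat.card {W : Submodule F (ι → F) // Module.finrank F W = 1 ∧ ∃ v ∈ W, R v ≠ 0}) :
    ∃ f : Module.End F (ι → F), (∀ v, R (f v) = R v) ∧ f ^ r = 1 ∧ f ≠ 1 ∧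
      ∀ W : Submodule F (ι → F), (Module.finrank F W = 1 ∧ ∃ v ∈ W, R v ≠ 0) → ¬ Inv f W := by
  classical
  haveI := Fintype.ofFinite F
  haveI : Fact (Nat.Prime 2) := ⟨Nat.prime_two⟩
  have hr : (r : F) ≠ 0 := natCast_ne_zero_of_ne (p := 2) hr2
  obtain ⟨v₀, -, hv₀⟩ := exists_anisotropic_perp hR (U := ⊥) (by
    rw [finrank_bot, Module.finrank_fintype_fun_eq_card]; omega)
  obtain ⟨f, hf, hfr, hf1, hno⟩ := exists_no_fixed hR hr hr2 (W₀ := Submodule.span F {v₀})
    (by rw [Nat.card_congr (Equiv.subtypeEquivRight (line_orbit hv₀))]; exact hd)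
    fun f hf hfr W hW hWi => by
      obtain ⟨h1, v, hv, hQv⟩ := (line_orbit hv₀ W).1 hW
      have hW' : Submodule.span F {v} = W :=
        Submodule.eq_of_le_of_finrank_le ((Submodule.span_singleton_le_iff_mem _ _).2 hv)
          (by rw [h1, finrank_span_singleton fun h => hQv (by rw [h, QuadraticMap.map_zero])])
      obtain ⟨c, hc⟩ := Submodule.mem_span_singleton.1 (hW'.symm ▸ hWi v hv : f v ∈ Submodule.span F {v})
      have h2' := hf v
      rw [← hc, CfsgLib.Geometry.map_smul'] at h2'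
      have hc1 : c = 1 := CharTwo.sq_injective (by
        show c ^ 2 = 1 ^ 2
        rw [one_pow, pow_two]
        exact (mul_eq_right₀ hQv).1 h2')
      rw [← hW', Submodule.span_singleton_le_iff_mem, mem_fixSp, ← hc, hc1, one_smul]
  exact ⟨f, hf, hfr, hf1, fun W hW => hno W ((line_orbit hv₀ W).2 hW)⟩

end CfsgLib.OrthPrime
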