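import Cfsg.Agent.Lib.OrthMax.Basic

/-!
Value counts of quadratic forms on non-degenerate subspaces of even dimension, and the
multiplicativity of their type.
-/

set_option autoImplicit false

namespace CfsgLib.OrthPrime

open QuadraticMap CfsgLib.Geometry

variable {F V : Type*} [Field F] [AddCommGroup V] [Module F V]
variable (Q : QuadraticForm F V)

/-- A totally singular subspace of half the dimension. -/
def Plus (D : Submodule F V) : Prop :=
  ∃ U ≤ D, (∀ u ∈ U, Q u = 0) ∧ 2 * Module.finrank F U = Module.finrank F D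

/-- The type of a subspace. -/
noncomputable def sgn (D : Submodule F V) : ℤ := by
  classical exact if Plus Q D then 1 else -1

/-- The number of vectors of a given norm. -/
noncomputable def fib (D : Submodule F V) (c : F) : ℕ := Nat.card {v : D // Q v = c}

variable {Q} {D A B : Submodule F V}

theorem sgn_plus (h : Plus Q D) : sgn Q D = 1 := by simp [sgn, h]

theorem sgn_minus (h : ¬ Plus Q D) : sgn Q D = -1 := by simp [sgn, h]

theorem plus_iff_sgn : Plus Q D ↔ sgn Q D = 1 := by
  by_cases h : Plus Q D <;> simp [sgn, h]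

theorem sgn_sq (D : Submodule F V) : sgn Q D * sgn Q D = 1 := by
  by_cases h : Plus Q D <;> simp [sgn, h]

theorem sgn_cases (D : Submodule F V) : sgn Q D = 1 ∨ sgn Q D = -1 := by
  by_cases h : Plus Q D <;> simp [sgn, h]

theorem plus_bot : Plus Q (⊥ : Submodule F V) :=
  ⟨⊥, le_rfl, fun u hu => by rw [(Submodule.mem_bot F).1 hu, QuadraticMap.map_zero], by simp⟩

theorem sgn_bot : sgn Q (⊥ : Submodule F V) = 1 := sgn_plus plus_bot

variable [Fintype F] [DecidableEq F] [FiniteDimensional F V]

/-- The excess of the norm zero over the others. -/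
def delta (c : F) : ℤ := if c = 0 then (Fintype.card F : ℤ) - 1 else -1

theorem sum_delta : ∑ c : F, delta c = 0 := by
  simp only [delta]
  rw [Finset.sum_eq_add_sum_sdiff_singleton_of_mem (Finset.mem_univ (0 : F)), if_pos rfl,
    Finset.sum_congr rfl fun c hc => if_neg (by simpa using hc), Finset.sum_const]
  simp [Finset.card_sdiff, Fintype.card_pos]

theorem sum_delta_shift (c : F) : ∑ d : F, delta (c - d) = 0 :=
  (Equiv.sum_comp (Equiv.subLeft c) delta).trans sum_delta

theorem sum_delta_mul (c : F) :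
    ∑ d : F, delta d * delta (c - d) = (Fintype.card F : ℤ) * delta c := by
  have h : ∀ d : F, delta d * delta (c - d) =
      (if d = 0 then (Fintype.card F : ℤ) * delta c else 0) - delta (c - d) := fun d => by
    by_cases hd : d = 0
    · subst hd; simp [delta]; split_ifs <;> ring
    · simp [delta, hd]
      split_ifs <;> ring
  rw [Finset.sum_congr rfl fun d _ => h d, Finset.sum_sub_distrib, Finset.sum_ite_eq',
    sum_delta_shift]
  simp

omit [DecidableEq F] in
theorem natCard_submodule (D : Submodule F V) : Nat.card D = Fintype.card F ^ Module.finrank F D := by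
  rw [Module.natCard_eq_pow_finrank (K := F), Nat.card_eq_fintype_card]

/-- The value counts have excess `g`. -/
def HasExcess (Q : QuadraticForm F V) (D : Submodule F V) (g : ℤ) : Prop :=
  ∀ c, (Fintype.card F : ℤ) * fib Q D c = (Nat.card D : ℤ) + g * delta c

theorem HasExcess.unique {g g' : ℤ} (h : HasExcess Q D g) (h' : HasExcess Q D g') : g = g' := by
  have e := (h 0).symm.trans (h' 0)
  have hq : (delta (0 : F)) ≠ 0 := by
    have := Fintype.one_lt_card (α := F)
    simp [delta]; omega
  exact mul_right_cancel₀ hq (by linear_combination e)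

theorem HasExcess.sup (hd : Disjoint A B) (ho : ∀ a ∈ A, ∀ b ∈ B, polar Q a b = 0) {g h : ℤ}
    (hA : HasExcess Q A g) (hB : HasExcess Q B h) : HasExcess Q (A ⊔ B) (g * h) := by
  intro c
  haveI : Finite V := Module.finite_of_finite F
  have hbij : Function.Bijective fun p : A × B =>
      (⟨(p.1 : V) + p.2, Submodule.add_mem_sup p.1.2 p.2.2⟩ : ↥(A ⊔ B)) := by
    constructor
    · rintro ⟨a, b⟩ ⟨a', b'⟩ hab
      have hab' : (a : V) + b = a' + b' := congrArg Subtype.val hab
      have h0 : (a : V) - a' = 0 := Submodule.disjoint_def.1 hd _ (A.sub_mem a.2 a'.2) (by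
        rw [show (a : V) - a' = b' - b by linear_combination (norm := abel) hab']
        exact B.sub_mem b'.2 b.2)
      have ha : a = a' := Subtype.ext (sub_eq_zero.1 h0)
      subst ha
      exact Prod.ext rfl (Subtype.ext (add_left_cancel hab'))
    · rintro ⟨x, hx⟩
      obtain ⟨a, ha, b, hb, rfl⟩ := Submodule.mem_sup.1 hx
      exact ⟨(⟨a, ha⟩, ⟨b, hb⟩), rfl⟩
  let e := Equiv.ofBijective _ hbij
  have hcount : fib Q (A ⊔ B) c = ∑ d : F, fib Q A d * fib Q B (c - d) := by
    have e1 : {p : A × B // Q (p.1 : V) + Q (p.2 : V) = c} ≃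
        (Σ d : F, {a : A // Q (a : V) = d} × {b : B // Q (b : V) = c - d}) :=
      { toFun := fun p => ⟨Q (p.1.1 : V), ⟨p.1.1, rfl⟩, ⟨p.1.2, eq_sub_of_add_eq' p.2⟩⟩
        invFun := fun x => ⟨(x.2.1.1, x.2.2.1), by rw [x.2.1.2, x.2.2.2]; ring⟩
        left_inv := fun p => rfl
        right_inv := by rintro ⟨d, ⟨a, rfl⟩, b⟩; rfl }
    have e2 : {p : A × B // Q (p.1 : V) + Q (p.2 : V) = c} ≃ {v : ↥(A ⊔ B) // Q (v : V) = c} :=
      Equiv.subtypeEquiv e fun p => by
        show _ ↔ Q ((p.1 : V) + p.2) = c
        rw [CfsgLib.Geometry.map_add', ho _ p.1.2 _ p.2.2, add_zero]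
    rw [fib, ← Nat.card_congr e2, Nat.card_congr e1, Nat.card_sigma]
    exact Finset.sum_congr rfl fun d _ => Nat.card_prod _ _
  have hcard : Nat.card ↥(A ⊔ B) = Nat.card A * Nat.card B := by
    rw [← Nat.card_congr e, Nat.card_prod]
  have hq : (Fintype.card F : ℤ) ≠ 0 := by exact_mod_cast Fintype.card_ne_zero
  refine mul_left_cancel₀ hq ?_
  rw [hcount, hcard]
  push_cast
  calc (Fintype.card F : ℤ) * ((Fintype.card F : ℤ) * ∑ d : F, (fib Q A d : ℤ) * fib Q B (c - d))
      = ∑ d : F, ((Fintype.card F : ℤ) * fib Q A d) * ((Fintype.card F : ℤ) * fib Q B (c - d)) := by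
        rw [Finset.mul_sum, Finset.mul_sum]; exact Finset.sum_congr rfl fun d _ => by ring
    _ = ∑ d : F, (((Nat.card A : ℤ) * Nat.card B + Nat.card A * h * delta (c - d)) +
          (Nat.card B * g * delta d + g * h * (delta d * delta (c - d)))) :=
        Finset.sum_congr rfl fun d _ => by rw [hA d, hB (c - d)]; ring
    _ = _ := by
        rw [Finset.sum_add_distrib, Finset.sum_add_distrib, Finset.sum_add_distrib,
          ← Finset.mul_sum (f := fun d => delta (c - d)), ← Finset.mul_sum (f := fun d : F => delta d),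
          ← Finset.mul_sum (f := fun d => delta d * delta (c - d)), sum_delta_mul, sum_delta_shift,
          sum_delta, Finset.sum_const]
        simp; ring

omit [DecidableEq F] in
theorem card_fibre_functional {U : Type*} [AddCommGroup U] [Module F U] [FiniteDimensional F U]
    {φ : U →ₗ[F] F} (hφ : φ ≠ 0) (a : F) :
    Fintype.card F * Nat.card {u : U // φ u = a} = Fintype.card F ^ Module.finrank F U := by
  haveI : Finite U := Module.finite_of_finite F
  obtain ⟨u₁, hu₁⟩ : ∃ u, φ u ≠ 0 := by
    by_contra hc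
    push Not at hc
    exact hφ (LinearMap.ext hc)
  set u₀ := (a * (φ u₁)⁻¹) • u₁
  have hu₀ : φ u₀ = a := by
    simp only [u₀, map_smul, smul_eq_mul, mul_assoc, inv_mul_cancel₀ hu₁, mul_one]
  have e : {u : U // φ u = a} ≃ LinearMap.ker φ :=
    { toFun := fun u => ⟨(u : U) - u₀, by rw [LinearMap.mem_ker, map_sub, u.2, hu₀, sub_self]⟩
      invFun := fun k => ⟨(k : U) + u₀, by rw [map_add, LinearMap.mem_ker.1 k.2, hu₀, zero_add]⟩
      left_inv := fun u => Subtype.ext (sub_add_cancel _ _)
      right_inv := fun k => Subtype.ext (add_sub_cancel_right _ _) }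
  have h1 := LinearMap.finrank_range_add_finrank_ker φ
  rw [LinearMap.range_eq_top.2 (LinearMap.surjective hφ), finrank_top, Module.finrank_self] at h1
  rw [Nat.card_congr e, natCard_submodule, ← h1, pow_add, pow_one]

theorem hasExcess_plus (hD : D ⊓ polarPerp Q D = ⊥) {U : Submodule F V} (hUD : U ≤ D)
    (hU : ∀ u ∈ U, Q u = 0) {k : ℕ} (hd : Module.finrank F D = 2 * k) (hUk : Module.finrank F U = k) :
    HasExcess Q D ((Fintype.card F : ℤ) ^ k) := by
  classical
  haveI : Finite V := Module.finite_of_finite F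
  intro c
  obtain ⟨C₀, hC₀⟩ := Submodule.exists_isCompl U
  set C := D ⊓ C₀
  have hsum : ∀ x ∈ D, ∃ u ∈ U, ∃ y ∈ C, u + y = x := fun x hx => by
    obtain ⟨u, hu, y, hy, hxy⟩ := Submodule.mem_sup.1 (hC₀.sup_eq_top ▸ Submodule.mem_top : x ∈ U ⊔ C₀)
    refine ⟨u, hu, y, ⟨?_, hy⟩, hxy⟩
    rw [show y = x - u by rw [← hxy]; abel]; exact D.sub_mem hx (hUD hu)
  have hnz : ∀ y : C, y ≠ 0 → ((polarBilin Q (y : V)).comp U.subtype) ≠ 0 := by
    intro y hy0 h0
    have hy : ∀ u ∈ U, polar Q (y : V) u = 0 := fun u hu => LinearMap.congr_fun h0 ⟨u, hu⟩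
    have hperp : D ⊓ polarPerp Q U ≤ U := by
      have hle : U ≤ D ⊓ polarPerp Q U := le_inf hUD fun u hu =>
        mem_polarPerp.2 fun u' hu' => polar_eq_zero_of_singular hU hu' hu
      have hle2 : D ⊓ polarPerp Q U ≤ polarPerp Q (polarPerp Q D ⊔ U) := fun x hx => by
        refine mem_polarPerp.2 fun z hz => ?_
        obtain ⟨a, ha, b, hb, rfl⟩ := Submodule.mem_sup.1 hz
        rw [polar_add_left, polar_comm Q a x, mem_polarPerp.1 ha x hx.1, mem_polarPerp.1 hx.2 b hb,
          add_zero]
      have hQperp : polarPerp Q D ⊓ U = ⊥ := by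
        rw [eq_bot_iff]
        rintro x ⟨hx, hxU⟩
        exact hD.le ⟨hUD hxU, hx⟩
      refine (Submodule.eq_of_le_of_finrank_le hle ?_).ge
      -- the orthogonal of `U` inside `D`
      have h1 := Submodule.finrank_mono hle2
      by_cases hQ : (polarBilin Q).Nondegenerate
      · have h2 := finrank_polarPerp hQ (polarPerp Q D ⊔ U)
        have h3 := finrank_polarPerp hQ D
        have h4 := Submodule.finrank_sup_add_finrank_inf_eq (polarPerp Q D) U
        rw [hQperp, finrank_bot] at h4
        omega
      · let φ : D →ₗ[F] Module.Dual F D := ((polarBilin Q).compl₂ D.subtype).comp D.subtype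
        have hφ : Function.Injective φ := by
          refine (injective_iff_map_eq_zero φ).2 fun x hx => Subtype.ext ?_
          have hm : (x : V) ∈ D ⊓ polarPerp Q D := ⟨x.2, mem_polarPerp.2 fun z hz => by
            rw [polar_comm]; exact LinearMap.congr_fun hx ⟨z, hz⟩⟩
          rw [hD, Submodule.mem_bot] at hm
          exact hm
        let ψ : D →ₗ[F] Module.Dual F U := ((polarBilin Q).compl₂ U.subtype).comp D.subtype
        have hψ : Function.Surjective ψ := by
          intro θ
          obtain ⟨θ', hθ'⟩ := LinearMap.exists_extend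
            (θ.comp (Submodule.comapSubtypeEquivOfLe hUD).toLinearMap)
          obtain ⟨x, hx⟩ := (LinearMap.injective_iff_surjective_of_finrank_eq_finrank
            (Subspace.dual_finrank_eq (K := F) (V := D)).symm).1 hφ θ'
          refine ⟨x, LinearMap.ext fun u => ?_⟩
          have e1 := LinearMap.congr_fun hx (⟨(u : V), hUD u.2⟩ : D)
          have e2 := LinearMap.congr_fun hθ' ⟨⟨(u : V), hUD u.2⟩, u.2⟩
          simp only [LinearMap.comp_apply, Submodule.subtype_apply, LinearEquiv.coe_coe] at e2
          exact (e1.trans e2).trans (congrArg θ (Subtype.ext rfl))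
        have h2 := LinearMap.finrank_range_add_finrank_ker ψ
        rw [LinearMap.range_eq_top.2 hψ, finrank_top, Subspace.dual_finrank_eq] at h2
        have h3 : (LinearMap.ker ψ).map D.subtype = D ⊓ polarPerp Q U := by
          ext x
          constructor
          · rintro ⟨z, hz, rfl⟩
            exact ⟨z.2, mem_polarPerp.2 fun u hu => by
              rw [polar_comm]; exact LinearMap.congr_fun (LinearMap.mem_ker.1 hz) ⟨u, hu⟩⟩
          · rintro ⟨hx, hx'⟩
            exact ⟨⟨x, hx⟩, LinearMap.mem_ker.2 (LinearMap.ext fun u => by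
              show polar Q x (u : V) = 0
              rw [polar_comm]; exact mem_polarPerp.1 hx' u u.2), rfl⟩
        rw [← h3, Submodule.finrank_map_subtype_eq]
        omega
    have hyU : (y : V) ∈ U := hperp ⟨y.2.1, mem_polarPerp.2 fun u hu => by rw [polar_comm]; exact hy u hu⟩
    exact hy0 (Subtype.ext (Submodule.disjoint_def.1 hC₀.disjoint _ hyU y.2.2))
  have hbij : Function.Bijective fun p : C × U =>
      (⟨(p.1 : V) + p.2, D.add_mem p.1.2.1 (hUD p.2.2)⟩ : D) := by
    constructor
    · rintro ⟨a, b⟩ ⟨a', b'⟩ hab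
      have hab' : (a : V) + b = a' + b' := congrArg Subtype.val hab
      have h0 : (b : V) - b' = 0 := Submodule.disjoint_def.1 hC₀.disjoint _ (U.sub_mem b.2 b'.2) (by
        rw [show (b : V) - b' = a' - a by linear_combination (norm := abel) hab']
        exact C₀.sub_mem a'.2.2 a.2.2)
      have hb : b = b' := Subtype.ext (sub_eq_zero.1 h0)
      subst hb
      exact Prod.ext (Subtype.ext (add_right_cancel hab')) rfl
    · rintro ⟨x, hx⟩
      obtain ⟨u, hu, y, hy, rfl⟩ := hsum x hx
      exact ⟨(⟨y, hy⟩, ⟨u, hu⟩), Subtype.ext (add_comm _ _)⟩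
  let e := Equiv.ofBijective _ hbij
  have e2 : {p : C × U // Q (p.1 : V) + polar Q (p.1 : V) (p.2 : V) = c} ≃ {v : D // Q (v : V) = c} :=
    Equiv.subtypeEquiv e fun p => by
      show _ ↔ Q ((p.1 : V) + p.2) = c
      rw [CfsgLib.Geometry.map_add', hU _ p.2.2, add_zero]
  have e3 : {p : C × U // Q (p.1 : V) + polar Q (p.1 : V) (p.2 : V) = c} ≃
      (Σ y : C, {u : U // ((polarBilin Q (y : V)).comp U.subtype) u = c - Q (y : V)}) :=
    { toFun := fun p => ⟨p.1.1, p.1.2, eq_sub_of_add_eq' p.2⟩
      invFun := fun x => ⟨(x.1, x.2.1), by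
        show Q (x.1 : V) + polar Q (x.1 : V) (x.2.1 : V) = c
        rw [show polar Q (x.1 : V) (x.2.1 : V) = c - Q (x.1 : V) from x.2.2]; ring⟩
      left_inv := fun p => rfl
      right_inv := fun x => rfl }
  haveI := Fintype.ofFinite C
  have hCk : Module.finrank F C = k := by
    have h1 : (Nat.card C * Nat.card U) = Nat.card D := by rw [← Nat.card_prod, Nat.card_congr e]
    rw [natCard_submodule, natCard_submodule, natCard_submodule, hd, hUk, ← pow_add] at h1
    have := Nat.pow_right_injective Fintype.one_lt_card h1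
    omega
  rw [fib, ← Nat.card_congr e2, Nat.card_congr e3, Nat.card_sigma, natCard_submodule, hd,
    Nat.cast_sum, Nat.cast_pow]
  rw [Finset.mul_sum, Finset.sum_eq_add_sum_sdiff_singleton_of_mem (Finset.mem_univ (0 : C))]
  have h0 : (Nat.card {u : U // ((polarBilin Q ((0 : C) : V)).comp U.subtype) u = c - Q ((0 : C) : V)} : ℤ)
      = if c = 0 then (Fintype.card F : ℤ) ^ k else 0 := by
    simp only [ZeroMemClass.coe_zero, map_zero, LinearMap.zero_comp, LinearMap.zero_apply,
      QuadraticMap.map_zero, sub_zero]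
    split_ifs with hc
    · rw [Nat.card_congr (Equiv.subtypeUnivEquiv fun _ => hc.symm), natCard_submodule, hUk]; push_cast; ring
    · haveI : IsEmpty {u : U // (0 : F) = c} := ⟨fun u => hc u.2.symm⟩
      simp
  rw [h0, Finset.sum_congr rfl (g := fun _ => (Fintype.card F : ℤ) ^ k) fun y hy => ?_, Finset.sum_const]
  · rw [Finset.card_sdiff, show Finset.univ.card = Fintype.card F ^ k by
      rw [Finset.card_univ, ← Nat.card_eq_fintype_card, natCard_submodule, hCk]]
    have hpos : 1 ≤ Fintype.card F ^ k := Nat.one_le_pow _ _ Fintype.card_pos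
    simp [delta, Nat.cast_sub hpos]
    split_ifs <;> ring
  · have := card_fibre_functional (hnz y (by simpa using hy)) (c - Q (y : V))
    rw [hUk] at this
    exact_mod_cast this

end CfsgLib.OrthPrime
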