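import Cfsg.Agent.Lib.OrthPrime.Model

/-! Which invariant subspaces every isometry of a given odd prime order has. -/

set_option autoImplicit false

namespace CfsgLib.OrthPrime

open QuadraticMap Polynomial CfsgLib.Geometry CfsgLib.OrthMax CfsgLib.PrimeOrderSp CfsgLib.KnownB.PrimeOrder

universe u v

/-- `N` minimal constituents fit into dimension `n` and type `e`. -/
def Valid (n : ℕ) (e : ℤ) (i N : ℕ) : Prop :=
  1 ≤ N ∧ (N * (unit i * i) < n ∨ (N * (unit i * i) = n ∧ e = (-1) ^ (N * unit i)))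

/-- The largest totally singular invariant multiplicity all elements have. -/
def tsMax (r i N : ℕ) : ℕ := if Even i then (N - (r - 1) / i + 1) / 2 else N

/-- Condition for an invariant totally singular subspace. -/
def TSCond (n : ℕ) (e : ℤ) (r i N m : ℕ) : Prop :=
  ∃ a b, m = a + b * i ∧ b ≤ tsMax r i N ∧
    (2 * a < n - N * (unit i * i) ∨ (2 * a = n - N * (unit i * i) ∧ e * (-1) ^ (N * unit i) = 1))

/-- Condition for an invariant non-degenerate subspace of even dimension and type `s`. -/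
def NDCond (n : ℕ) (e : ℤ) (i N m : ℕ) (s : ℤ) : Prop :=
  ∃ a b, m = a + b * (unit i * i) ∧ b ≤ N ∧ a ≤ n - N * (unit i * i) ∧
    (a = 0 → s = (-1) ^ (b * unit i)) ∧
    (a = n - N * (unit i * i) → s = e * (-1) ^ (N * unit i) * (-1) ^ (b * unit i))

/-- Condition for an invariant non-degenerate subspace of odd dimension. -/
def NDOddCond (n i N m : ℕ) : Prop :=
  ∃ a b, m = a + b * (unit i * i) ∧ b ≤ N ∧ a < n - N * (unit i * i)

theorem even_unit_mul (i : ℕ) : Even (unit i * i) := by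
  by_cases hev : Even i
  · exact hev.mul_left _
  · rw [unit, if_neg hev]; exact even_two_mul i

theorem nondeg_sup {F : Type u} [Field F] {V : Type v} [AddCommGroup V] [Module F V] {Q : QuadraticForm F V}
    {A B : Submodule F V} (hA : A ⊓ polarPerp Q A = ⊥) (hB : B ⊓ polarPerp Q B = ⊥)
    (ho : ∀ a ∈ A, ∀ b ∈ B, polar Q a b = 0) :
    (A ⊔ B) ⊓ polarPerp Q (A ⊔ B) = ⊥ ∧ Disjoint A B := by
  have hd : Disjoint A B := disjoint_iff_inf_le.2 fun x hx =>
    hA.le ⟨hx.1, mem_polarPerp.2 fun a ha' => ho a ha' x hx.2⟩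
  refine ⟨?_, hd⟩
  rw [eq_bot_iff]
  rintro x ⟨hx, hx'⟩
  obtain ⟨a, ha, b, hb, rfl⟩ := Submodule.mem_sup.1 hx
  have e1 : a ∈ A ⊓ polarPerp Q A := ⟨ha, mem_polarPerp.2 fun z hz => by
    have := mem_polarPerp.1 hx' z (Submodule.mem_sup_left hz)
    rwa [polar_add_right, ho z hz b hb, add_zero] at this⟩
  have e2 : b ∈ B ⊓ polarPerp Q B := ⟨hb, mem_polarPerp.2 fun z hz => by
    have := mem_polarPerp.1 hx' z (Submodule.mem_sup_right hz)
    rwa [polar_add_right, polar_comm Q z a, ho a ha z hz, zero_add] at this⟩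
  rw [hA, Submodule.mem_bot] at e1
  rw [hB, Submodule.mem_bot] at e2
  simp [e1, e2]

variable {F : Type u} [Field F] [Fintype F] [DecidableEq F] {V : Type v} [AddCommGroup V] [Module F V]
variable [FiniteDimensional F V] {Q : QuadraticForm F V} {r : ℕ} [Fact r.Prime]

/-- The invariants of an isometry. -/
structure Shape (Q : QuadraticForm F V) (f : Module.End F V) (i N : ℕ) : Prop where
  fixNd : fixSp f ⊓ polarPerp Q (fixSp f) = ⊥
  movNd : movSp f ⊓ polarPerp Q (movSp f) = ⊥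
  orth : ∀ a ∈ fixSp f, ∀ b ∈ movSp f, polar Q a b = 0
  movDim : Module.finrank F (movSp f) = N * (unit i * i)
  movSgn : sgn Q (movSp f) = (-1) ^ (N * unit i)
  fixDim : Module.finrank F (fixSp f) = Module.finrank F V - N * (unit i * i)
  le : N * (unit i * i) ≤ Module.finrank F V
  fixSgn : Even (Module.finrank F (fixSp f)) → sgn Q (fixSp f) = sgn Q ⊤ * (-1) ^ (N * unit i)
  sub : ∀ b ≤ N, ∃ E ≤ movSp f, Inv f E ∧ E ⊓ polarPerp Q E = ⊥ ∧
    Module.finrank F E = b * (unit i * i) ∧ sgn Q E = (-1) ^ (b * unit i)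

variable (hQ : (polarBilin Q).Nondegenerate) (hr : (r : F) ≠ 0) (hr2 : r ≠ 2) {i : ℕ}
  (hi : orderOf ((Fintype.card F : ℕ) : ZMod r) = i)
include hQ hr hr2 hi

theorem exists_shape {f : Module.End F V} (hf : ∀ v, Q (f v) = Q v) (hfr : f ^ r = 1) :
    ∃ N, Shape Q f i N ∧ (f ≠ 1 → 1 ≤ N) := by
  have h := isHerm_polar hQ
  have hiso := polar_iso (Q := Q) hf
  have hm := nondeg_iff.1 (nondeg_movSp hr hfr h hiso)
  have hx := nondeg_iff.1 (nondeg_fixSp hr hfr h hiso)
  have ho : ∀ a ∈ fixSp f, ∀ b ∈ movSp f, polar Q a b = 0 := fun a ha b hb => (orth_fix_mov h hiso a ha b hb).1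
  obtain ⟨N, hN, hs, hsub⟩ := struct hQ hf hr hr2 hfr le_rfl inv_movSp hm
  rw [hi] at hN hs hsub
  have hsum := Submodule.finrank_add_eq_of_isCompl (isCompl_fix_mov hr hfr)
  refine ⟨N, ⟨hx, hm, ho, hN, hs, by omega, by omega, fun hev => ?_, hsub⟩, fun h1 => ?_⟩
  · have hs2 := sgn_sup hx hm ho hev (hN ▸ (even_unit_mul i).mul_left N)
    rw [(isCompl_fix_mov hr hfr).sup_eq_top] at hs2
    have hsq := sgn_sq (Q := Q) (movSp f)
    rw [hs2, ← hs, mul_assoc, hsq, mul_one]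
  · by_contra hN0
    rw [Nat.not_le, Nat.lt_one_iff] at hN0
    rw [hN0, zero_mul] at hN
    refine h1 (LinearMap.ext fun v => ?_)
    have hv : (f - 1) v ∈ movSp f := ⟨v, rfl⟩
    rw [Submodule.finrank_eq_zero.1 hN, Submodule.mem_bot, LinearMap.sub_apply, sub_eq_zero] at hv
    exact hv

theorem valid_of_shape {f : Module.End F V} {N : ℕ} (hf : ∀ v, Q (f v) = Q v) (hfr : f ^ r = 1)
    (hS : Shape Q f i N) (hN : 1 ≤ N) : Valid (Module.finrank F V) (sgn Q ⊤) i N := by
  refine ⟨hN, hS.le.lt_or_eq.imp id fun h => ⟨h, ?_⟩⟩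
  have htop : movSp f = ⊤ := Submodule.eq_top_of_finrank_eq (hS.movDim.trans h)
  rw [← htop, hS.movSgn]

theorem exists_of_valid {N : ℕ} (hN : Valid (Module.finrank F V) (sgn Q ⊤) i N) :
    ∃ f : Module.End F V, (∀ v, Q (f v) = Q v) ∧ f ^ r = 1 ∧ f ≠ 1 ∧ Shape Q f i N ∧
      (Even i → ∀ W ≤ movSp f, Inv f W → (∀ w ∈ W, Q w = 0) →
        Module.finrank F W ≤ tsMax r i N * i) := by
  have hipos : 0 < i := hi ▸ orderOf_card_pos (F := F) hr
  have hu : 0 < unit i := by unfold unit; split_ifs <;> norm_num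
  obtain ⟨k, hk⟩ := (even_unit_mul i).mul_left N
  obtain ⟨hN1, hle⟩ := hN
  have hkpos : 0 < N * (unit i * i) := Nat.mul_pos hN1 (Nat.mul_pos hu hipos)
  have htop : (⊤ : Submodule F V) ⊓ polarPerp Q ⊤ = ⊥ :=
    nondeg_iff.1 fun u _ hu' => hQ.1 u fun v => hu' v trivial
  obtain ⟨D, -, hD, hDd, hDs⟩ := exists_nd_dim htop (k := k) (s := (-1) ^ (N * unit i))
    (neg_one_pow_eq_or ℤ _) (fun h0 => by omega) (by
      rw [finrank_top]
      rcases hle with h | ⟨h, he⟩
      · exact Or.inl (by omega)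
      · exact Or.inr ⟨by omega, he.symm⟩)
  obtain ⟨f, hf, hfr, hf1, hmov, hb⟩ := exists_isom hQ hr hr2 hi hN1 hD (by rw [hDd]; omega) hDs
  obtain ⟨N', hS, -⟩ := exists_shape hQ hr hr2 hi hf hfr
  have hNN : N' = N := by
    have h1 := hS.movDim
    rw [hmov, hDd, show 2 * k = N * (unit i * i) by omega] at h1
    exact (Nat.eq_of_mul_eq_mul_right (Nat.mul_pos hu hipos) h1).symm
  subst hNN
  refine ⟨f, hf, hfr, hf1, hS, fun hev W hW hWi hW0 => ?_⟩
  rw [tsMax, if_pos hev]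
  exact hb hev W (hmov ▸ hW) hWi hW0

/-- Totally singular invariant subspaces. -/
theorem ts_iff (m : ℕ) :
    (∀ f : Module.End F V, (∀ v, Q (f v) = Q v) → f ^ r = 1 → f ≠ 1 →
      ∃ W : Submodule F V, Module.finrank F W = m ∧ (∀ w ∈ W, Q w = 0) ∧ Inv f W) ↔
    ∀ N, Valid (Module.finrank F V) (sgn Q ⊤) i N → TSCond (Module.finrank F V) (sgn Q ⊤) r i N m := by
  have hipos : 0 < i := hi ▸ orderOf_card_pos (F := F) hr
  constructor
  · intro H N hN
    obtain ⟨f, hf, hfr, hf1, hS, hb⟩ := exists_of_valid hQ hr hr2 hi hN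
    obtain ⟨W, hWd, hW0, hWi⟩ := H f hf hfr hf1
    have hsplit := split_inv hr hfr hWi
    rw [hWd] at hsplit
    obtain ⟨b, hbd⟩ : i ∣ Module.finrank F (W ⊓ movSp f : Submodule F V) :=
      hi ▸ finrank_dvd (isSemisimple_of_pow hr hfr)
        ((killed_movSp hr hfr).mono (hWi.inf inv_movSp) inf_le_right)
    rw [mul_comm] at hbd
    refine ⟨Module.finrank F (W ⊓ fixSp f : Submodule F V), b, by omega, ?_, ?_⟩
    · refine Nat.le_of_mul_le_mul_right (hbd ▸ ?_) hipos
      by_cases hev : Even i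
      · exact hb hev _ inf_le_right (hWi.inf inv_movSp) fun w hw => hW0 w hw.1
      · rw [tsMax, if_neg hev]
        have h2 := two_mul_singular_le hS.movNd (inf_le_right : W ⊓ movSp f ≤ movSp f) fun w hw => hW0 w hw.1
        rw [hS.movDim, unit, if_neg hev, show N * (2 * i) = 2 * (N * i) by ring] at h2
        omega
    · rcases ts_dim_le hS.fixNd (inf_le_right : W ⊓ fixSp f ≤ fixSp f) (fun w hw => hW0 w hw.1) with h | ⟨h, hp⟩
      · exact Or.inl (hS.fixDim ▸ h)
      · refine Or.inr ⟨hS.fixDim ▸ h, ?_⟩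
        rw [← hS.fixSgn (h ▸ even_two_mul _), sgn_plus hp]
  · intro H f hf hfr hf1
    obtain ⟨N, hS, hN1⟩ := exists_shape hQ hr hr2 hi hf hfr
    obtain ⟨a, b, hm, hb, ha⟩ := H N (valid_of_shape hQ hr hr2 hi hf hfr hS (hN1 hf1))
    obtain ⟨J, hJ, hsub⟩ := exists_ts hQ hf hr hr2 hfr le_rfl inv_movSp hS.movNd
    rw [hi] at hJ hsub
    have hbJ : b ≤ J := by
      rw [hS.movDim] at hJ
      by_cases hev : Even i
      · rw [if_pos hev, unit, if_pos hev, one_mul] at hJ
        rw [tsMax, if_pos hev] at hb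
        have := Nat.le_of_mul_le_mul_right hJ hipos
        omega
      · rw [if_neg hev, add_zero, unit, if_neg hev, show N * (2 * i) = 2 * N * i by ring] at hJ
        rw [tsMax, if_neg hev] at hb
        have := Nat.le_of_mul_le_mul_right hJ hipos
        omega
    obtain ⟨B, hBle, hBi, hB0, hBd⟩ := hsub b hbJ
    obtain ⟨A, hAle, hA0, hAd⟩ := exists_ts_dim hS.fixNd (a := a) (by
      rcases ha with h | ⟨h, he⟩
      · exact Or.inl (hS.fixDim ▸ h)
      · refine Or.inr ⟨hS.fixDim ▸ h, plus_iff_sgn.2 ?_⟩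
        rw [hS.fixSgn ⟨a, by rw [hS.fixDim]; omega⟩, he])
    refine ⟨A ⊔ B, ?_, fun w hw => ?_, ?_⟩
    · have h1 := Submodule.finrank_sup_add_finrank_inf_eq A B
      rw [((isCompl_fix_mov hr hfr).disjoint.mono hAle hBle).eq_bot, finrank_bot, hAd, hBd] at h1
      omega
    · obtain ⟨x, hx, y, hy, rfl⟩ := Submodule.mem_sup.1 hw
      rw [CfsgLib.Geometry.map_add', hA0 x hx, hB0 y hy, hS.orth x (hAle hx) y (hBle hy)]
      ring
    · refine Inv.sup (fun v hv => ?_) hBi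
      rwa [mem_fixSp.1 (hAle hv)]

/-- Non-degenerate invariant subspaces of even dimension and given type. -/
theorem nd_iff {m : ℕ} (hm : Even m) (s : ℤ) (hs : s = 1 ∨ s = -1) :
    (∀ f : Module.End F V, (∀ v, Q (f v) = Q v) → f ^ r = 1 → f ≠ 1 →
      ∃ W : Submodule F V, Module.finrank F W = m ∧ W ⊓ polarPerp Q W = ⊥ ∧ sgn Q W = s ∧ Inv f W) ↔
    ∀ N, Valid (Module.finrank F V) (sgn Q ⊤) i N → NDCond (Module.finrank F V) (sgn Q ⊤) i N m s := by
  have hipos : 0 < i := hi ▸ orderOf_card_pos (F := F) hr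
  have hu : 0 < unit i := by unfold unit; split_ifs <;> norm_num
  constructor
  · intro H N hN
    obtain ⟨f, hf, hfr, hf1, hS, -⟩ := exists_of_valid hQ hr hr2 hi hN
    obtain ⟨W, hWd, hWn, hWs, hWi⟩ := H f hf hfr hf1
    have hsplit := split_inv hr hfr hWi
    rw [hWd] at hsplit
    set A := W ⊓ fixSp f
    set B := W ⊓ movSp f
    have hsupW : A ⊔ B = W := by
      refine Submodule.eq_of_le_of_finrank_eq (sup_le inf_le_left inf_le_left) ?_
      have h1 := Submodule.finrank_sup_add_finrank_inf_eq A B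
      rw [((isCompl_fix_mov hr hfr).disjoint.mono (inf_le_right : A ≤ _) (inf_le_right : B ≤ _)).eq_bot,
        finrank_bot] at h1
      omega
    have ho : ∀ a ∈ A, ∀ b ∈ B, polar Q a b = 0 := fun a ha b hb => hS.orth a ha.2 b hb.2
    have hAn : A ⊓ polarPerp Q A = ⊥ := by
      rw [eq_bot_iff]
      rintro x ⟨hx, hx'⟩
      refine hWn.le ⟨hx.1, mem_polarPerp.2 fun z hz => ?_⟩
      obtain ⟨a, ha, b, hb, rfl⟩ := Submodule.mem_sup.1 (hsupW.symm ▸ hz : z ∈ A ⊔ B)
      rw [polar_add_left, mem_polarPerp.1 hx' a ha, polar_comm Q b x, ho x hx b hb, add_zero]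
    have hBn : B ⊓ polarPerp Q B = ⊥ := by
      rw [eq_bot_iff]
      rintro x ⟨hx, hx'⟩
      refine hWn.le ⟨hx.1, mem_polarPerp.2 fun z hz => ?_⟩
      obtain ⟨a, ha, b, hb, rfl⟩ := Submodule.mem_sup.1 (hsupW.symm ▸ hz : z ∈ A ⊔ B)
      rw [polar_add_left, mem_polarPerp.1 hx' b hb, ho a ha x hx, add_zero]
    obtain ⟨b, hbd, hbs, -⟩ := struct hQ hf hr hr2 hfr (inf_le_right : B ≤ movSp f) (hWi.inf inv_movSp) hBn
    rw [hi] at hbd hbs
    have hBev : Even (Module.finrank F B) := hbd ▸ (even_unit_mul i).mul_left b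
    have hAev : Even (Module.finrank F A) := by
      rw [hsplit, Nat.even_add] at hm
      exact hm.2 hBev
    have hss := sgn_sup hAn hBn ho hAev hBev
    rw [hsupW, hWs, hbs] at hss
    have hbd' : Module.finrank F B = b * (unit i * i) := hbd
    have hsp' : m = Module.finrank F A + Module.finrank F B := hsplit
    refine ⟨Module.finrank F A, b, by omega, ?_, hS.fixDim ▸ Submodule.finrank_mono inf_le_right, fun h0 => ?_,
      fun h0 => ?_⟩
    · have := Submodule.finrank_mono (inf_le_right : B ≤ movSp f)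
      rw [hbd, hS.movDim] at this
      exact Nat.le_of_mul_le_mul_right this (Nat.mul_pos hu hipos)
    · rw [hss, Submodule.finrank_eq_zero.1 h0, sgn_bot, one_mul]
    · have hAfix : A = fixSp f := Submodule.eq_of_le_of_finrank_eq inf_le_right (h0.trans hS.fixDim.symm)
      rw [hss, hAfix, hS.fixSgn (hAfix ▸ hAev)]
  · intro H f hf hfr hf1
    obtain ⟨N, hS, hN1⟩ := exists_shape hQ hr hr2 hi hf hfr
    obtain ⟨a, b, hmab, hb, ha, ha0, haf⟩ := H N (valid_of_shape hQ hr hr2 hi hf hfr hS (hN1 hf1))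
    obtain ⟨k, hk⟩ : Even a := by
      rw [hmab, Nat.even_add] at hm
      exact hm.2 ((even_unit_mul i).mul_left b)
    obtain ⟨B, hBle, hBi, hBn, hBd, hBs⟩ := hS.sub b hb
    have hsq : ((-1 : ℤ) ^ (b * unit i)) * (-1) ^ (b * unit i) = 1 := by
      rw [← mul_pow, neg_one_mul, neg_neg, one_pow]
    obtain ⟨A, hAle, hAn, hAd, hAs⟩ := exists_nd_dim hS.fixNd (k := k) (s := s * (-1) ^ (b * unit i))
      (by rcases hs with h | h <;> rcases neg_one_pow_eq_or ℤ (b * unit i) with h' | h' <;> simp [h, h'])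
      (fun h0 => by rw [ha0 (by omega), hsq]) (by
        rcases ha.lt_or_eq with h | h
        · exact Or.inl (by rw [hS.fixDim]; omega)
        · refine Or.inr ⟨by rw [hS.fixDim]; omega, ?_⟩
          rw [haf h, mul_assoc, hsq, mul_one, hS.fixSgn ⟨k, by rw [hS.fixDim]; omega⟩])
    have ho : ∀ x ∈ A, ∀ y ∈ B, polar Q x y = 0 := fun x hx y hy => hS.orth x (hAle hx) y (hBle hy)
    obtain ⟨hn, hd⟩ := nondeg_sup hAn hBn ho
    refine ⟨A ⊔ B, ?_, hn, ?_, Inv.sup (fun v hv => by rwa [mem_fixSp.1 (hAle hv)]) hBi⟩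
    · have h1 := Submodule.finrank_sup_add_finrank_inf_eq A B
      rw [hd.eq_bot, finrank_bot, hAd, hBd] at h1
      omega
    · rw [sgn_sup hAn hBn ho (hAd ▸ even_two_mul k) (hBd ▸ (even_unit_mul i).mul_left b), hAs, hBs, mul_assoc,
        hsq, mul_one]

/-- Non-degenerate invariant subspaces of odd dimension in a given class. -/
theorem nd_odd_iff (h2 : (2 : F) ≠ 0) (hn : Even (Module.finrank F V)) {m : ℕ} (hm : Odd m)
    {W₀ : Submodule F V} (hW₀ : W₀ ⊓ polarPerp Q W₀ = ⊥) (hW₀d : Module.finrank F W₀ = m) :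
    (∀ f : Module.End F V, (∀ v, Q (f v) = Q v) → f ^ r = 1 → f ≠ 1 →
      ∃ W : Submodule F V, Module.finrank F W = m ∧ W ⊓ polarPerp Q W = ⊥ ∧
        (∃ e : W ≃ₗ[F] W₀, ∀ w : W, Q (e w : V) = Q (w : V)) ∧ Inv f W) ↔
    ∀ N, Valid (Module.finrank F V) (sgn Q ⊤) i N → NDOddCond (Module.finrank F V) i N m := by
  have hipos : 0 < i := hi ▸ orderOf_card_pos (F := F) hr
  have hu : 0 < unit i := by unfold unit; split_ifs <;> norm_num
  constructor
  · intro H N hN
    obtain ⟨f, hf, hfr, hf1, hS, -⟩ := exists_of_valid hQ hr hr2 hi hN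
    obtain ⟨W, hWd, hWn, -, hWi⟩ := H f hf hfr hf1
    have hsplit := split_inv hr hfr hWi
    rw [hWd] at hsplit
    set A := W ⊓ fixSp f
    set B := W ⊓ movSp f
    have hsupW : A ⊔ B = W := by
      refine Submodule.eq_of_le_of_finrank_eq (sup_le inf_le_left inf_le_left) ?_
      have h1 := Submodule.finrank_sup_add_finrank_inf_eq A B
      rw [((isCompl_fix_mov hr hfr).disjoint.mono (inf_le_right : A ≤ _) (inf_le_right : B ≤ _)).eq_bot,
        finrank_bot] at h1
      omega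
    have hBn : B ⊓ polarPerp Q B = ⊥ := by
      rw [eq_bot_iff]
      rintro x ⟨hx, hx'⟩
      refine hWn.le ⟨hx.1, mem_polarPerp.2 fun z hz => ?_⟩
      obtain ⟨a, ha, b, hb, rfl⟩ := Submodule.mem_sup.1 (hsupW.symm ▸ hz : z ∈ A ⊔ B)
      rw [polar_add_left, mem_polarPerp.1 hx' b hb, hS.orth a ha.2 x hx.2, add_zero]
    obtain ⟨b, hbd, -, -⟩ := struct hQ hf hr hr2 hfr (inf_le_right : B ≤ movSp f) (hWi.inf inv_movSp) hBn
    rw [hi] at hbd
    have hbd' : Module.finrank F B = b * (unit i * i) := hbd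
    have hsp' : m = Module.finrank F A + Module.finrank F B := hsplit
    refine ⟨Module.finrank F A, b, by omega, ?_, ?_⟩
    · have := Submodule.finrank_mono (inf_le_right : B ≤ movSp f)
      rw [hbd, hS.movDim] at this
      exact Nat.le_of_mul_le_mul_right this (Nat.mul_pos hu hipos)
    · refine lt_of_le_of_ne (hS.fixDim ▸ Submodule.finrank_mono inf_le_right) fun h => ?_
      obtain ⟨k, hk⟩ := (even_unit_mul i).mul_left N
      obtain ⟨l, hl⟩ := (even_unit_mul i).mul_left b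
      obtain ⟨p, hp⟩ := hn
      obtain ⟨o, ho⟩ := hm
      omega
  · intro H f hf hfr hf1
    obtain ⟨N, hS, hN1⟩ := exists_shape hQ hr hr2 hi hf hfr
    obtain ⟨a, b, hmab, hb, ha⟩ := H N (valid_of_shape hQ hr hr2 hi hf hfr hS (hN1 hf1))
    obtain ⟨B, hBle, hBi, hBn, hBd, hBs⟩ := hS.sub b hb
    obtain ⟨k, hk⟩ := (even_unit_mul i).mul_left b
    have hlt : 2 * k < m := by obtain ⟨o, ho⟩ := hm; omega
    obtain ⟨B₀, hB₀le, hB₀n, hB₀d, hB₀s⟩ := exists_nd_dim hW₀ (k := k) (s := (-1) ^ (b * unit i))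
      (neg_one_pow_eq_or ℤ _) (fun h0 => by
        have hb0 : b * (unit i * i) = 0 := by omega
        have : b = 0 := by simpa [hu.ne', hipos.ne'] using hb0
        simp [this]) (Or.inl (by omega))
    obtain ⟨e, he⟩ := exists_isometry_sub hB₀n hBn (k := k) hB₀d (by omega) (by rw [hB₀s, hBs])
    obtain ⟨hA₀n, hA₀dis, hA₀sup, hA₀o, hA₀d⟩ := exists_orth_compl hW₀ hB₀le hB₀n
    set A₀ := W₀ ⊓ polarPerp Q B₀
    obtain ⟨g, hg, hgr, hgQ⟩ := exists_nd_isometric h2 hS.fixNd (nondeg_comp hA₀n) (by rw [hS.fixDim]; omega)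
    -- the combined embedding
    let B₁ : Submodule F W₀ := B₀.comap W₀.subtype
    let A₁ : Submodule F W₀ := A₀.comap W₀.subtype
    have hc : IsCompl B₁ A₁ := by
      refine ⟨disjoint_iff.2 (eq_bot_iff.2 fun x hx => Subtype.ext
        (Submodule.disjoint_def.1 hA₀dis _ hx.1 hx.2)), codisjoint_iff.2 (eq_top_iff.2 fun x _ => ?_)⟩
      obtain ⟨p, hp, q, hq, hpq⟩ := Submodule.mem_sup.1 (hA₀sup.symm ▸ x.2 : (x : V) ∈ B₀ ⊔ A₀)
      exact Submodule.mem_sup.2 ⟨⟨p, hB₀le hp⟩, hp, ⟨q, hq.1⟩, hq, Subtype.ext hpq⟩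
    let φ : W₀ →ₗ[F] V := LinearMap.coprod
      (B.subtype ∘ₗ e.toLinearMap ∘ₗ (Submodule.comapSubtypeEquivOfLe hB₀le).toLinearMap)
      (g ∘ₗ (Submodule.comapSubtypeEquivOfLe (inf_le_left : A₀ ≤ W₀)).toLinearMap) ∘ₗ
      (Submodule.prodEquivOfIsCompl B₁ A₁ hc).symm.toLinearMap
    have hφ : ∀ (p : B₁) (q : A₁), φ ((p : W₀) + q) =
        (e (Submodule.comapSubtypeEquivOfLe hB₀le p) : V) + g (Submodule.comapSubtypeEquivOfLe inf_le_left q) := by
      intro p q
      have hP : Submodule.prodEquivOfIsCompl B₁ A₁ hc (p, q) = (p : W₀) + q := by simp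
      have hP' : (Submodule.prodEquivOfIsCompl B₁ A₁ hc).symm ((p : W₀) + q) = (p, q) :=
        (LinearEquiv.symm_apply_eq _).2 hP.symm
      simp only [φ, LinearMap.comp_apply, LinearEquiv.coe_coe, hP', LinearMap.coprod_apply,
        Submodule.subtype_apply]
    have hdec : ∀ x : W₀, ∃ (p : B₁) (q : A₁), (p : W₀) + q = x := fun x =>
      ⟨((Submodule.prodEquivOfIsCompl B₁ A₁ hc).symm x).1, ((Submodule.prodEquivOfIsCompl B₁ A₁ hc).symm x).2,
        by have := (Submodule.prodEquivOfIsCompl B₁ A₁ hc).apply_symm_apply x; simpa using this⟩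
    have hgfix : ∀ x, g x ∈ fixSp f := fun x => hgr ⟨x, rfl⟩
    have hφQ : ∀ x : W₀, Q (φ x) = Q (x : V) := fun x => by
      obtain ⟨p, q, rfl⟩ := hdec x
      rw [hφ, Submodule.coe_add, CfsgLib.Geometry.map_add', CfsgLib.Geometry.map_add', he, hgQ,
        polar_comm Q (e _ : V), hS.orth _ (hgfix _) _ (hBle (Subtype.coe_prop _)), show polar Q (((p : W₀) : V)) (((q : W₀) : V)) = 0 from hA₀o _ p.2 _ q.2]
      rfl
    have hinj : Function.Injective φ := (injective_iff_map_eq_zero φ).2 fun x hx => by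
      have hm' : (x : V) ∈ W₀ ⊓ polarPerp Q W₀ := ⟨x.2, mem_polarPerp.2 fun z hz => by
        have h1 : ∀ y : W₀, polar Q (φ y) (φ x) = polar Q (y : V) (x : V) := fun y => by
          simp only [polar, ← map_add, hφQ, Submodule.coe_add]
        rw [← h1 ⟨z, hz⟩, hx, polar_zero_right]⟩
      rw [hW₀, Submodule.mem_bot] at hm'
      exact Subtype.ext hm'
    refine ⟨LinearMap.range φ, by rw [LinearMap.finrank_range_of_inj hinj, hW₀d], ?_,
      ⟨(LinearEquiv.ofInjective φ hinj).symm, fun w => ?_⟩, ?_⟩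
    · rw [eq_bot_iff]
      rintro _ ⟨⟨x, rfl⟩, hx⟩
      have hm' : (x : V) ∈ W₀ ⊓ polarPerp Q W₀ := ⟨x.2, mem_polarPerp.2 fun z hz => by
        have h1 : polar Q (φ ⟨z, hz⟩) (φ x) = polar Q z (x : V) := by
          simp only [polar, ← map_add, hφQ, Submodule.coe_add]
        rw [← h1]
        exact mem_polarPerp.1 hx _ ⟨_, rfl⟩⟩
      rw [hW₀, Submodule.mem_bot] at hm'
      rw [Submodule.mem_bot, show x = 0 from Subtype.ext hm', map_zero]
    · rw [← hφQ]
      exact congrArg (fun y => Q y) (congrArg Subtype.val ((LinearEquiv.ofInjective φ hinj).apply_symm_apply w))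
    · rintro _ ⟨x, rfl⟩
      obtain ⟨p, q, rfl⟩ := hdec x
      rw [hφ, map_add, mem_fixSp.1 (hgfix _)]
      obtain ⟨y, hy⟩ : ∃ y : B, (y : V) = f (e (Submodule.comapSubtypeEquivOfLe hB₀le p) : V) :=
        ⟨⟨_, hBi _ (Subtype.coe_prop _)⟩, rfl⟩
      refine ⟨(((Submodule.comapSubtypeEquivOfLe hB₀le).symm (e.symm y) : B₁) : W₀) + q, ?_⟩
      rw [hφ, LinearEquiv.apply_symm_apply, e.apply_symm_apply, hy]

omit hi in
/-- An isometry of order `r` exists when `r` divides the size of an orbit. -/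
theorem exists_of_dvd {W₀ : Submodule F V}
    (hd : r ∣ Nat.card {W : Submodule F V // ∃ e : W₀ ≃ₗ[F] W, ∀ w : W₀, Q (e w : V) = Q (w : V)}) :
    ∃ f : Module.End F V, (∀ v, Q (f v) = Q v) ∧ f ^ r = 1 ∧ f ≠ 1 := by
  open Pointwise in
  haveI : Finite V := Module.finite_of_finite F
  haveI : Finite (V ≃ₗ[F] V) := DFunLike.finite _
  have horb : {W : Submodule F V | ∃ e : W₀ ≃ₗ[F] W, ∀ w : W₀, Q (e w : V) = Q (w : V)} =
      MulAction.orbit (orth Q) W₀ := by
    ext W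
    constructor
    · rintro ⟨e, he⟩
      obtain ⟨g, hg, hge⟩ := quad_witt hQ W₀ (W.subtype ∘ₗ e.toLinearMap)
        (W.subtype_injective.comp e.injective) he
      refine ⟨⟨g, hg⟩, ?_⟩
      ext x
      constructor
      · intro hx
        obtain ⟨w, hw, rfl⟩ := Submodule.mem_map.1 hx
        have := hge ⟨w, hw⟩
        show g w ∈ W
        rw [this]
        exact Subtype.coe_prop _
      · intro hx
        obtain ⟨w, hw⟩ := e.surjective ⟨x, hx⟩
        refine Submodule.mem_map.2 ⟨(w : V), w.2, ?_⟩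
        show g (w : V) = x
        rw [hge w]
        exact congrArg Subtype.val hw
    · rintro ⟨⟨g, hg⟩, rfl⟩
      exact ⟨g.submoduleMap W₀, fun w => mem_orth.1 hg _⟩
  haveI : Finite (orth Q) := inferInstance
  have hdiv : r ∣ Nat.card (orth Q) := by
    refine hd.trans ?_
    rw [show Nat.card {W : Submodule F V // ∃ e : W₀ ≃ₗ[F] W, ∀ w : W₀, Q (e w : V) = Q (w : V)} =
      Nat.card (MulAction.orbit (orth Q) W₀) from Nat.card_congr (Equiv.setCongr horb),
      ← Nat.card_congr (MulAction.orbitEquivQuotientStabilizer (orth Q) W₀).symm]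
    exact Subgroup.card_quotient_dvd_card _
  obtain ⟨g, hg⟩ := exists_prime_orderOf_dvd_card' r hdiv
  refine ⟨((g : V ≃ₗ[F] V) : V →ₗ[F] V), fun v => mem_orth.1 g.2 v, ?_, fun h1 => ?_⟩
  · have h1 : ∀ k : ℕ, ∀ v, (((g : V ≃ₗ[F] V) : V →ₗ[F] V) ^ k) v = ((g ^ k : orth Q) : V ≃ₗ[F] V) v := fun k => by
      induction k with
      | zero => intro v; rfl
      | succ k ih =>
        intro v
        rw [pow_succ', pow_succ', Module.End.mul_apply, ih]
        rfl
    refine LinearMap.ext fun v => ?_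
    rw [h1, ← hg, pow_orderOf_eq_one]
    rfl
  · have : g = 1 := Subtype.ext (LinearEquiv.ext fun v => LinearMap.congr_fun h1 v)
    rw [this, orderOf_one] at hg
    exact (Fact.out : r.Prime).one_lt.ne hg

/-- When `r` divides an orbit size, some admissible shape exists. -/
theorem exists_valid_of_dvd {W₀ : Submodule F V}
    (hd : r ∣ Nat.card {W : Submodule F V // ∃ e : W₀ ≃ₗ[F] W, ∀ w : W₀, Q (e w : V) = Q (w : V)}) :
    ∃ N, Valid (Module.finrank F V) (sgn Q ⊤) i N := by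
  obtain ⟨f, hf, hfr, hf1⟩ := exists_of_dvd hQ hr hr2 hd
  obtain ⟨N, hS, hN⟩ := exists_shape hQ hr hr2 hi hf hfr
  exact ⟨N, valid_of_shape hQ hr hr2 hi hf hfr hS (hN hf1)⟩

end CfsgLib.OrthPrime
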