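import Mathlib.Algebra.QuadraticAlgebra.Basic
import Cfsg.Agent.Lib.Geometry.FormClass
import Cfsg.Agent.Lib.Geometry.Quadratic

/-! Quadratic spaces with a self-adjoint square root of a non-square: the form over the quadratic extension. -/

set_option autoImplicit false

namespace CfsgLib.OrthPrime.FieldExt

open QuadraticMap CfsgLib.Geometry

universe u v

variable {F : Type u} [Field F] {ν : F}


theorem fact_of_not_square (hν : ¬ IsSquare ν) : Fact (∀ r : F, r ^ 2 ≠ ν + 0 * r) :=
  ⟨fun r h => hν ⟨r, by rw [← pow_two, h]; ring⟩⟩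

instance finite_ext [Finite F] : Finite (QuadraticAlgebra F ν 0) := Finite.of_equiv _ (QuadraticAlgebra.equivProd ν 0).symm

theorem natCard_ext [Finite F] : Nat.card (QuadraticAlgebra F ν 0) = Nat.card F ^ 2 := by
  rw [Nat.card_congr (QuadraticAlgebra.equivProd ν 0), Nat.card_prod, pow_two]

theorem two_ne_ext (h2 : (2 : F) ≠ 0) : (2 : (QuadraticAlgebra F ν 0)) ≠ 0 := fun h => by
  have := congrArg QuadraticAlgebra.re h
  rw [QuadraticAlgebra.re_ofNat, QuadraticAlgebra.re_zero] at this
  exact h2 this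

theorem re_two_mul (z : (QuadraticAlgebra F ν 0)) : (2 * z).re = 2 * z.re := by rw [two_mul, QuadraticAlgebra.re_add, two_mul]

theorem norm_eq (z : (QuadraticAlgebra F ν 0)) : QuadraticAlgebra.norm z = z.re * z.re - ν * (z.im * z.im) := by
  rw [QuadraticAlgebra.norm_def]; ring

variable [hfact : Fact (∀ r : F, r ^ 2 ≠ ν + 0 * r)]

include hfact in
theorem not_square_nu : ¬ IsSquare ν := fun ⟨r, h⟩ => hfact.out r (by rw [h]; ring)

include hfact in
theorem nu_ne_zero : ν ≠ 0 := fun h => not_square_nu (ν := ν) (h ▸ IsSquare.zero)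

/-- An element of the quadratic extension with square norm is a square. -/
theorem isSquare_of_norm [Finite F] (h2 : (2 : F) ≠ 0) {z : (QuadraticAlgebra F ν 0)} (h : IsSquare (QuadraticAlgebra.norm z)) :
    IsSquare z := by
  classical
  have := Fintype.ofFinite F
  obtain ⟨r, hr⟩ := h
  rw [norm_eq] at hr
  have hν := not_square_nu (ν := ν)
  by_cases hy : z.im = 0
  · by_cases hx : IsSquare z.re
    · obtain ⟨s, hs⟩ := hx
      exact ⟨⟨s, 0⟩, QuadraticAlgebra.ext (by simp [hs]) (by simp [hy])⟩
    · obtain ⟨s, hs⟩ : IsSquare (z.re * ν⁻¹) := by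
        by_contra hne
        have hxne : z.re ≠ 0 := fun e => hx (by rw [e]; exact IsSquare.zero)
        have hinv : ¬ IsSquare ν⁻¹ := fun ⟨t, ht⟩ => hν ⟨t⁻¹, by rw [← mul_inv, ← ht, inv_inv]⟩
        rw [← quadraticChar_neg_one_iff_not_isSquare] at hne hx hinv
        rw [map_mul, hx, hinv] at hne
        norm_num at hne
      refine ⟨⟨0, s⟩, QuadraticAlgebra.ext ?_ (by simp [hy])⟩
      have hν0 : ν ≠ 0 := nu_ne_zero
      field_simp at hs
      simp only [QuadraticAlgebra.re_mul, mul_zero, zero_add]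
      linear_combination hs
  · have hν0 : ν ≠ 0 := nu_ne_zero
    have key : ∀ u : F, u ≠ 0 → IsSquare u → u + ν * z.im * z.im / (4 * u) = z.re → IsSquare z := by
      rintro u hu ⟨s, rfl⟩ hsum
      have hs : s ≠ 0 := fun e => hu (by rw [e, zero_mul])
      have h4 : (4 : F) ≠ 0 := by
        rw [show (4 : F) = 2 * 2 by norm_num]; exact mul_ne_zero h2 h2
      refine ⟨⟨s, z.im / (2 * s)⟩, QuadraticAlgebra.ext ?_ ?_⟩
      · simp only [QuadraticAlgebra.re_mul]
        rw [← hsum]
        field_simp
        ring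
      · simp only [QuadraticAlgebra.im_mul]
        field_simp
        ring
    have h4 : (4 : F) ≠ 0 := by
      rw [show (4 : F) = 2 * 2 by norm_num]; exact mul_ne_zero h2 h2
    set u := (z.re + r) / 2 with hu
    set u' := (z.re - r) / 2 with hu'
    have hprod : u * u' = ν * z.im * z.im / 4 := by
      rw [hu, hu']
      field_simp
      linear_combination 4 * hr
    have hne : u * u' ≠ 0 := by
      rw [hprod]; exact div_ne_zero (mul_ne_zero (mul_ne_zero hν0 hy) hy) h4
    have hu0 := left_ne_zero_of_mul hne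
    have hu0' := right_ne_zero_of_mul hne
    have hsum : u + u' = z.re := by rw [hu, hu']; field_simp; ring
    by_cases hs : IsSquare u
    · refine key u hu0 hs ?_
      rw [← hsum, show ν * z.im * z.im / (4 * u) = u' by field_simp at hprod ⊢; linear_combination -hprod]
    · refine key u' hu0' ?_ ?_
      · by_contra hs'
        obtain ⟨t, ht⟩ : IsSquare (u * u') := by
          rw [← quadraticChar_one_iff_isSquare hne, map_mul,
            quadraticChar_neg_one_iff_not_isSquare.2 hs, quadraticChar_neg_one_iff_not_isSquare.2 hs']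
          norm_num
        refine hν ⟨2 * t / z.im, ?_⟩
        rw [hprod] at ht
        field_simp at ht ⊢
        linear_combination ht
      · rw [← hsum, show ν * z.im * z.im / (4 * u') = u by field_simp at hprod ⊢; linear_combination -hprod, add_comm]

theorem isSquare_base [Finite F] (h2 : (2 : F) ≠ 0) (c : F) : IsSquare (algebraMap F (QuadraticAlgebra F ν 0) c) :=
  isSquare_of_norm h2 ⟨c, by rw [QuadraticAlgebra.norm_algebraMap, pow_two]⟩

section Structure

variable {V : Type v} [AddCommGroup V] [Module F V] [Module (QuadraticAlgebra F ν 0) V] [IsScalarTower F (QuadraticAlgebra F ν 0) V] {Q : QuadraticForm F V}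

theorem ext_smul (z : (QuadraticAlgebra F ν 0)) (v : V) : z • v = z.re • v + z.im • (QuadraticAlgebra.omega : QuadraticAlgebra F ν 0) • v := by
  conv_lhs => rw [show z = algebraMap F (QuadraticAlgebra F ν 0) z.re + z.im • (QuadraticAlgebra.omega : QuadraticAlgebra F ν 0) from QuadraticAlgebra.ext (by simp) (by simp)]
  rw [add_smul, algebraMap_smul, smul_assoc]

theorem theta_theta (v : V) : (QuadraticAlgebra.omega : QuadraticAlgebra F ν 0) • (QuadraticAlgebra.omega : QuadraticAlgebra F ν 0) • v = ν • v := by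
  rw [smul_smul, QuadraticAlgebra.omega_mul_omega_eq_mk, ext_smul]
  simp

variable (hsym : ∀ u v : V, polar Q ((QuadraticAlgebra.omega : QuadraticAlgebra F ν 0) • u) v = polar Q u ((QuadraticAlgebra.omega : QuadraticAlgebra F ν 0) • v))

/-- The bilinear form over the extension. -/
def extBil : LinearMap.BilinForm (QuadraticAlgebra F ν 0) V :=
  LinearMap.mk₂ (QuadraticAlgebra F ν 0) (fun u v => (⟨polar Q u v, ν⁻¹ * polar Q ((QuadraticAlgebra.omega : QuadraticAlgebra F ν 0) • u) v⟩ : (QuadraticAlgebra F ν 0)))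
    (fun u u' v => QuadraticAlgebra.ext (by simp [polar_add_left]) (by simp [smul_add, polar_add_left, mul_add]))
    (fun z u v => by
      have hν : ν ≠ 0 := nu_ne_zero
      have e2 : (QuadraticAlgebra.omega : QuadraticAlgebra F ν 0) • (QuadraticAlgebra.omega : QuadraticAlgebra F ν 0) • u = ν • u := theta_theta u
      refine QuadraticAlgebra.ext ?_ ?_
      · simp only [smul_eq_mul, QuadraticAlgebra.re_mul, ext_smul z u, polar_add_left, polar_smul_left]
        field_simp
      · simp only [smul_eq_mul, QuadraticAlgebra.im_mul, ext_smul z u, smul_add, smul_comm (QuadraticAlgebra.omega : QuadraticAlgebra F ν 0), e2, polar_add_left,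
          polar_smul_left]
        field_simp
        ring)
    (fun u v v' => QuadraticAlgebra.ext (by simp [polar_add_right]) (by simp [polar_add_right, mul_add]))
    (fun z u v => by
      have hν : ν ≠ 0 := nu_ne_zero
      refine QuadraticAlgebra.ext ?_ ?_
      · simp only [smul_eq_mul, QuadraticAlgebra.re_mul, ext_smul z v, polar_add_right, polar_smul_right, ← hsym u v]
        field_simp
      · simp only [smul_eq_mul, QuadraticAlgebra.im_mul, ext_smul z v, polar_add_right, polar_smul_right,
          ← hsym ((QuadraticAlgebra.omega : QuadraticAlgebra F ν 0) • u) v, theta_theta, polar_smul_left]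
        field_simp
        ring)

/-- The quadratic form over the extension. -/
def extForm : QuadraticForm (QuadraticAlgebra F ν 0) V := (2 : (QuadraticAlgebra F ν 0))⁻¹ • LinearMap.BilinMap.toQuadraticMap (extBil hsym)

theorem extBil_apply (u v : V) : extBil hsym u v = (⟨polar Q u v, ν⁻¹ * polar Q ((QuadraticAlgebra.omega : QuadraticAlgebra F ν 0) • u) v⟩ : (QuadraticAlgebra F ν 0)) := rfl

theorem two_extForm (h2 : (2 : F) ≠ 0) (v : V) : 2 * extForm hsym v = extBil hsym v v := by
  rw [extForm, QuadraticMap.smul_apply, LinearMap.BilinMap.toQuadraticMap_apply, smul_eq_mul, ← mul_assoc,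
    mul_inv_cancel₀ (two_ne_ext h2), one_mul]

theorem re_extForm (h2 : (2 : F) ≠ 0) (v : V) : (extForm hsym v).re = Q v := by
  have h := congrArg QuadraticAlgebra.re (two_extForm hsym h2 v)
  rw [re_two_mul, extBil_apply] at h
  exact mul_left_cancel₀ h2 (h.trans (polar_self' Q v))

theorem extBil_symm (u v : V) : extBil hsym u v = extBil hsym v u := by
  rw [extBil_apply, extBil_apply]
  refine QuadraticAlgebra.ext (polar_comm _ _ _) ?_
  show ν⁻¹ * _ = ν⁻¹ * _
  rw [hsym, polar_comm]

theorem polar_extForm (h2 : (2 : F) ≠ 0) (u v : V) : polar (extForm hsym) u v = extBil hsym u v := by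
  have h := two_ne_ext (ν := ν) h2
  refine mul_left_cancel₀ h ?_
  simp only [polar, mul_sub, two_extForm hsym h2, map_add, LinearMap.add_apply]
  rw [extBil_symm hsym v u]
  ring

theorem nondeg_extForm (h2 : (2 : F) ≠ 0) (hQ : (polarBilin Q).Nondegenerate) :
    (polarBilin (extForm hsym)).Nondegenerate := by
  have key : ∀ u, (∀ v, polar (extForm hsym) u v = 0) → u = 0 := fun u hu => hQ.1 u fun v => by
    have := congrArg QuadraticAlgebra.re (hu v)
    rw [polar_extForm hsym h2, extBil_apply] at this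
    exact this
  exact ⟨fun u hu => key u hu, fun u hu => key u fun v => by rw [polar_comm]; exact hu v⟩

/-- The discriminant of the underlying space. -/
theorem det_restrict {κ : Type*} [Fintype κ] [DecidableEq κ] (h2 : (2 : F) ≠ 0) (o : Module.Basis κ (QuadraticAlgebra F ν 0) V) (w : κ → (QuadraticAlgebra F ν 0))
    (ho : Matrix.of (fun k l => polar (extForm hsym) (o k) (o l)) = Matrix.diagonal fun k => 2 * w k) :
    (Matrix.of fun i j => polar Q (((QuadraticAlgebra.basis ν 0).smulTower o) i)
      (((QuadraticAlgebra.basis ν 0).smulTower o) j)).det = ∏ k, (4 * ν * QuadraticAlgebra.norm (w k)) := by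
  classical
  have hb0 : QuadraticAlgebra.basis ν (0 : F) 0 = 1 := by
    refine (QuadraticAlgebra.basis ν (0 : F)).repr.injective (Finsupp.ext fun i => ?_)
    rw [Module.Basis.repr_self]
    fin_cases i <;> simp <;> rfl
  have hb1 : QuadraticAlgebra.basis ν (0 : F) 1 = (QuadraticAlgebra.omega : QuadraticAlgebra F ν 0) := by
    refine (QuadraticAlgebra.basis ν (0 : F)).repr.injective (Finsupp.ext fun i => ?_)
    rw [Module.Basis.repr_self]
    fin_cases i <;> simp <;> rfl
  have e : (Matrix.of fun i j => polar Q (((QuadraticAlgebra.basis ν 0).smulTower o) i)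
      (((QuadraticAlgebra.basis ν 0).smulTower o) j)) = Matrix.blockDiagonal fun k =>
        !![2 * (w k).re, 2 * ν * (w k).im; 2 * ν * (w k).im, 2 * ν * (w k).re] := by
    ext ⟨i, k⟩ ⟨j, l⟩
    rw [Matrix.of_apply, Module.Basis.smulTower_apply, Module.Basis.smulTower_apply, Matrix.blockDiagonal_apply]
    have h1 : polar Q (QuadraticAlgebra.basis ν 0 i • o k) (QuadraticAlgebra.basis ν 0 j • o l) =
        (QuadraticAlgebra.basis ν (0 : F) i * QuadraticAlgebra.basis ν 0 j * (if k = l then 2 * w k else 0)).re := by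
      have h3 : polar Q (QuadraticAlgebra.basis ν 0 i • o k) (QuadraticAlgebra.basis ν 0 j • o l) =
          (polar (extForm hsym) (QuadraticAlgebra.basis ν 0 i • o k) (QuadraticAlgebra.basis ν 0 j • o l)).re := by
        rw [polar_extForm hsym h2, extBil_apply]
      rw [h3, polar_smul_left, polar_smul_right]
      have := congrFun (congrFun ho k) l
      rw [Matrix.of_apply, Matrix.diagonal_apply] at this
      rw [this, smul_eq_mul, smul_eq_mul, mul_assoc]
    rw [h1]
    split_ifs with hkl
    · fin_cases i <;> fin_cases j <;>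
        simp [hb0, hb1, two_mul] <;> ring
    · simp
  rw [e, Matrix.det_blockDiagonal]
  refine Finset.prod_congr rfl fun k _ => ?_
  rw [Matrix.det_fin_two_of, norm_eq]
  ring

end Structure

section Frame

variable {V : Type v} [AddCommGroup V] [Module F V] [FiniteDimensional F V] {Q : QuadraticForm F V}

/-- Every self-adjoint square root of `ν` has a diagonal model over the extension. -/
theorem exists_frame [Finite F] (h2 : (2 : F) ≠ 0) (hQ : (polarBilin Q).Nondegenerate) {d : ℕ}
    (hn : Module.finrank F V = 2 * (d + 1)) {J : Module.End F V} (hJ : ∀ v, J (J v) = ν • v)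
    (hJs : ∀ u v, polar Q (J u) v = polar Q u (J v)) :
    ∃ (a : (QuadraticAlgebra F ν 0)) (g : (Fin (d + 1) → (QuadraticAlgebra F ν 0)) ≃ₗ[F] V), a ≠ 0 ∧ (∀ x, g ((QuadraticAlgebra.omega : QuadraticAlgebra F ν 0) • x) = J (g x)) ∧
      (∀ x, Q (g x) = (∑ k, (Fin.snoc (fun _ : Fin d => (1 : (QuadraticAlgebra F ν 0))) a : Fin (d + 1) → (QuadraticAlgebra F ν 0)) k * (x k * x k)).re) ∧
      ∀ {κ : Type} [Fintype κ] [DecidableEq κ] (b : Module.Basis κ F V),
        IsSquare ((Matrix.of fun i j => polar Q (b i) (b j)).det * ((4 * ν) ^ (d + 1) * QuadraticAlgebra.norm a)) := by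
  classical
  let φ : (QuadraticAlgebra F ν 0) →ₐ[F] Module.End F V := QuadraticAlgebra.lift ⟨J, LinearMap.ext fun v => by simp [hJ]⟩
  letI : Module (QuadraticAlgebra F ν 0) V := Module.compHom V φ.toRingHom
  have hθ : ∀ v : V, (QuadraticAlgebra.omega : QuadraticAlgebra F ν 0) • v = J v := fun v => by
    show φ (QuadraticAlgebra.omega : QuadraticAlgebra F ν 0) v = J v
    simp [φ]
  haveI : IsScalarTower F (QuadraticAlgebra F ν 0) V := ⟨fun c z v => by
    show φ (c • z) v = c • φ z v
    rw [map_smul, LinearMap.smul_apply]⟩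
  have hsym : ∀ u v : V, polar Q ((QuadraticAlgebra.omega : QuadraticAlgebra F ν 0) • u) v = polar Q u ((QuadraticAlgebra.omega : QuadraticAlgebra F ν 0) • v) := fun u v => by rw [hθ, hθ]; exact hJs u v
  haveI : Module.Finite (QuadraticAlgebra F ν 0) V := Module.Finite.right F (QuadraticAlgebra F ν 0) V
  have hrank : Module.finrank (QuadraticAlgebra F ν 0) V = d + 1 := by
    have := Module.finrank_mul_finrank F (QuadraticAlgebra F ν 0) V
    rw [QuadraticAlgebra.finrank_eq_two, hn] at this
    omega
  obtain ⟨o, a, ha, ho⟩ := exists_orth_basis_ones (two_ne_ext h2) (nondeg_extForm hsym h2 hQ) hrank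
  set w : Fin (d + 1) → (QuadraticAlgebra F ν 0) := Fin.snoc (fun _ : Fin d => (1 : (QuadraticAlgebra F ν 0))) a with hw
  have ho' : Matrix.of (fun k l => polar (extForm hsym) (o k) (o l)) = Matrix.diagonal fun k => 2 * w k := by
    rw [ho]
    congr 1
    funext k
    refine Fin.lastCases ?_ (fun j => ?_) k <;> simp [hw]
  let g : (Fin (d + 1) → (QuadraticAlgebra F ν 0)) ≃ₗ[F] V := o.equivFun.symm.restrictScalars F
  have hg : ∀ x, g x = ∑ k, x k • o k := fun x => o.equivFun_symm_apply x
  refine ⟨a, g, ha, fun x => ?_, fun x => ?_, fun {κ} _ _ b => ?_⟩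
  · rw [← hθ]
    exact o.equivFun.symm.map_smul (QuadraticAlgebra.omega : QuadraticAlgebra F ν 0) x
  · rw [← re_extForm hsym h2]
    congr 1
    refine mul_left_cancel₀ (two_ne_ext (ν := ν) h2) ?_
    have hB : ∀ k l, extBil hsym (o k) (o l) = if k = l then 2 * w k else 0 := fun k l => by
      have := congrFun (congrFun ho' k) l
      rwa [Matrix.of_apply, Matrix.diagonal_apply, polar_extForm hsym h2] at this
    rw [two_extForm hsym h2, hg, Finset.mul_sum]
    simp only [map_sum, LinearMap.sum_apply, map_smul, LinearMap.smul_apply, hB, smul_eq_mul, mul_ite, mul_zero]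
    refine Finset.sum_congr rfl fun k _ => ?_
    simp only [Finset.sum_ite_eq, Finset.sum_ite_eq', Finset.mem_univ, if_true, hw]
    ring
  · obtain ⟨t, -, ht⟩ := det_polar_change Q ((QuadraticAlgebra.basis ν 0).smulTower o) b
    rw [det_restrict hsym h2 o w ho'] at ht
    have hp : ∏ k, (4 * ν * QuadraticAlgebra.norm (w k)) = (4 * ν) ^ (d + 1) * QuadraticAlgebra.norm a := by
      rw [Finset.prod_mul_distrib, Finset.prod_const, Finset.card_univ, Fintype.card_fin, Fin.prod_univ_castSucc]
      simp [hw]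
    rw [ht, hp]
    exact ⟨t * ((4 * ν) ^ (d + 1) * QuadraticAlgebra.norm a), by ring⟩

/-- Self-adjoint square roots of a non-square are conjugate. -/
theorem exists_conj [Finite F] (h2 : (2 : F) ≠ 0) (hQ : (polarBilin Q).Nondegenerate) {d : ℕ}
    (hn : Module.finrank F V = 2 * (d + 1)) {J J' : Module.End F V} (hJ : ∀ v, J (J v) = ν • v)
    (hJs : ∀ u v, polar Q (J u) v = polar Q u (J v)) (hJ' : ∀ v, J' (J' v) = ν • v)
    (hJs' : ∀ u v, polar Q (J' u) v = polar Q u (J' v)) :
    ∃ g : orth Q, ∀ v, (g : V ≃ₗ[F] V) (J v) = J' ((g : V ≃ₗ[F] V) v) := by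
  classical
  obtain ⟨a, g, ha, hgJ, hgQ, hd⟩ := exists_frame h2 hQ hn hJ hJs
  obtain ⟨a', g', ha', hgJ', hgQ', hd'⟩ := exists_frame h2 hQ hn hJ' hJs'
  set b := Module.finBasis F V
  set D := (Matrix.of fun i j => polar Q (b i) (b j)).det
  have hD : D ≠ 0 := by
    have h1 := (LinearMap.BilinForm.nondegenerate_iff_det_ne_zero b).1 hQ
    intro h0
    refine h1 (Eq.trans ?_ h0)
    congr 1
    ext i j
    rw [LinearMap.BilinForm.toMatrix_apply, polarBilin_apply_apply, Matrix.of_apply]
  have hν : (4 * ν : F) ≠ 0 := by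
    rw [show (4 : F) = 2 * 2 by norm_num]
    exact mul_ne_zero (mul_ne_zero h2 h2) nu_ne_zero
  obtain ⟨r, hr⟩ : IsSquare (a * a') := isSquare_of_norm h2 (by
    obtain ⟨s, hs⟩ := hd b
    obtain ⟨s', hs'⟩ := hd' b
    refine ⟨s * s' / (D * (4 * ν) ^ (d + 1)), ?_⟩
    rw [map_mul, div_mul_div_comm, eq_div_iff (mul_ne_zero (mul_ne_zero hD (pow_ne_zero _ hν))
      (mul_ne_zero hD (pow_ne_zero _ hν)))]
    calc QuadraticAlgebra.norm a * QuadraticAlgebra.norm a' *
          (D * (4 * ν) ^ (d + 1) * (D * (4 * ν) ^ (d + 1))) =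
        (D * ((4 * ν) ^ (d + 1) * QuadraticAlgebra.norm a)) * (D * ((4 * ν) ^ (d + 1) * QuadraticAlgebra.norm a')) := by
          ring
      _ = s * s * (s' * s') := by rw [hs, hs']
      _ = s * s' * (s * s') := by ring)
  set s := r / a' with hs
  have hs0 : s ≠ 0 := div_ne_zero (fun h => mul_ne_zero ha ha' (by rw [hr, h, mul_zero])) ha'
  have hsa : s * s * a' = a := by
    rw [hs, div_mul_div_comm, ← hr]
    field_simp
  let S : Fin (d + 1) → (QuadraticAlgebra F ν 0) := Fin.snoc (fun _ : Fin d => (1 : (QuadraticAlgebra F ν 0))) s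
  have hS : ∀ k, S k ≠ 0 := fun k => by
    refine Fin.lastCases ?_ (fun j => ?_) k <;> simp [S, hs0]
  let T : (Fin (d + 1) → (QuadraticAlgebra F ν 0)) ≃ₗ[F] (Fin (d + 1) → (QuadraticAlgebra F ν 0)) :=
    (LinearEquiv.piCongrRight fun k => LinearEquiv.smulOfUnit (Units.mk0 (S k) (hS k))).restrictScalars F
  have hT : ∀ x k, T x k = S k * x k := fun x k => rfl
  refine ⟨⟨g.symm.trans (T.trans g'), fun v => ?_⟩, fun v => ?_⟩
  · show Q (g' (T (g.symm v))) = Q v
    conv_rhs => rw [← g.apply_symm_apply v, hgQ]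
    rw [hgQ']
    congr 1
    refine Finset.sum_congr rfl fun k _ => ?_
    rw [hT]
    refine Fin.lastCases ?_ (fun j => ?_) k <;> simp only [S, Fin.snoc_last, Fin.snoc_castSucc]
    · rw [← hsa]; ring
    · ring
  · show g' (T (g.symm (J v))) = J' (g' (T (g.symm v)))
    obtain ⟨x, rfl⟩ := g.surjective v
    rw [← hgJ, g.symm_apply_apply, g.symm_apply_apply, ← hgJ']
    congr 1
    funext k
    rw [hT, Pi.smul_apply, Pi.smul_apply, hT, smul_eq_mul, smul_eq_mul, mul_left_comm]

end Frame

end CfsgLib.OrthPrime.FieldExt
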