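import Cfsg.Agent.Lib.OrthPrime.InvolOdd

/-! Totally singular subspaces invariant under an involutory isometry. -/

set_option autoImplicit false

namespace CfsgLib.OrthPrime

open QuadraticMap CfsgLib.Geometry CfsgLib.OrthMax CfsgLib.PrimeOrderSp

universe u v

variable {F : Type u} [Field F] [Fintype F] {V : Type v} [AddCommGroup V] [Module F V] [FiniteDimensional F V]
variable {Q : QuadraticForm F V}

omit [Fintype F] [FiniteDimensional F V] in
theorem apply_mov {f : Module.End F V} (hff : f ^ 2 = 1) {v : V} (hv : v ∈ movSp f) : f v = -v := by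
  obtain ⟨w, rfl⟩ := hv
  have : f (f w) = w := by rw [← Module.End.mul_apply, ← pow_two, hff, Module.End.one_apply]
  simp [this]

theorem invol_facts (hQ : (polarBilin Q).Nondegenerate) (h2 : (2 : F) ≠ 0) {f : Module.End F V}
    (hf : ∀ v, Q (f v) = Q v) (hff : f ^ 2 = 1) :
    fixSp f ⊓ polarPerp Q (fixSp f) = ⊥ ∧ movSp f ⊓ polarPerp Q (movSp f) = ⊥ ∧
      Module.finrank F (fixSp f) + Module.finrank F (movSp f) = Module.finrank F V ∧
      (∀ a ∈ fixSp f, ∀ b ∈ movSp f, polar Q a b = 0) ∧ IsCompl (fixSp f) (movSp f) := by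
  have h2' : ((2 : ℕ) : F) ≠ 0 := by exact_mod_cast h2
  have h := isHerm_polar hQ
  have hiso := polar_iso (Q := Q) hf
  exact ⟨nondeg_iff.1 (nondeg_fixSp h2' hff h hiso), nondeg_iff.1 (nondeg_movSp h2' hff h hiso),
    Submodule.finrank_add_eq_of_isCompl (isCompl_fix_mov h2' hff),
    fun a ha b hb => (orth_fix_mov h hiso a ha b hb).1, isCompl_fix_mov h2' hff⟩

theorem exists_invol_ts (hQ : (polarBilin Q).Nondegenerate) (h2 : (2 : F) ≠ 0) {f : Module.End F V}
    (hf : ∀ v, Q (f v) = Q v) (hff : f ^ 2 = 1) {a b : ℕ}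
    (ha : 2 * a < Module.finrank F (fixSp f) ∨ (2 * a = Module.finrank F (fixSp f) ∧ Plus Q (fixSp f)))
    (hb : 2 * b < Module.finrank F (movSp f) ∨ (2 * b = Module.finrank F (movSp f) ∧ Plus Q (movSp f))) :
    ∃ W : Submodule F V, Module.finrank F W = a + b ∧ (∀ w ∈ W, Q w = 0) ∧ Inv f W := by
  obtain ⟨hx, hm, -, ho, hc⟩ := invol_facts hQ h2 hf hff
  obtain ⟨A, hA, hA0, hAd⟩ := exists_ts_dim hx ha
  obtain ⟨B, hB, hB0, hBd⟩ := exists_ts_dim hm hb
  refine ⟨A ⊔ B, ?_, fun w hw => ?_, fun w hw => ?_⟩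
  · have h1 := Submodule.finrank_sup_add_finrank_inf_eq A B
    rw [(hc.disjoint.mono hA hB).eq_bot, finrank_bot, hAd, hBd] at h1
    omega
  · obtain ⟨x, hx, y, hy, rfl⟩ := Submodule.mem_sup.1 hw
    rw [CfsgLib.Geometry.map_add', hA0 x hx, hB0 y hy, ho x (hA hx) y (hB hy)]
    ring
  · obtain ⟨x, hx, y, hy, rfl⟩ := Submodule.mem_sup.1 hw
    rw [map_add, mem_fixSp.1 (hA hx), apply_mov hff (hB hy)]
    exact Submodule.add_mem _ (Submodule.mem_sup_left hx) (Submodule.mem_sup_right (B.neg_mem hy))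

theorem invol_ts_bound (hQ : (polarBilin Q).Nondegenerate) (h2 : (2 : F) ≠ 0) {f : Module.End F V}
    (hf : ∀ v, Q (f v) = Q v) (hff : f ^ 2 = 1) {W : Submodule F V} (hW : ∀ w ∈ W, Q w = 0) (hi : Inv f W) :
    ∃ a b, Module.finrank F W = a + b ∧
      (2 * a < Module.finrank F (fixSp f) ∨ (2 * a = Module.finrank F (fixSp f) ∧ Plus Q (fixSp f))) ∧
      (2 * b < Module.finrank F (movSp f) ∨ (2 * b = Module.finrank F (movSp f) ∧ Plus Q (movSp f))) := by
  obtain ⟨hx, hm, -, -, -⟩ := invol_facts hQ h2 hf hff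
  exact ⟨_, _, split_inv (by exact_mod_cast h2) hff hi,
    ts_dim_le hx inf_le_right fun w hw => hW w hw.1, ts_dim_le hm inf_le_right fun w hw => hW w hw.1⟩

end CfsgLib.OrthPrime
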