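import Cfsg.Agent.Lib.OrthPrime.Criterion
import Cfsg.Agent.Lib.OrthMax.Apps

/-! From isometries to elements of `omegaGL`. -/

set_option autoImplicit false

namespace CfsgLib.OrthPrime

open QuadraticMap CfsgLib.Geometry CfsgLib.OrthMax CfsgLib.PrimeOrderSp

variable {F : Type*} [Field F] [Finite F] {ι : Type} [Fintype ι] [DecidableEq ι]
variable {Q : QuadraticForm F (ι → F)}

theorem toLin'_orthToGL (g : orth Q) :
    Matrix.toLin' ((orthToGL Q g : Matrix.GeneralLinearGroup ι F) : Matrix ι ι F) =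
      ((g : (ι → F) ≃ₗ[F] (ι → F)) : (ι → F) →ₗ[F] (ι → F)) :=
  LinearMap.ext fun v => by rw [Matrix.toLin'_apply]; exact orthToGL_mulVec Q g v

theorem coe_pow_orth (g : orth Q) (k : ℕ) :
    ((((g ^ k : orth Q) : (ι → F) ≃ₗ[F] (ι → F))) : (ι → F) →ₗ[F] (ι → F)) =
      (((g : (ι → F) ≃ₗ[F] (ι → F))) : (ι → F) →ₗ[F] (ι → F)) ^ k := by
  induction k with
  | zero => rfl
  | succ k ih =>
    rw [pow_succ' (((g : (ι → F) ≃ₗ[F] (ι → F))) : (ι → F) →ₗ[F] (ι → F)) k, ← ih, pow_succ' g k]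
    rfl

theorem inv_smul_iff {z : F} (hz : z * z = 1) (f : Module.End F (ι → F)) (W : Submodule F (ι → F)) :
    Inv (z • f) W ↔ W.map f ≤ W := by
  rw [Submodule.map_le_iff_le_comap]
  refine ⟨fun h v hv => ?_, fun h v hv => W.smul_mem _ (h hv)⟩
  have := W.smul_mem z (h v hv)
  rwa [LinearMap.smul_apply, smul_smul, hz, one_smul] at this

/-- Elements of odd order of the orthogonal group lie in its derived group. -/
theorem exists_omega_elem (hQ : (polarBilin Q).Nondegenerate) (hn : 5 ≤ Fintype.card ι) {r : ℕ} (hr : Odd r)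
    {f : Module.End F (ι → F)} (hf : ∀ v, Q (f v) = Q v) (hfr : f ^ r = 1) :
    ∃ x ∈ Cfsg.Geo.omegaGL ⇑Q, x ^ r = 1 ∧ Matrix.toLin' ((x : GL ι F) : Matrix ι ι F) = f := by
  obtain ⟨c, hc⟩ := hr
  have h1 : f * f ^ (2 * c) = 1 := by rw [← pow_succ', ← hc, hfr]
  have h2 : f ^ (2 * c) * f = 1 := by rw [← pow_succ, ← hc, hfr]
  let e : (ι → F) ≃ₗ[F] (ι → F) := LinearEquiv.ofLinearMap f (f ^ (2 * c)) h1 h2
  let g : orth Q := ⟨e, fun v => hf v⟩
  have hgf : ((g : (ι → F) ≃ₗ[F] (ι → F)) : (ι → F) →ₗ[F] (ι → F)) = f := rfl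
  have hgr : g ^ r = 1 := Subtype.ext (LinearEquiv.toLinearMap_injective (by
    rw [coe_pow_orth, hgf, hfr]; rfl))
  have hR := reflGroup_eq_orth hQ (Or.inl (by simp; omega))
  have hg : g ∈ commutator (orth Q) := by
    rw [mem_commutator_orth_iff hQ hR]
    have hsq : g = g ^ (c + 1) * g ^ (c + 1) := by
      rw [← pow_add, show c + 1 + (c + 1) = r + 1 by omega, pow_succ, hgr, one_mul]
    rw [hsq, map_mul]
    refine Prod.ext (sqClass_mul_self _) ?_
    have : ∀ d : Multiplicative (ZMod 2), d * d = 1 := by decide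
    exact this _
  refine ⟨orthToGL Q g, ?_, ?_, (toLin'_orthToGL g).trans hgf⟩
  · rw [omegaGL_eq_map]; exact Subgroup.mem_map_of_mem _ hg
  · rw [← map_pow, hgr, map_one]

theorem toLin'_pow (x : GL ι F) (k : ℕ) :
    Matrix.toLin' (((x ^ k : GL ι F)) : Matrix ι ι F) = (Matrix.toLin' (x : Matrix ι ι F)) ^ k := by
  induction k with
  | zero => simp [Module.End.one_eq_id]
  | succ k ih => rw [pow_succ, pow_succ, Units.val_mul, Matrix.toLin'_mul, ih, Module.End.mul_eq_comp]

theorem omega_preserves {x : GL ι F} (hx : x ∈ Cfsg.Geo.omegaGL ⇑Q) (v : ι → F) :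
    Q (Matrix.toLin' (x : Matrix ι ι F) v) = Q v := by
  rw [omegaGL_eq_map] at hx
  obtain ⟨g, -, rfl⟩ := hx
  rw [toLin'_orthToGL]
  exact mem_orth.1 g.2 v

/-- Elements of prime order modulo scalars. -/
theorem elusive_iff_scalar (hQ : (polarBilin Q).Nondegenerate) (hn : 5 ≤ Fintype.card ι) {r : ℕ} (hr : Odd r)
    (P : Submodule F (ι → F) → Prop) :
    (∀ x : GL ι F, x ∈ Cfsg.Geo.omegaGL ⇑Q →
      (∃ z : F, ((x ^ r : GL ι F) : Matrix ι ι F) = z • (1 : Matrix ι ι F)) →
      (∀ z : F, (x : Matrix ι ι F) ≠ z • (1 : Matrix ι ι F)) →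
      ∃ W, P W ∧ W.map (Matrix.toLin' (x : Matrix ι ι F)) ≤ W) ↔
    ∀ f : Module.End F (ι → F), (∀ v, Q (f v) = Q v) → f ^ r = 1 → f ≠ 1 → ∃ W, P W ∧ Inv f W := by
  constructor
  · intro H f hf hfr hf1
    obtain ⟨x, hx, hxr, hxf⟩ := exists_omega_elem hQ hn hr hf hfr
    obtain ⟨W, hW, hWi⟩ := H x hx ⟨1, by rw [hxr, one_smul]; rfl⟩ fun z hz => by
      have hfz : f = z • 1 := by
        rw [← hxf, hz, map_smul, Matrix.toLin'_one, Module.End.one_eq_id]
      obtain ⟨v, hv⟩ : ∃ v, Q v ≠ 0 := by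
        by_contra hc
        push Not at hc
        haveI : Nonempty ι := Fintype.card_pos_iff.1 (by omega)
        obtain ⟨j⟩ := ‹Nonempty ι›
        have := hQ.1 (Pi.single j 1) fun y => by
          simp [polarBilin_apply_apply, polar, hc]
        simpa using congrFun this j
      have hzz : z * z = 1 := by
        have h1 := hf v
        rw [hfz, LinearMap.smul_apply, Module.End.one_apply, CfsgLib.Geometry.map_smul'] at h1
        exact (mul_eq_right₀ hv).1 h1
      refine hf1 ?_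
      obtain ⟨c, rfl⟩ := hr
      rw [hfz, smul_pow, one_pow, pow_succ, pow_mul, pow_two, hzz, one_pow, one_mul] at hfr
      rw [hfz, hfr]
    refine ⟨W, hW, fun v hv => ?_⟩
    rw [← hxf]
    exact hWi (Submodule.mem_map_of_mem hv)
  · intro H x hx hxr hns
    obtain ⟨z, hz⟩ := hxr
    have hiso := omega_preserves hx
    set f := Matrix.toLin' (x : Matrix ι ι F) with hfdef
    have hfz : f ^ r = z • 1 := by
      rw [hfdef, ← toLin'_pow, hz, map_smul, Matrix.toLin'_one, Module.End.one_eq_id]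
    have hk : ∀ k v, Q ((f ^ k) v) = Q v := fun k => by
      induction k with
      | zero => intro v; rfl
      | succ k ih => intro v; rw [pow_succ', Module.End.mul_apply, hiso, ih]
    obtain ⟨v, hv⟩ : ∃ v, Q v ≠ 0 := by
      by_contra hc
      push Not at hc
      haveI : Nonempty ι := Fintype.card_pos_iff.1 (by omega)
      obtain ⟨j⟩ := ‹Nonempty ι›
      have := hQ.1 (Pi.single j 1) fun y => by
        simp [polarBilin_apply_apply, polar, hc]
      simpa using congrFun this j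
    have hzz : z * z = 1 := by
      have h1 := hk r v
      rw [hfz, LinearMap.smul_apply, Module.End.one_apply, CfsgLib.Geometry.map_smul'] at h1
      exact (mul_eq_right₀ hv).1 h1
    obtain ⟨W, hW, hWi⟩ := H (z • f) (fun v => by
        rw [LinearMap.smul_apply, CfsgLib.Geometry.map_smul', hzz, one_mul, hiso]) (by
        obtain ⟨c, rfl⟩ := hr
        rw [smul_pow, hfz, smul_smul, ← pow_succ, show 2 * c + 1 + 1 = 2 * (c + 1) by ring, pow_mul, pow_two,
          hzz, one_pow, one_smul]) (fun h1 => hns z (Matrix.toLin'.injective (by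
        rw [map_smul, Matrix.toLin'_one, ← Module.End.one_eq_id, ← hfdef]
        have := congrArg (z • ·) h1
        simp only [smul_smul, hzz, one_smul] at this
        exact this)))
    exact ⟨W, hW, (inv_smul_iff hzz f W).1 hWi⟩

/-- Elements of a given prime order. -/
theorem elusive_iff_order (hQ : (polarBilin Q).Nondegenerate) (hn : 5 ≤ Fintype.card ι) {r : ℕ} [Fact r.Prime]
    (hr : Odd r) (P : Submodule F (ι → F) → Prop) :
    (∀ x : GL ι F, x ∈ Cfsg.Geo.omegaGL ⇑Q → orderOf x = r →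
      ∃ W, P W ∧ W.map (Matrix.toLin' (x : Matrix ι ι F)) ≤ W) ↔
    ∀ f : Module.End F (ι → F), (∀ v, Q (f v) = Q v) → f ^ r = 1 → f ≠ 1 → ∃ W, P W ∧ Inv f W := by
  constructor
  · intro H f hf hfr hf1
    obtain ⟨x, hx, hxr, hxf⟩ := exists_omega_elem hQ hn hr hf hfr
    obtain ⟨W, hW, hWi⟩ := H x hx (orderOf_eq_prime hxr fun h => hf1 (by
      rw [← hxf, h, Units.val_one, Matrix.toLin'_one, Module.End.one_eq_id]))
    refine ⟨W, hW, fun v hv => ?_⟩
    rw [← hxf]
    exact hWi (Submodule.mem_map_of_mem hv)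
  · intro H x hx hxr
    obtain ⟨W, hW, hWi⟩ := H _ (omega_preserves hx) (by
        rw [← toLin'_pow, ← hxr, pow_orderOf_eq_one, Units.val_one, Matrix.toLin'_one, Module.End.one_eq_id])
      fun h1 => by
        have : x = 1 := Units.ext (Matrix.toLin'.injective (by
          rw [h1, Units.val_one, Matrix.toLin'_one, Module.End.one_eq_id]))
        rw [this, orderOf_one] at hxr
        exact (Fact.out : r.Prime).one_lt.ne hxr
    exact ⟨W, hW, Submodule.map_le_iff_le_comap.2 fun v hv => hWi v hv⟩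

end CfsgLib.OrthPrime
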