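import Cfsg.Agent.Lib.OrthPrime.InvolOdd
import Cfsg.Agent.Lib.OrthPrime.InvolTS
import Cfsg.Agent.Lib.OrthPrime.Matrix
import Cfsg.Agent.Lib.OrthPrime.FieldExtForm
import Cfsg.Agent.Lib.Geometry.PGOQuot
import Cfsg.Prelude.Def_GeometricClasses

/-! Involutions modulo scalars and self-adjoint square roots of a non-square. -/

set_option autoImplicit false

namespace CfsgLib.OrthPrime.FieldExt

open QuadraticMap CfsgLib.Geometry CfsgLib.OrthMax CfsgLib.PrimeOrderSp CfsgLib.OrthPrime

section Generator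

variable {F : Type*} [Field F] {ι : Type} [Fintype ι] [DecidableEq ι] {K : Subalgebra F (Matrix ι ι F)}

theorem exists_generator [Nonempty ι] (h2 : (2 : F) ≠ 0) (hK : Cfsg.Geo.IsFieldSubalgebra 2 K) :
    ∃ (ν : F) (M : Matrix ι ι F), ¬ IsSquare ν ∧ M ∈ K ∧ M * M = ν • (1 : Matrix ι ι F) ∧
      ∀ k ∈ K, ∃ a b : F, k = a • (1 : Matrix ι ι F) + b • M := by
  haveI : Nontrivial K := ⟨1, 0, fun h => one_ne_zero (congrArg Subtype.val h : (1 : Matrix ι ι F) = 0)⟩
  obtain ⟨x, hx⟩ : ∃ x : K, ∀ c : F, x ≠ c • (1 : K) := by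
    by_contra hc
    push Not at hc
    have h := finrank_eq_one (R := F) (1 : K) one_ne_zero fun x => (hc x).imp fun c h => h.symm
    rw [hK.finrank_eq] at h
    omega
  have h1 : LinearIndependent F ![(1 : K), x] := by
    rw [LinearIndependent.pair_iff]
    intro s t hst
    by_cases ht : t = 0
    · subst ht
      rw [zero_smul, add_zero, smul_eq_zero] at hst
      exact ⟨hst.resolve_right one_ne_zero, rfl⟩
    · refine absurd ?_ (hx (-(t⁻¹ * s)))
      rw [neg_smul, mul_smul, eq_neg_of_add_eq_zero_left hst, smul_neg, neg_neg, inv_smul_smul₀ ht]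
  have hspan : ∀ k : K, ∃ a b : F, k = a • (1 : K) + b • x := by
    intro k
    have h3 := h1.span_eq_top_of_card_eq_finrank' (by rw [hK.finrank_eq, Fintype.card_fin])
    have h4 : k ∈ Submodule.span F (Set.range ![(1 : K), x]) := h3 ▸ Submodule.mem_top
    rw [Matrix.range_cons_cons_empty, Submodule.mem_span_pair] at h4
    obtain ⟨a, b, hab⟩ := h4
    exact ⟨a, b, hab.symm⟩
  obtain ⟨β, α, hxx⟩ := hspan (x * x)
  set ν := β + α / 2 * (α / 2)
  set M : K := x - (α / 2) • (1 : K)
  have hMM : M * M = ν • (1 : K) := by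
    simp only [M, ν, sub_mul, mul_sub, smul_mul_assoc, mul_smul_comm, one_mul, mul_one, hxx]
    have e : α = α / 2 + α / 2 := by field_simp; ring
    nth_rewrite 1 [e]
    module
  have hM : ∀ s : F, M ≠ s • (1 : K) := fun s hs => hx (s + α / 2) (by
    rw [add_smul, ← hs, sub_add_cancel])
  refine ⟨ν, (M : Matrix ι ι F), ?_, M.2, congrArg Subtype.val hMM, fun k hk => ?_⟩
  · rintro ⟨s, hs⟩
    have hprod : (M - s • (1 : K)) * (M + s • (1 : K)) = 0 := by
      simp only [sub_mul, mul_add, smul_mul_assoc, mul_smul_comm, one_mul, mul_one, hMM, hs, mul_smul]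
      module
    obtain ⟨y, hy, hyy⟩ := hK.inv _ (M - s • (1 : K)).2 fun e => hM s (sub_eq_zero.1 (Subtype.ext e))
    have hyy' : (⟨y, hy⟩ : K) * (M - s • (1 : K)) = 1 := Subtype.ext ((hK.comm y hy _ (M - s • (1 : K)).2).trans hyy)
    refine hM (-s) ?_
    have h := congrArg (fun A => (⟨y, hy⟩ : K) * A) hprod
    simp only [← mul_assoc, hyy', one_mul, mul_zero] at h
    rw [neg_smul]
    exact eq_neg_of_add_eq_zero_left h
  · obtain ⟨a, b, h⟩ := hspan ⟨k, hk⟩
    refine ⟨a + b * (α / 2), b, ?_⟩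
    have h' : (⟨k, hk⟩ : K) = (a + b * (α / 2)) • (1 : K) + b • M := by
      rw [h]; simp only [M]; module
    exact congrArg Subtype.val h'

/-- Elements commuting or anticommuting with the generator normalise the subalgebra. -/
theorem mem_normalizer_gen {M : Matrix ι ι F} (hM : M ∈ K)
    (hspan : ∀ k ∈ K, ∃ a b : F, k = a • (1 : Matrix ι ι F) + b • M) {g : GL ι F} (e : F) (he : e * e = 1)
    (hg : (g : Matrix ι ι F) * M = e • (M * (g : Matrix ι ι F))) : g ∈ Cfsg.Geo.subalgebraNormalizer K := by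
  have key : ∀ g : GL ι F, (g : Matrix ι ι F) * M = e • (M * (g : Matrix ι ι F)) → ∀ k ∈ K,
      (g : Matrix ι ι F) * k * ((g⁻¹ : GL ι F) : Matrix ι ι F) ∈ K := by
    intro g hg k hk
    obtain ⟨a, b, rfl⟩ := hspan k hk
    have h1 : (g : Matrix ι ι F) * (a • (1 : Matrix ι ι F) + b • M) * ((g⁻¹ : GL ι F) : Matrix ι ι F) =
        a • (1 : Matrix ι ι F) + (b * e) • M := by
      rw [mul_add, Matrix.mul_smul, Matrix.mul_smul, mul_one, hg, add_mul, Matrix.smul_mul, Matrix.smul_mul,
        Matrix.smul_mul, mul_assoc, Units.mul_inv, mul_one, smul_smul]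
    rw [h1]
    exact K.add_mem (K.smul_mem K.one_mem a) (K.smul_mem hM _)
  have hg' : ((g⁻¹ : GL ι F) : Matrix ι ι F) * M = e • (M * ((g⁻¹ : GL ι F) : Matrix ι ι F)) := by
    have h := congrArg (fun A => ((g⁻¹ : GL ι F) : Matrix ι ι F) * A * ((g⁻¹ : GL ι F) : Matrix ι ι F)) hg
    simp only [Matrix.mul_smul, Matrix.smul_mul, ← mul_assoc, Units.inv_mul, one_mul] at h
    rw [mul_assoc (((g⁻¹ : GL ι F) : Matrix ι ι F) * M), Units.mul_inv, mul_one] at h
    rw [h, smul_smul, he, one_smul]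
  intro k
  refine ⟨key g hg k, fun h => ?_⟩
  have := key g⁻¹ hg' _ h
  rw [inv_inv, ← mul_assoc, ← mul_assoc, Units.inv_mul, one_mul, mul_assoc, Units.inv_mul, mul_one] at this
  exact this

end Generator

section Roots

variable {F : Type*} [Field F] {V : Type*} [AddCommGroup V] [Module F V] [FiniteDimensional F V]
variable {Q : QuadraticForm F V} {ν : F}

omit [FiniteDimensional F V] in
theorem iso_polar {f : Module.End F V} (hf : ∀ v, Q (f v) = Q v) (u v : V) : polar Q (f u) (f v) = polar Q u v := by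
  simp only [polar, ← map_add, hf]

/-- A self-adjoint square root of `ν` supported on a subspace. -/
structure RootOn (Q : QuadraticForm F V) (ν : F) (W : Submodule F V) (E : Module.End F V) : Prop where
  mem : ∀ u, E u ∈ W
  kill : ∀ u, (∀ w ∈ W, polar Q w u = 0) → E u = 0
  symm : ∀ u v, polar Q (E u) v = polar Q u (E v)
  sq : ∀ w ∈ W, E (E w) = ν • w

/-- The map on a plane with an orthogonal basis. -/
noncomputable def pairMap (Q : QuadraticForm F V) (v w : V) (a b c : F) : Module.End F V :=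
  ((2 * Q v)⁻¹ • polarBilin Q v).smulRight (a • v + b • w) +
    ((2 * Q w)⁻¹ • polarBilin Q w).smulRight (c • v - a • w)

omit [FiniteDimensional F V] in
theorem pairMap_apply (v w : V) (a b c : F) (u : V) : pairMap Q v w a b c u =
    ((2 * Q v)⁻¹ * polar Q v u) • (a • v + b • w) + ((2 * Q w)⁻¹ * polar Q w u) • (c • v - a • w) := by
  simp [pairMap, LinearMap.smulRight_apply, LinearMap.smul_apply, polarBilin_apply_apply, smul_eq_mul]

omit [FiniteDimensional F V] in
theorem polar_eq_two_mul (v : V) : polar Q v v = 2 * Q v := polar_self' Q v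

omit [FiniteDimensional F V] in
theorem pair_extend (h2 : (2 : F) ≠ 0) {v w : V} (hv : Q v ≠ 0) (hw : Q w ≠ 0) (hvw : polar Q v w = 0)
    {W C : Submodule F V} (hvW : v ∈ W) (hwW : w ∈ W) (hCW : C ≤ W)
    (hdec : ∀ z ∈ W, ∃ s t : F, ∃ z' ∈ C, z = s • v + t • w + z')
    (hCv : ∀ z ∈ C, polar Q v z = 0) (hCw : ∀ z ∈ C, polar Q w z = 0) {E : Module.End F V} (hE : RootOn Q ν C E)
    {a b c : F} (hc : c * Q v = b * Q w) (hab : a * a + b * c = ν) :
    RootOn Q ν W (pairMap Q v w a b c + E) := by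
  have hv2 : 2 * Q v ≠ 0 := mul_ne_zero h2 hv
  have hw2 : 2 * Q w ≠ 0 := mul_ne_zero h2 hw
  have hEv : E v = 0 := hE.kill v fun z hz => by rw [polar_comm]; exact hCv z hz
  have hEw : E w = 0 := hE.kill w fun z hz => by rw [polar_comm]; exact hCw z hz
  have hPC : ∀ z ∈ C, pairMap Q v w a b c z = 0 := fun z hz => by
    rw [pairMap_apply, hCv z hz, hCw z hz]; simp
  have hwv : polar Q w v = 0 := by rw [polar_comm]; exact hvw
  have hPv : pairMap Q v w a b c v = a • v + b • w := by
    rw [pairMap_apply, polar_eq_two_mul, hwv, inv_mul_cancel₀ hv2]; simp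
  have hPw : pairMap Q v w a b c w = c • v - a • w := by
    rw [pairMap_apply, polar_eq_two_mul, hvw, inv_mul_cancel₀ hw2]; simp
  refine ⟨fun u => ?_, fun u hu => ?_, fun u z => ?_, fun z hz => ?_⟩
  · rw [LinearMap.add_apply, pairMap_apply]
    exact W.add_mem (W.add_mem (W.smul_mem _ (W.add_mem (W.smul_mem _ hvW) (W.smul_mem _ hwW)))
      (W.smul_mem _ (W.sub_mem (W.smul_mem _ hvW) (W.smul_mem _ hwW)))) (hCW (hE.mem u))
  · rw [LinearMap.add_apply, pairMap_apply, hu v hvW, hu w hwW, hE.kill u fun z hz => hu z (hCW hz)]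
    simp
  · rw [LinearMap.add_apply, LinearMap.add_apply, polar_add_left, polar_add_right, hE.symm, pairMap_apply,
      pairMap_apply]
    congr 1
    simp only [polar_add_left, polar_add_right, polar_sub_left, polar_sub_right, polar_smul_left, polar_smul_right,
      polar_comm Q u v, polar_comm Q u w, smul_eq_mul]
    field_simp
    linear_combination (polar Q w u * polar Q v z - polar Q v u * polar Q w z) * hc
  · obtain ⟨s, t, z', hz', rfl⟩ := hdec z hz
    have e : (pairMap Q v w a b c + E) z' = E z' := by rw [LinearMap.add_apply, hPC z' hz', zero_add]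
    have e' : (pairMap Q v w a b c + E) (E z') = ν • z' := by
      rw [LinearMap.add_apply, hPC _ (hE.mem z'), zero_add, hE.sq z' hz']
    have ev : (pairMap Q v w a b c + E) v = a • v + b • w := by rw [LinearMap.add_apply, hPv, hEv, add_zero]
    have ew : (pairMap Q v w a b c + E) w = c • v - a • w := by rw [LinearMap.add_apply, hPw, hEw, add_zero]
    simp only [map_add, map_smul, map_sub, ev, ew, e, e']
    match_scalars <;> first | ring1 | linear_combination s * hab | linear_combination t * hab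

omit [FiniteDimensional F V] in
theorem exists_two_squares [Finite F] (h2 : (2 : F) ≠ 0) {c : F} (hc : c ≠ 0) (y : F) :
    ∃ a b : F, a * a + c * (b * b) = y := by
  have := Fintype.ofFinite F
  open Polynomial in
  obtain ⟨a, b, hab⟩ := FiniteField.exists_root_sum_quadratic (f := X ^ 2 - C y) (g := C c * X ^ 2)
    (degree_X_pow_sub_C (by norm_num) y) (degree_C_mul_X_pow 2 hc)
    (FiniteField.odd_card_of_char_ne_two fun h => h2 (by
      haveI := ringChar.of_eq h
      exact CharTwo.two_eq_zero))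
  simp at hab
  exact ⟨a, b, by linear_combination hab⟩

omit [FiniteDimensional F V] in
theorem exists_aniso (h2 : (2 : F) ≠ 0) {W : Submodule F V} (hW : W ⊓ polarPerp Q W = ⊥) (hne : W ≠ ⊥) :
    ∃ v ∈ W, Q v ≠ 0 := by
  by_contra hc
  push Not at hc
  exact hne (hW ▸ (inf_eq_left.2 fun x hx => mem_polarPerp.2 fun z hz => by
    rw [polar, hc _ (W.add_mem hz hx), hc _ hz, hc _ hx]; ring).symm)

/-- Splitting off an orthogonal pair. -/
theorem split_pair (h2 : (2 : F) ≠ 0) {W : Submodule F V} (hW : W ⊓ polarPerp Q W = ⊥) {v : V} (hvW : v ∈ W)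
    (hv : Q v ≠ 0) {w : V} (hwW : w ∈ W) (hw : Q w ≠ 0) (hvw : polar Q v w = 0) :
    ∃ C : Submodule F V, C ≤ W ∧ C ⊓ polarPerp Q C = ⊥ ∧ Module.finrank F C + 2 = Module.finrank F W ∧
      (∀ z, z ∈ C ↔ z ∈ W ∧ polar Q v z = 0 ∧ polar Q w z = 0) ∧
      ∀ z ∈ W, ∃ s t : F, ∃ z' ∈ C, z = s • v + t • w + z' := by
  have line : ∀ u : V, Q u ≠ 0 → Submodule.span F {u} ⊓ polarPerp Q (Submodule.span F {u}) = ⊥ := fun u hu => by
    rw [eq_bot_iff]
    rintro x ⟨hx, hx'⟩
    obtain ⟨s, rfl⟩ := Submodule.mem_span_singleton.1 hx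
    have := mem_polarPerp.1 hx' u (Submodule.mem_span_singleton_self u)
    rw [polar_smul_right, smul_eq_mul, polar_eq_two_mul] at this
    simp [(mul_eq_zero.1 this).resolve_right (mul_ne_zero h2 hu)]
  have hperp : ∀ u z : V, z ∈ polarPerp Q (Submodule.span F {u}) ↔ polar Q u z = 0 := fun u z => by
    refine ⟨fun h => mem_polarPerp.1 h u (Submodule.mem_span_singleton_self u), fun h => mem_polarPerp.2 fun y hy => ?_⟩
    obtain ⟨s, rfl⟩ := Submodule.mem_span_singleton.1 hy
    rw [polar_smul_left, h, smul_zero]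
  obtain ⟨hC₁, -, hsup₁, -, hd₁⟩ := exists_orth_compl hW ((Submodule.span_singleton_le_iff_mem _ _).2 hvW) (line v hv)
  set C₁ := W ⊓ polarPerp Q (Submodule.span F {v})
  have hw₁ : w ∈ C₁ := ⟨hwW, (hperp v w).2 hvw⟩
  obtain ⟨hC, -, hsup, -, hd⟩ := exists_orth_compl hC₁ ((Submodule.span_singleton_le_iff_mem _ _).2 hw₁) (line w hw)
  refine ⟨C₁ ⊓ polarPerp Q (Submodule.span F {w}), fun z hz => hz.1.1, hC, ?_, fun z => ?_, fun z hz => ?_⟩
  · rw [finrank_span_singleton (fun h => hv (by rw [h, QuadraticMap.map_zero]))] at hd₁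
    rw [finrank_span_singleton (fun h => hw (by rw [h, QuadraticMap.map_zero]))] at hd
    omega
  · exact ⟨fun h => ⟨h.1.1, (hperp v z).1 h.1.2, (hperp w z).1 h.2⟩,
      fun h => ⟨⟨h.1, (hperp v z).2 h.2.1⟩, (hperp w z).2 h.2.2⟩⟩
  · obtain ⟨_, hy, z₁, hz₁, rfl⟩ := Submodule.mem_sup.1 (hsup₁ ▸ hz)
    obtain ⟨s, rfl⟩ := Submodule.mem_span_singleton.1 hy
    obtain ⟨_, hy', z', hz', rfl⟩ := Submodule.mem_sup.1 (hsup ▸ hz₁)
    obtain ⟨t, rfl⟩ := Submodule.mem_span_singleton.1 hy'
    exact ⟨s, t, z', hz', by rw [add_assoc]⟩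

omit [FiniteDimensional F V] in
theorem rootOn_bot {W : Submodule F V} (h : W = ⊥) : RootOn Q ν W 0 := by
  refine ⟨fun u => W.zero_mem, fun u _ => rfl, fun u v => by simp, fun w hw => ?_⟩
  rw [h, Submodule.mem_bot] at hw
  simp [hw]

theorem exists_root_even [Finite F] (h2 : (2 : F) ≠ 0) :
    ∀ (n : ℕ) (W : Submodule F V), W ⊓ polarPerp Q W = ⊥ → Module.finrank F W = 2 * n → ∃ E, RootOn Q ν W E := by
  intro n
  induction n with
  | zero => exact fun W _ hd => ⟨0, rootOn_bot (Submodule.finrank_eq_zero.1 hd)⟩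
  | succ n ih =>
    intro W hW hd
    obtain ⟨v, hvW, hv⟩ := exists_aniso h2 hW (fun h => by rw [h, finrank_bot] at hd; omega)
    obtain ⟨hC₁, -, -, -, hd₁⟩ := exists_orth_compl hW ((Submodule.span_singleton_le_iff_mem v W).2 hvW) (by
      rw [eq_bot_iff]
      rintro x ⟨hx, hx'⟩
      obtain ⟨s, rfl⟩ := Submodule.mem_span_singleton.1 hx
      have := mem_polarPerp.1 hx' v (Submodule.mem_span_singleton_self v)
      rw [polar_smul_right, smul_eq_mul, polar_eq_two_mul] at this
      simp [(mul_eq_zero.1 this).resolve_right (mul_ne_zero h2 hv)])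
    obtain ⟨w, hw₁, hw⟩ := exists_aniso h2 hC₁ (fun h => by
      rw [h, finrank_bot, finrank_span_singleton (fun e => hv (by rw [e, QuadraticMap.map_zero]))] at hd₁
      omega)
    have hvw : polar Q v w = 0 := mem_polarPerp.1 hw₁.2 v (Submodule.mem_span_singleton_self v)
    obtain ⟨C, hCW, hC, hCd, hCm, hdec⟩ := split_pair h2 hW hvW hv hw₁.1 hw hvw
    obtain ⟨E, hE⟩ := ih C hC (by omega)
    obtain ⟨a, b, hab⟩ := exists_two_squares h2 (div_ne_zero hw hv) ν
    exact ⟨_, pair_extend h2 hv hw hvw hvW hw₁.1 hCW hdec (fun z hz => ((hCm z).1 hz).2.1)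
      (fun z hz => ((hCm z).1 hz).2.2) hE (a := a) (b := b) (c := Q w / Q v * b) (by field_simp)
      (by linear_combination hab)⟩

omit [FiniteDimensional F V] in
/-- The pair map of a rotation plane anticommutes with the rotation. -/
theorem pair_anti {f : Module.End F V} (hf : ∀ v, Q (f v) = Q v) (hff : ∀ v, f (f v) = -v) {v : V}
    (a b : F) (u : V) :
    f (pairMap Q v (f v) a b b u) = -pairMap Q v (f v) a b b (f u) := by
  have h1 : polar Q (f v) (f u) = polar Q v u := iso_polar hf v u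
  have h3 : polar Q v (f u) = -polar Q (f v) u := by
    have := iso_polar hf v (f u)
    rw [hff u, polar_neg_right] at this
    rw [← this]
  simp only [pairMap_apply, map_add, map_sub, map_smul, hff, h1, h3, hf v]
  module

theorem exists_root_anti [Finite F] (h2 : (2 : F) ≠ 0) {f : Module.End F V} (hf : ∀ v, Q (f v) = Q v)
    (hff : ∀ v, f (f v) = -v) :
    ∀ (n : ℕ) (W : Submodule F V), W ⊓ polarPerp Q W = ⊥ → Inv f W → Module.finrank F W ≤ n →
      ∃ E, RootOn Q ν W E ∧ ∀ u, f (E u) = -E (f u) := by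
  intro n
  induction n with
  | zero => exact fun W _ _ hd => ⟨0, rootOn_bot (Submodule.finrank_eq_zero.1 (by omega)), by simp⟩
  | succ n ih =>
    intro W hW hi hd
    by_cases hbot : W = ⊥
    · exact ⟨0, rootOn_bot hbot, by simp⟩
    obtain ⟨v, hvW, hv⟩ := exists_aniso h2 hW hbot
    have hw : Q (f v) ≠ 0 := by rwa [hf]
    have hvw : polar Q v (f v) = 0 := by
      have := iso_polar hf v (f v)
      rw [hff, polar_neg_right, polar_comm Q (f v) v] at this
      exact (mul_eq_zero.1 (show (2 : F) * polar Q v (f v) = 0 by linear_combination -this)).resolve_left h2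
    obtain ⟨C, hCW, hC, hCd, hCm, hdec⟩ := split_pair h2 hW hvW hv (hi v hvW) hw hvw
    have hCi : Inv f C := fun z hz => by
      obtain ⟨h1, h2', h3⟩ := (hCm z).1 hz
      refine (hCm _).2 ⟨hi z h1, ?_, (iso_polar hf v z).trans h2'⟩
      have := iso_polar hf v (f z)
      rw [hff, polar_neg_right, h3, neg_zero] at this
      exact this.symm
    obtain ⟨E, hE, hEa⟩ := ih C hC hCi (by omega)
    obtain ⟨a, b, hab⟩ := exists_two_squares h2 one_ne_zero ν
    refine ⟨_, pair_extend h2 hv hw hvw hvW (hi v hvW) hCW hdec (fun z hz => ((hCm z).1 hz).2.1)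
      (fun z hz => ((hCm z).1 hz).2.2) hE (a := a) (b := b) (c := b) (by rw [hf]) (by linear_combination hab),
      fun u => ?_⟩
    rw [LinearMap.add_apply, LinearMap.add_apply, map_add, pair_anti hf hff a b u, hEa, neg_add]

end Roots

section Cover

variable {F : Type*} [Field F] [Finite F] {V : Type*} [AddCommGroup V] [Module F V] [FiniteDimensional F V]
variable {Q : QuadraticForm F V} {ν : F}

/-- Four elements meeting all cosets of the derived group. -/
theorem exists_in_coset (h2 : (2 : F) ≠ 0) (hQ : (polarBilin Q).Nondegenerate) (hR : reflGroup Q = orth Q)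
    {u t : orth Q} (hu : (orthInvariant hQ hR u).2 = Multiplicative.ofAdd 1)
    (ht : (orthInvariant hQ hR t).2 = 1) (hts : (orthInvariant hQ hR t).1 ≠ 1) (g : orth Q) :
    ∃ c ∈ ({1, t, u, t * u} : Set (orth Q)), c * g ∈ commutator (orth Q) := by
  set τ := orthInvariant hQ hR g with hτ
  obtain ⟨c, hc, hcτ⟩ : ∃ c ∈ ({1, t, u, t * u} : Set (orth Q)), orthInvariant hQ hR c = τ := by
    have hd : τ.2 = 1 ∨ τ.2 = Multiplicative.ofAdd 1 := by
      generalize τ.2 = d; revert d; decide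
    rcases hd with hd | hd
    · rcases sqClass_cases h2 hts τ.1 with hs | hs
      · exact ⟨1, by simp, by rw [map_one]; exact Prod.ext hs.symm hd.symm⟩
      · exact ⟨t, by simp, Prod.ext hs.symm (ht.trans hd.symm)⟩
    · rcases sqClass_cases h2 hts (τ.1 * (orthInvariant hQ hR u).1) with hs | hs
      · refine ⟨u, by simp, Prod.ext ?_ (hu.trans hd.symm)⟩
        calc (orthInvariant hQ hR u).1 = τ.1 * τ.1 * (orthInvariant hQ hR u).1 := by rw [sqClass_mul_self, one_mul]
          _ = τ.1 := by rw [mul_assoc, hs, mul_one]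
      · refine ⟨t * u, by simp, Prod.ext ?_ ?_⟩
        · rw [map_mul, Prod.fst_mul, ← hs, mul_assoc, sqClass_mul_self, mul_one]
        · rw [map_mul, Prod.snd_mul, ht, hu, one_mul, hd]
  refine ⟨c, hc, ?_⟩
  rw [mem_commutator_orth_iff hQ hR, map_mul, hcτ, ← hτ]
  refine Prod.ext (sqClass_mul_self _) ?_
  have : ∀ d : Multiplicative (ZMod 2), d * d = 1 := by decide
  exact this _

omit [Finite F] [FiniteDimensional F V] in
theorem oRefl_apply {p : V} (hp : Q p ≠ 0) (u : V) :
    ((oRefl Q p hp : orth Q) : V ≃ₗ[F] V) u = u - ((Q p)⁻¹ * polar Q u p) • p := refl_apply Q p hp u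

omit [Finite F] [FiniteDimensional F V] in
theorem orth_symm_polar (g : orth Q) (u v : V) :
    polar Q (((g : V ≃ₗ[F] V)) u) v = polar Q u (((g : V ≃ₗ[F] V)).symm v) := by
  have h := iso_polar (Q := Q) (f := ((g : V ≃ₗ[F] V) : V →ₗ[F] V)) (fun w => g.2 w) u
    (((g : V ≃ₗ[F] V)).symm v)
  simpa using h

omit [Finite F] [FiniteDimensional F V] in
/-- A product of two reflections of a rotation plane commutes with the rotation. -/
theorem pair_rot {f : Module.End F V} (hf : ∀ v, Q (f v) = Q v) (hff : ∀ v, f (f v) = -v) {v : V} (hv : Q v ≠ 0)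
    (hvw : polar Q v (f v) = 0) {s t : F} (hQp : Q (s • v + t • f v) = (s * s + t * t) * Q v)
    (hp : Q (s • v + t • f v) ≠ 0) (y : V) :
    f (((oRefl Q v hv * oRefl Q _ hp : orth Q) : V ≃ₗ[F] V) y) =
      ((oRefl Q v hv * oRefl Q _ hp : orth Q) : V ≃ₗ[F] V) (f y) := by
  show f (((oRefl Q v hv : orth Q) : V ≃ₗ[F] V) (((oRefl Q _ hp : orth Q) : V ≃ₗ[F] V) y)) =
    ((oRefl Q v hv : orth Q) : V ≃ₗ[F] V) (((oRefl Q _ hp : orth Q) : V ≃ₗ[F] V) (f y))
  have hpf : ∀ y, polar Q v (f y) = -polar Q (f v) y := fun y => by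
    have := iso_polar hf v (f y)
    rw [hff, polar_neg_right] at this
    exact this.symm
  have hst : s * s + t * t ≠ 0 := fun h => hp (by rw [hQp, h, zero_mul])
  have e1 : polar Q y v = polar Q v y := polar_comm _ _ _
  have e2 : polar Q y (f v) = polar Q (f v) y := polar_comm _ _ _
  have e3 : polar Q (f y) v = -polar Q (f v) y := (polar_comm _ _ _).trans (hpf y)
  have e4 : polar Q (f y) (f v) = polar Q v y := (iso_polar hf y v).trans e1
  have e5 : polar Q (f v) v = 0 := (polar_comm _ _ _).trans hvw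
  simp only [oRefl_apply, map_sub, map_smul, polar_sub_left, polar_smul_left, polar_add_right,
    polar_smul_right, polar_add_left, map_add, hQp, e1, e2, e3, e4, e5, hvw, polar_eq_two_mul, hff, smul_eq_mul]
  have hst' : s ^ 2 + t ^ 2 ≠ 0 := by rwa [pow_two, pow_two]
  have hts' : t ^ 2 + s ^ 2 ≠ 0 := by rwa [add_comm]
  match_scalars <;> field_simp <;> ring

/-- Isometries carrying one square root into another one commuting up to sign. -/
theorem exists_two_conj (h2 : (2 : F) ≠ 0) (hQ : (polarBilin Q).Nondegenerate) {d : ℕ} (hd : 1 ≤ d)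
    (hn : Module.finrank F V = 2 * (d + 1)) (hν : ¬ IsSquare ν) {J : Module.End F V}
    (hJ : ∀ v, J (J v) = ν • v) (hJs : ∀ u v, polar Q (J u) v = polar Q u (J v))
    {f : Module.End F V} (hf : ∀ v, Q (f v) = Q v) {z : F} (hff : ∀ v, f (f v) = z • v) (hz : z * z = 1)
    (heven : z = 1 → Even (Module.finrank F (movSp f))) :
    ∃ g ∈ commutator (orth Q), ∃ e : F, e * e = 1 ∧ ∀ v,
      f ((g : V ≃ₗ[F] V) (J ((g : V ≃ₗ[F] V).symm v))) = e • (g : V ≃ₗ[F] V) (J ((g : V ≃ₗ[F] V).symm (f v))) := by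
  classical
  have := Fintype.ofFinite F
  haveI := fact_of_not_square hν
  have hR : reflGroup Q = orth Q := reflGroup_eq_orth_of_two_ne hQ h2
  have htop : (⊤ : Submodule F V) ⊓ polarPerp Q ⊤ = ⊥ :=
    nondeg_iff.1 fun u _ hu' => hQ.1 u fun v => hu' v trivial
  -- `E` is a root commuting with `f` up to sign, kept by the four coset representatives
  suffices h : ∃ (e : F) (E : Module.End F V) (u t : orth Q), e * e = 1 ∧ (∀ v, E (E v) = ν • v) ∧
      (∀ a b, polar Q (E a) b = polar Q a (E b)) ∧ (orthInvariant hQ hR u).2 = Multiplicative.ofAdd 1 ∧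
      (orthInvariant hQ hR t).2 = 1 ∧ (orthInvariant hQ hR t).1 ≠ 1 ∧
      ∀ c ∈ ({1, t, u, t * u} : Set (orth Q)), ∀ v,
        f ((c : V ≃ₗ[F] V) (E ((c : V ≃ₗ[F] V).symm v))) = e • (c : V ≃ₗ[F] V) (E ((c : V ≃ₗ[F] V).symm (f v))) by
    obtain ⟨e, E, u, t, he, hE, hEs, hu, ht, hts, hc⟩ := h
    obtain ⟨g₀, hg₀⟩ := exists_conj (ν := ν) h2 hQ hn hJ hJs hE hEs
    obtain ⟨c, hcm, hcg⟩ := exists_in_coset h2 hQ hR hu ht hts g₀
    refine ⟨c * g₀, hcg, e, he, fun v => ?_⟩
    have key : ∀ y, ((c * g₀ : orth Q) : V ≃ₗ[F] V) (J (((c * g₀ : orth Q) : V ≃ₗ[F] V).symm y)) =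
        (c : V ≃ₗ[F] V) (E ((c : V ≃ₗ[F] V).symm y)) := fun y => by
      show (c : V ≃ₗ[F] V) ((g₀ : V ≃ₗ[F] V) (J ((g₀ : V ≃ₗ[F] V).symm ((c : V ≃ₗ[F] V).symm y)))) = _
      rw [hg₀, LinearEquiv.apply_symm_apply]
    rw [key, key]
    exact hc c hcm v
  have hinv1 : ∀ {p : V} (hp : Q p ≠ 0),
      orthInvariant hQ hR (oRefl Q p hp) = (sqMk hp, Multiplicative.ofAdd 1) := fun hp => orthInvariant_oRefl hQ hR hp
  have two_refl : ∀ {p q : V} (hp : Q p ≠ 0) (hq : Q q ≠ 0), ¬ IsSquare (Q p * Q q) →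
      (orthInvariant hQ hR (oRefl Q p hp * oRefl Q q hq)).2 = 1 ∧
      (orthInvariant hQ hR (oRefl Q p hp * oRefl Q q hq)).1 ≠ 1 := fun hp hq hpq => by
    rw [map_mul, hinv1, hinv1, Prod.mk_mul_mk]
    refine ⟨(by decide : Multiplicative.ofAdd (1 : ZMod 2) * Multiplicative.ofAdd 1 = 1), fun h => hpq ?_⟩
    rw [← sqMk_mul hp hq] at h
    exact (sqMk_eq_one_iff _).1 h
  rcases (mul_self_eq_one_iff.1 hz) with rfl | rfl
  · -- an involution
    have hf2 : f ^ 2 = 1 := LinearMap.ext fun v => by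
      rw [pow_two, Module.End.mul_apply, hff, one_smul, Module.End.one_apply]
    obtain ⟨hA, hB, hsum, -⟩ := invol_facts hQ h2 hf hf2
    obtain ⟨m, hm⟩ := heven rfl
    obtain ⟨EA, hEA⟩ := exists_root_even (ν := ν) h2 (d + 1 - m) (fixSp f) hA (by omega)
    obtain ⟨EB, hEB⟩ := exists_root_even (ν := ν) h2 m (movSp f) hB (by omega)
    have hcross : ∀ a ∈ fixSp f, ∀ b ∈ movSp f, polar Q a b = 0 := fun a ha b hb => by
      have h := iso_polar hf a b
      rw [mem_fixSp.1 ha, apply_mov hf2 hb, polar_neg_right] at h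
      exact (mul_eq_zero.1 (show (2 : F) * polar Q a b = 0 by linear_combination -h)).resolve_left h2
    have hdec : ∀ v, ∃ a ∈ fixSp f, ∃ b ∈ movSp f, v = a + b := fun v => by
      refine ⟨(2 : F)⁻¹ • (v + f v), mem_fixSp.2 ?_, (2 : F)⁻¹ • (v - f v), ?_, ?_⟩
      · rw [map_smul, map_add, hff, one_smul, add_comm (f v)]
      · rw [← neg_sub, smul_neg]
        exact neg_mem (Submodule.smul_mem _ _ ⟨v, by simp⟩)
      · rw [← smul_add, show v + f v + (v - f v) = (2 : F) • v by rw [two_smul]; abel, inv_smul_smul₀ h2]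
    have hkA : ∀ b ∈ movSp f, EA b = 0 := fun b hb => hEA.kill b fun a ha => hcross a ha b hb
    have hkB : ∀ a ∈ fixSp f, EB a = 0 := fun a ha => hEB.kill a fun b hb => by
      rw [polar_comm]; exact hcross a ha b hb
    have hEE : ∀ v, (EA + EB) ((EA + EB) v) = ν • v := fun v => by
      obtain ⟨a, ha, b, hb, rfl⟩ := hdec v
      simp only [map_add, LinearMap.add_apply, hkA b hb, hkB a ha, hkA _ (hEB.mem b), hkB _ (hEA.mem a),
        hEA.sq a ha, hEB.sq b hb, add_zero, zero_add, smul_add]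
    have hcomm : ∀ v, f ((EA + EB) v) = (EA + EB) (f v) := fun v => by
      obtain ⟨a, ha, b, hb, rfl⟩ := hdec v
      simp only [map_add, LinearMap.add_apply, hkA b hb, hkB a ha, mem_fixSp.1 ha, apply_mov hf2 hb, map_neg,
        mem_fixSp.1 (hEA.mem a), apply_mov hf2 (hEB.mem b), add_zero, zero_add, map_zero, neg_zero]
    -- reflections commuting with `f` of both classes
    obtain ⟨D, hD, hDd, hDc⟩ : ∃ D : Submodule F V, D ⊓ polarPerp Q D = ⊥ ∧ 2 ≤ Module.finrank F D ∧
        ∀ (p : V) (hp : Q p ≠ 0), p ∈ D → ∀ v, f (((oRefl Q p hp : orth Q) : V ≃ₗ[F] V) v) =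
          ((oRefl Q p hp : orth Q) : V ≃ₗ[F] V) (f v) := by
      rcases le_or_gt 2 (Module.finrank F (fixSp f)) with h | h
      · refine ⟨_, hA, h, fun p hp hpD v => ?_⟩
        rw [oRefl_apply, oRefl_apply, map_sub, map_smul, mem_fixSp.1 hpD]
        congr 3
        conv_rhs => rw [← mem_fixSp.1 hpD, iso_polar hf]
      · refine ⟨_, hB, by omega, fun p hp hpD v => ?_⟩
        have hfp := apply_mov hf2 hpD
        rw [oRefl_apply, oRefl_apply, map_sub, map_smul, hfp, smul_neg, ← neg_smul]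
        congr 2
        rw [← iso_polar hf v p, hfp, polar_neg_right, mul_neg, neg_neg]
    obtain ⟨p, hpD, hp⟩ := exists_aniso h2 hD (fun h => by rw [h, finrank_bot] at hDd; omega)
    obtain ⟨hC₁, -, -, -, hd₁⟩ := exists_orth_compl hD ((Submodule.span_singleton_le_iff_mem p D).2 hpD) (by
      rw [eq_bot_iff]
      rintro x ⟨hx, hx'⟩
      obtain ⟨s, rfl⟩ := Submodule.mem_span_singleton.1 hx
      have := mem_polarPerp.1 hx' p (Submodule.mem_span_singleton_self p)
      rw [polar_smul_right, smul_eq_mul, polar_eq_two_mul] at this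
      simp [(mul_eq_zero.1 this).resolve_right (mul_ne_zero h2 hp)])
    obtain ⟨w, hw₁, hw⟩ := exists_aniso h2 hC₁ (fun h => by
      rw [h, finrank_bot, finrank_span_singleton (fun e => hp (by rw [e, QuadraticMap.map_zero]))] at hd₁
      omega)
    have hpw : polar Q p w = 0 := mem_polarPerp.1 hw₁.2 p (Submodule.mem_span_singleton_self p)
    obtain ⟨q, hqD, hpq⟩ : ∃ q ∈ D, ¬ IsSquare (Q p * Q q) := by
      obtain ⟨s, t, hst⟩ := exists_two_squares h2 (div_ne_zero hw hp) ν
      refine ⟨s • p + t • w, D.add_mem (D.smul_mem _ hpD) (D.smul_mem _ hw₁.1), ?_⟩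
      rw [QuadraticMap.map_add (⇑Q), polar_smul_left, polar_smul_right, hpw, smul_zero, smul_zero, add_zero,
        map_smul', map_smul']
      rintro ⟨r, hr⟩
      refine hν ⟨r / Q p, ?_⟩
      rw [← hst]
      field_simp
      linear_combination hr
    have hq : Q q ≠ 0 := fun h => hpq (by rw [h, mul_zero]; exact IsSquare.zero)
    obtain ⟨ht, hts⟩ := two_refl hp hq hpq
    refine ⟨1, EA + EB, oRefl Q p hp, oRefl Q p hp * oRefl Q q hq, one_mul 1, hEE, fun a b => by
      rw [LinearMap.add_apply, LinearMap.add_apply, polar_add_left, polar_add_right, hEA.symm, hEB.symm],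
      by rw [hinv1], ht, hts, fun c hc v => ?_⟩
    have hcm : ∀ c : orth Q, (∀ v, f ((c : V ≃ₗ[F] V) v) = (c : V ≃ₗ[F] V) (f v)) →
        f ((c : V ≃ₗ[F] V) ((EA + EB) ((c : V ≃ₗ[F] V).symm v))) =
          (1 : F) • (c : V ≃ₗ[F] V) ((EA + EB) ((c : V ≃ₗ[F] V).symm (f v))) := fun c hc => by
      rw [one_smul, hc, hcomm]
      congr 2
      apply (c : V ≃ₗ[F] V).injective
      rw [LinearEquiv.apply_symm_apply, ← hc, LinearEquiv.apply_symm_apply]
    refine hcm c ?_
    intro y
    rcases hc with rfl | rfl | rfl | rfl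
    · rfl
    · exact (hDc p hp hpD _).trans (congrArg _ (hDc q hq hqD y))
    · exact hDc p hp hpD y
    · exact (hDc p hp hpD _).trans (congrArg _ ((hDc q hq hqD _).trans (congrArg _ (hDc p hp hpD y))))
  · -- a square root of `-1`
    have hff' : ∀ v, f (f v) = -v := fun v => by rw [hff, neg_one_smul]
    obtain ⟨v, -, hv⟩ := exists_aniso h2 htop (fun h => by
      have := congrArg (fun W : Submodule F V => Module.finrank F W) h
      simp only [finrank_top, finrank_bot] at this
      omega)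
    set w := f v with hwdef
    have hfw : f w = -v := hff' v
    have hw : Q w ≠ 0 := by rwa [hf]
    have hwq : Q w = Q v := hf v
    have hvw : polar Q v w = 0 := by
      have := iso_polar hf v w
      rw [hfw, polar_neg_right, polar_comm Q w v] at this
      exact (mul_eq_zero.1 (show (2 : F) * polar Q v w = 0 by linear_combination -this)).resolve_left h2
    have hwv : polar Q w v = 0 := by rw [polar_comm]; exact hvw
    obtain ⟨C, -, hC, hCd, hCm, hdec⟩ := split_pair h2 htop (Submodule.mem_top (x := v)) hv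
      (Submodule.mem_top (x := w)) hw hvw
    have hpf : ∀ y, polar Q v (f y) = -polar Q w y := fun y => by
      have := iso_polar hf v (f y)
      rw [hff', polar_neg_right] at this
      exact this.symm
    have hpf' : ∀ y, polar Q w (f y) = polar Q v y := fun y => iso_polar hf v y
    have hCi : Inv f C := fun y hy => by
      obtain ⟨-, h1, h3⟩ := (hCm y).1 hy
      exact (hCm _).2 ⟨trivial, by rw [hpf, h3, neg_zero], by rw [hpf', h1]⟩
    obtain ⟨E, hE, hEa⟩ := exists_root_anti (ν := ν) h2 hf hff' _ C hC hCi le_rfl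
    obtain ⟨a, b, hab⟩ := exists_two_squares h2 one_ne_zero ν
    have hroot : ∀ b : F, a * a + 1 * (b * b) = ν → RootOn Q ν ⊤ (pairMap Q v w a b b + E) := fun b hb =>
      pair_extend h2 hv hw hvw Submodule.mem_top Submodule.mem_top le_top hdec (fun y hy => ((hCm y).1 hy).2.1)
        (fun y hy => ((hCm y).1 hy).2.2) hE (by rw [hwq]) (by linear_combination hb)
    have hanti : ∀ b : F, ∀ y, f ((pairMap Q v w a b b + E) y) = -(pairMap Q v w a b b + E) (f y) := fun b y => by
      rw [LinearMap.add_apply, LinearMap.add_apply, map_add, hwdef, pair_anti hf hff' a b y, hEa, neg_add]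
    -- the reflection in `w` exchanges the roots
    have hEw : ∀ y, E (((oRefl Q w hw : orth Q) : V ≃ₗ[F] V) y) = E y := fun y => by
      rw [oRefl_apply, map_sub, map_smul, hE.kill w (fun y hy => by rw [polar_comm]; exact ((hCm y).1 hy).2.2),
        smul_zero, sub_zero]
    have hrE : ∀ y, ((oRefl Q w hw : orth Q) : V ≃ₗ[F] V)
        ((pairMap Q v w a b b + E) (((oRefl Q w hw : orth Q) : V ≃ₗ[F] V).symm y)) =
          (pairMap Q v w a (-b) (-b) + E) y := fun y => by
      obtain ⟨y', rfl⟩ := ((oRefl Q w hw : orth Q) : V ≃ₗ[F] V).surjective y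
      rw [LinearEquiv.symm_apply_apply, LinearMap.add_apply, map_add, LinearMap.add_apply, hEw]
      congr 1
      · rw [pairMap_apply, pairMap_apply]
        simp only [map_add, map_sub, map_smul, oRefl_apply, polar_sub_right, polar_smul_right, hvw, hwv,
          polar_eq_two_mul, hwq, smul_eq_mul, mul_zero, sub_zero, polar_comm Q y' w]
        match_scalars <;> field_simp <;> ring
      · rw [oRefl_apply, polar_comm Q, ((hCm _).1 (hE.mem y')).2.2, mul_zero, zero_smul, sub_zero]
    obtain ⟨s, t, hst⟩ := exists_two_squares h2 one_ne_zero ν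
    set p := s • v + t • w with hpdef
    have hQp : Q p = ν * Q v := by
      rw [hpdef, QuadraticMap.map_add (⇑Q), polar_smul_left, polar_smul_right, hvw, smul_zero, smul_zero, add_zero,
        map_smul', map_smul', hwq]
      linear_combination Q v * hst
    have hν0 : ν ≠ 0 := fun h => hν (h ▸ IsSquare.zero)
    have hp : Q p ≠ 0 := by rw [hQp]; exact mul_ne_zero hν0 hv
    have hpq : ¬ IsSquare (Q v * Q p) := by
      rintro ⟨r, hr⟩
      rw [hQp] at hr
      exact hν ⟨r / Q v, by field_simp; linear_combination hr⟩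
    obtain ⟨ht, hts⟩ := two_refl hv hp hpq
    -- the rotation commutes with `f`
    have hrot : ∀ y, f (((oRefl Q v hv * oRefl Q p hp : orth Q) : V ≃ₗ[F] V) y) =
        ((oRefl Q v hv * oRefl Q p hp : orth Q) : V ≃ₗ[F] V) (f y) := fun y =>
      pair_rot hf hff' hv hvw (t := t) (by rw [hQp, ← hst]; ring) hp y
    refine ⟨-1, pairMap Q v w a b b + E, oRefl Q w hw, oRefl Q v hv * oRefl Q p hp, by ring,
      fun y => (hroot b hab).sq y trivial, (hroot b hab).symm, by rw [hinv1], ht, hts, fun c hc y => ?_⟩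
    rw [neg_one_smul]
    have hcm : ∀ (c : orth Q) (G : Module.End F V), (∀ y, f ((c : V ≃ₗ[F] V) y) = (c : V ≃ₗ[F] V) (f y)) →
        (∀ y, f (G y) = -G (f y)) →
        f ((c : V ≃ₗ[F] V) (G ((c : V ≃ₗ[F] V).symm y))) = -(c : V ≃ₗ[F] V) (G ((c : V ≃ₗ[F] V).symm (f y))) :=
      fun c G hc hG => by
      rw [hc, hG, map_neg]
      congr 3
      apply (c : V ≃ₗ[F] V).injective
      rw [LinearEquiv.apply_symm_apply, ← hc, LinearEquiv.apply_symm_apply]
    rcases hc with rfl | rfl | rfl | rfl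
    · exact hanti b y
    · exact hcm _ _ hrot (hanti b)
    · rw [hrE, hrE]; exact hanti (-b) y
    · show f (((oRefl Q v hv * oRefl Q p hp : orth Q) : V ≃ₗ[F] V) (((oRefl Q w hw : orth Q) : V ≃ₗ[F] V)
          ((pairMap Q v w a b b + E) (((oRefl Q w hw : orth Q) : V ≃ₗ[F] V).symm
            (((oRefl Q v hv * oRefl Q p hp : orth Q) : V ≃ₗ[F] V).symm y))))) =
        -((oRefl Q v hv * oRefl Q p hp : orth Q) : V ≃ₗ[F] V) (((oRefl Q w hw : orth Q) : V ≃ₗ[F] V)
          ((pairMap Q v w a b b + E) (((oRefl Q w hw : orth Q) : V ≃ₗ[F] V).symm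
            (((oRefl Q v hv * oRefl Q p hp : orth Q) : V ≃ₗ[F] V).symm (f y)))))
      rw [hrE, hrE]
      exact hcm _ _ hrot (hanti (-b))

end Cover

section Main

variable {F : Type*} [Field F] [Finite F] {ι : Type} [Fintype ι] [DecidableEq ι] {Q : QuadraticForm F (ι → F)}
variable {K : Subalgebra F (Matrix ι ι F)}

/-- Elements of order two modulo scalars fix a subgroup of field-extension type. -/
theorem two_fixes (hQ : (polarBilin Q).Nondegenerate) (h2 : (2 : F) ≠ 0) {d : ℕ} (hd : 2 ≤ d)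
    (hn : Fintype.card ι = 2 * (d + 1)) (hK : Cfsg.Geo.IsFieldSubalgebra 2 K)
    (hKf : Cfsg.Geo.IsSelfAdjointFor (polar ⇑Q) K) {x : GL ι F} (hx : x ∈ Cfsg.Geo.omegaGL ⇑Q) {z : F}
    (hxz : ((x ^ 2 : GL ι F) : Matrix ι ι F) = z • (1 : Matrix ι ι F)) :
    ∃ g ∈ Cfsg.Geo.omegaGL ⇑Q, g⁻¹ * x * g ∈ Cfsg.Geo.subalgebraNormalizer K := by
  classical
  have := Fintype.ofFinite F
  haveI : Nonempty ι := Fintype.card_pos_iff.1 (by omega)
  obtain ⟨ν, M, hν, hM, hMM, hspan⟩ := exists_generator h2 hK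
  set J := Matrix.toLin' M with hJdef
  have hJ : ∀ v, J (J v) = ν • v := fun v => by
    rw [hJdef, ← LinearMap.comp_apply, ← Matrix.toLin'_mul, hMM, map_smul, Matrix.toLin'_one]; rfl
  have hJs : ∀ u v, polar Q (J u) v = polar Q u (J v) := fun u v => hKf M hM u v
  set f := Matrix.toLin' (x : Matrix ι ι F) with hfdef
  have hf := omega_preserves hx
  have hf2 : f ^ 2 = z • 1 := by rw [hfdef, ← toLin'_pow, hxz, map_smul, Matrix.toLin'_one, Module.End.one_eq_id]
  have hff : ∀ v, f (f v) = z • v := fun v => by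
    rw [← Module.End.mul_apply, ← pow_two, hf2]; rfl
  have hfr : Module.finrank F (ι → F) = 2 * (d + 1) := by rw [Module.finrank_fintype_fun_eq_card, hn]
  have htop : (⊤ : Submodule F (ι → F)) ⊓ polarPerp Q ⊤ = ⊥ :=
    nondeg_iff.1 fun u _ hu' => hQ.1 u fun v => hu' v trivial
  obtain ⟨v, -, hv⟩ := exists_aniso h2 htop (fun h => by
    have := congrArg (fun W : Submodule F (ι → F) => Module.finrank F W) h
    simp only [finrank_top, finrank_bot] at this
    omega)
  have hzz : z * z = 1 := by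
    have h1 : Q (f (f v)) = Q v := (hf _).trans (hf v)
    rw [hff, map_smul'] at h1
    exact (mul_eq_right₀ hv).1 h1
  obtain ⟨g, hg, e, he, hgx⟩ := exists_two_conj h2 hQ (by omega) hfr hν hJ hJs hf hff hzz (by
    rintro rfl
    obtain ⟨k, hk, -⟩ := (invol_mem_omega_iff hQ h2 hf (by rw [hf2, one_smul])).1 ⟨x, hx, rfl⟩
    exact ⟨k, by omega⟩)
  refine ⟨orthToGL Q g, by rw [omegaGL_eq_map]; exact Subgroup.mem_map_of_mem _ hg,
    mem_normalizer_gen hM hspan e he ?_⟩
  apply Matrix.toLin'.injective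
  refine LinearMap.ext fun u => ?_
  have hgi : ∀ w, Matrix.toLin' (((orthToGL Q g)⁻¹ : GL ι F) : Matrix ι ι F) w = (g : (ι → F) ≃ₗ[F] (ι → F)).symm w :=
    fun w => by
    rw [← map_inv, toLin'_orthToGL]; rfl
  have hgg : ∀ w, Matrix.toLin' ((orthToGL Q g : GL ι F) : Matrix ι ι F) w = (g : (ι → F) ≃ₗ[F] (ι → F)) w :=
    fun w => by rw [toLin'_orthToGL]; rfl
  simp only [Units.val_mul, Matrix.toLin'_mul, map_smul, LinearMap.smul_apply, LinearMap.comp_apply, hgi, hgg,
    ← hfdef, ← hJdef]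
  have := hgx ((g : (ι → F) ≃ₗ[F] (ι → F)) u)
  rw [LinearEquiv.symm_apply_apply] at this
  rw [this, map_smul, LinearEquiv.symm_apply_apply]

end Main

end CfsgLib.OrthPrime.FieldExt
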