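import Cfsg.Agent.Lib.OrthPrime.FieldExtOdd

/-! Prime-order elements and subgroups of quadratic field-extension type in orthogonal groups. -/

set_option autoImplicit false

namespace CfsgLib.OrthPrime.FieldExt

open QuadraticMap CfsgLib.Geometry CfsgLib.OrthMax CfsgLib.PrimeOrderSp CfsgLib.OrthPrime CfsgLib.Classical

variable {F : Type*} [Field F] [Fintype F] {ι : Type} [Fintype ι] [DecidableEq ι] {Q : QuadraticForm F (ι → F)}
variable {K : Subalgebra F (Matrix ι ι F)}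

theorem det_basisFun_ne_zero (hQ : (polarBilin Q).Nondegenerate) :
    (Matrix.of fun i j => polar Q (Pi.basisFun F ι i) (Pi.basisFun F ι j)).det ≠ 0 := fun h0 => by
  refine (LinearMap.BilinForm.nondegenerate_iff_det_ne_zero (Pi.basisFun F ι)).1 hQ (Eq.trans ?_ h0)
  congr 1
  ext i j
  rw [LinearMap.BilinForm.toMatrix_apply, polarBilin_apply_apply, Matrix.of_apply]

/-- The index is divisible only by primes allowed by the orders. -/
theorem extra_dvd (hQ : (polarBilin Q).Nondegenerate) (h2 : (2 : F) ≠ 0) {d : ℕ} (hd : 4 ≤ d)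
    (hn : Fintype.card ι = 2 * d) {ν : F} (hν : ¬ IsSquare ν) {M : Matrix ι ι F} (hM : M ∈ K)
    (hMM : M * M = ν • (1 : Matrix ι ι F)) (hspan : ∀ k ∈ K, ∃ a b : F, k = a • (1 : Matrix ι ι F) + b • M)
    (hKf : Cfsg.Geo.IsSelfAdjointFor (polar ⇑Q) K) {r : ℕ} [Fact r.Prime] (hr : (r : F) ≠ 0) (hr2 : r ≠ 2)
    {ε : ℕ} (hε : (sgn Q ⊤ = 1 ∧ ε = Fintype.card F ^ d - 1) ∨ (sgn Q ⊤ = -1 ∧ ε = Fintype.card F ^ d + 1))
    (hcard : Nat.card (orth Q) = 2 * Fintype.card F ^ (d * (d - 1)) * ε *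
      ∏ i ∈ Finset.range (d - 1), (Fintype.card F ^ (2 * (i + 1)) - 1))
    (hΩ : r ∣ (Cfsg.Geo.subalgebraNormalizer K).relIndex (Cfsg.Geo.omegaGL ⇑Q)) :
    (∃ j, Odd j ∧ j < d ∧ r ∣ Fintype.card F ^ (2 * j) - 1) ∨ (Odd d ∧ r ∣ ε) := by
  classical
  haveI := fact_of_not_square hν
  set q := Fintype.card F with hq
  have hrp := (Fact.out : r.Prime)
  have hrq : ¬ r ∣ q := by
    intro h
    obtain ⟨p, hp⟩ := CharP.exists F
    obtain ⟨n, hp', hqp⟩ := FiniteField.card F p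
    rw [hq, hqp] at h
    exact hr ((CharP.cast_eq_zero_iff F p r).2
      (((Nat.prime_dvd_prime_iff_eq hrp hp').1 (hrp.dvd_of_dvd_pow h)).symm ▸ dvd_rfl))
  have hqL : Nat.card (QuadraticAlgebra F ν 0) = q ^ 2 := by rw [natCard_ext, Nat.card_eq_fintype_card]
  have h2L := two_ne_ext (ν := ν) h2
  have hJ : ∀ v, Matrix.toLin' M (Matrix.toLin' M v) = ν • v := fun v => by
    rw [← LinearMap.comp_apply, ← Matrix.toLin'_mul, hMM, map_smul, Matrix.toLin'_one]; rfl
  have hJs : ∀ u v, polar Q (Matrix.toLin' M u) v = polar Q u (Matrix.toLin' M v) := fun u v => hKf M hM u v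
  have hfr : Module.finrank F (ι → F) = 2 * d := by rw [Module.finrank_fintype_fun_eq_card, hn]
  set X := (Matrix.of fun i j => polar Q (Pi.basisFun F ι i) (Pi.basisFun F ι j)).det
  have hX : X ≠ 0 := det_basisFun_ne_zero hQ
  have h4ν : (4 * ν : F) ≠ 0 := by
    rw [show (4 : F) = 2 * 2 by norm_num]
    exact mul_ne_zero (mul_ne_zero h2 h2) fun h => hν (h ▸ IsSquare.zero)
  have := Fintype.ofFinite (QuadraticAlgebra F ν 0)
  have hpow1 : ∀ a b : ℕ, 0 < a → 1 < b → 0 < b ^ a - 1 := fun a b ha hb =>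
    Nat.sub_pos_of_lt (Nat.one_lt_pow ha.ne' hb)
  have hq1 : 1 < q := Fintype.one_lt_card
  rcases Nat.even_or_odd' d with ⟨m, rfl | rfl⟩
  · -- even dimension over the extension
    obtain ⟨k, rfl⟩ : ∃ k, m = k + 1 := ⟨m - 1, by omega⟩
    have hsqpow : IsSquare ((4 * ν) ^ (2 * (k + 1))) := ⟨(4 * ν) ^ (k + 1), by rw [two_mul, pow_add]⟩
    -- discriminants
    have hnorm : ∀ {κ : Type} [Fintype κ] [DecidableEq κ]
        (S : QuadraticForm (QuadraticAlgebra F ν 0) (κ → QuadraticAlgebra F ν 0)),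
        (polarBilin S).Nondegenerate → Fintype.card κ = 2 * (k + 1) →
        (IsSquare (QuadraticAlgebra.norm (Matrix.of fun i j => polar S (Pi.basisFun _ κ i) (Pi.basisFun _ κ j)).det)
          ↔ sgn S ⊤ = 1) := fun {κ} _ _ S hS hκ => by
      rw [← plus_iff_sgn, plus_iff_disc h2L hS (k := k + 1) (by rw [Module.finrank_fintype_fun_eq_card, hκ])
        (Pi.basisFun _ κ)]
      have hm1 : IsSquare ((-1 : QuadraticAlgebra F ν 0) ^ (k + 1)) := by
        rw [show (-1 : QuadraticAlgebra F ν 0) = algebraMap F _ (-1) by simp, ← map_pow]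
        exact isSquare_base h2 _
      obtain ⟨s, hs⟩ := hm1
      have hs0 : s ≠ 0 := fun h => pow_ne_zero (k + 1) (neg_ne_zero.2 (one_ne_zero (α := QuadraticAlgebra F ν 0)))
        (by rw [hs, h, mul_zero])
      rw [hs, isSquare_mul_sq_iff hs0]
      refine ⟨isSquare_of_norm h2, fun ⟨t, ht⟩ => ⟨QuadraticAlgebra.norm t, by rw [ht, map_mul]⟩⟩
    have hXsq : sgn Q ⊤ = 1 ↔ IsSquare X := by
      rw [← plus_iff_sgn, plus_iff_disc h2 hQ (k := 2 * (k + 1)) hfr (Pi.basisFun F ι), Even.neg_one_pow ⟨k + 1, by ring⟩,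
        one_mul]
    have hsplit : ∏ i ∈ Finset.range (2 * (k + 1) - 1), (q ^ (2 * (i + 1)) - 1) =
        (∏ l ∈ Finset.range (k + 1), (q ^ (2 * (2 * l + 1)) - 1)) *
          ∏ l ∈ Finset.range k, ((q ^ 2) ^ (2 * (l + 1)) - 1) := by
      rw [show 2 * (k + 1) - 1 = 2 * k + 1 by omega, prod_split' (fun i => q ^ (2 * (i + 1)) - 1) k, ← even_part q k]
    have hexp : q ^ (2 * (k + 1)) = (q ^ 2) ^ (k + 1) := by rw [← pow_mul]
    have hfin : ∀ {e : ℕ} (R : ℕ), r ∣ R → 0 < e →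
        R * (2 * (q ^ 2) ^ ((k + 1) * k) * e * ∏ l ∈ Finset.range k, ((q ^ 2) ^ (2 * (l + 1)) - 1)) ∣
          2 * q ^ (2 * (k + 1) * (2 * (k + 1) - 1)) * e *
            ((∏ l ∈ Finset.range (k + 1), (q ^ (2 * (2 * l + 1)) - 1)) *
              ∏ l ∈ Finset.range k, ((q ^ 2) ^ (2 * (l + 1)) - 1)) →
        ∃ j, Odd j ∧ j < 2 * (k + 1) ∧ r ∣ q ^ (2 * j) - 1 := fun {e} R hR he hdvd => by
      have hP : 0 < e * ∏ l ∈ Finset.range k, ((q ^ 2) ^ (2 * (l + 1)) - 1) :=
        mul_pos he (Finset.prod_pos fun l _ => hpow1 _ _ (by omega) (Nat.one_lt_pow two_ne_zero hq1))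
      obtain ⟨j, hj, hjm, hjd⟩ := odd_exponent hrp (m := k + 1) (dvd_extra hrp hr2 hrq hR hP
        (B := (q ^ 2) ^ ((k + 1) * k)) (A := 2 * (k + 1) * (2 * (k + 1) - 1))
        (Y := ∏ l ∈ Finset.range (k + 1), (q ^ (2 * (2 * l + 1)) - 1))
        ((dvd_of_eq (by ring)).trans (hdvd.trans (dvd_of_eq (by ring)))))
      exact ⟨j, hj, by omega, hjd⟩
    left
    rcases hε with ⟨hs, rfl⟩ | ⟨hs, rfl⟩
    · set S := matQuad (plusMat (k + 1) (QuadraticAlgebra F ν 0))
      have hS : (polarBilin S).Nondegenerate := nondegenerate_plus (k + 1)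
      have hcι : Fintype.card (Fin (k + 1) ⊕ Fin (k + 1)) = 2 * (k + 1) := by simp; omega
      obtain ⟨ψ, hψ, hψJ⟩ := exists_hom h2 hQ hJ hJs S hS (by rw [hfr, hcι]) (Pi.basisFun F ι) (by
        rw [hcι]
        exact (hXsq.1 hs).mul (hsqpow.mul ((hnorm S hS hcι).2 (sgn_plusForm _))))
      have h := relIndex_dvd h2 hQ (by omega) hM hspan (by omega) S hS ψ hψ hψJ
      rw [hcard, card_orth_eq (Q := S), coe_matQuad_plus, card_isometry_plus, hqL, ← hexp, hsplit] at h
      exact hfin _ hΩ (hpow1 _ _ (by omega) hq1) h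
    · have hns : ∃ c : QuadraticAlgebra F ν 0, ¬ IsSquare c :=
        FiniteField.exists_nonsquare fun h => h2L (by
          haveI := ringChar.of_eq h
          exact CharTwo.two_eq_zero)
      obtain ⟨c, hc⟩ := hns
      have hab : ∀ z₁ z₂ : QuadraticAlgebra F ν 0, z₁ ^ 2 + 0 * z₁ * z₂ + (-c) * z₂ ^ 2 = 0 → z₁ = 0 ∧ z₂ = 0 :=
        fun z₁ z₂ h => by
        have hz2 : z₂ = 0 := by
          by_contra hne
          exact hc ⟨z₁ / z₂, by field_simp; linear_combination -h⟩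
        subst hz2
        exact ⟨eq_zero_of_pow_eq_zero (n := 2) (by linear_combination h), rfl⟩
      set S := matQuad (minusMat k (QuadraticAlgebra F ν 0) 0 (-c))
      have hS : (polarBilin S).Nondegenerate := nondegenerate_minus k hab
      have hcι : Fintype.card ((Fin k ⊕ Fin k) ⊕ Fin 2) = 2 * (k + 1) := by simp; omega
      obtain ⟨ψ, hψ, hψJ⟩ := exists_hom h2 hQ hJ hJs S hS (by rw [hfr, hcι]) (Pi.basisFun F ι) (by
        rw [hcι]
        have hN : ¬ IsSquare (QuadraticAlgebra.norm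
            (Matrix.of fun i j => polar S (Pi.basisFun _ _ i) (Pi.basisFun _ _ j)).det) := fun h => by
          have := (hnorm S hS hcι).1 h
          rw [sgn_minusForm k hab] at this
          norm_num at this
        have hXn : ¬ IsSquare X := fun h => by
          rw [hXsq.2 h] at hs
          norm_num at hs
        rw [mul_left_comm]
        refine hsqpow.mul ?_
        have hNne := fun h : QuadraticAlgebra.norm
            (Matrix.of fun i j => polar S (Pi.basisFun _ _ i) (Pi.basisFun _ _ j)).det = 0 =>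
          hN (by rw [h]; exact IsSquare.zero)
        rw [← quadraticChar_one_iff_isSquare (mul_ne_zero hX hNne), map_mul,
          quadraticChar_neg_one_iff_not_isSquare.2 hXn, quadraticChar_neg_one_iff_not_isSquare.2 hN]
        norm_num)
      have h := relIndex_dvd h2 hQ (by omega) hM hspan (by omega) S hS ψ hψ hψJ
      have haniso : BinAniso (0 : QuadraticAlgebra F ν 0) (-c) := hab
      rw [hcard, card_orth_eq (Q := S), coe_matQuad_minus, card_isometry_minus k haniso, hqL, ← hexp, hsplit] at h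
      exact hfin _ hΩ (Nat.succ_pos _) h
  · -- odd dimension over the extension
    set D₀ := (Matrix.of fun i j => polar (matQuad (oddMat m (QuadraticAlgebra F ν 0))) (Pi.basisFun _ _ i)
      (Pi.basisFun _ _ j)).det
    set S₀ := matQuad (oddMat m (QuadraticAlgebra F ν 0))
    have hS₀ : (polarBilin S₀).Nondegenerate := nondeg_odd h2L m
    have hD₀ : D₀ ≠ 0 := det_basisFun_ne_zero (F := QuadraticAlgebra F ν 0) hS₀
    have hcι : Fintype.card (Unit ⊕ (Fin m ⊕ Fin m)) = 2 * m + 1 := by simp; omega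
    obtain ⟨c, hc0, hc⟩ : ∃ c : QuadraticAlgebra F ν 0, c ≠ 0 ∧ IsSquare (X * ((4 * ν) ^ (2 * m + 1) *
        (QuadraticAlgebra.norm c ^ (2 * m + 1) * QuadraticAlgebra.norm D₀))) := by
      by_cases h : IsSquare (X * ((4 * ν) ^ (2 * m + 1) * QuadraticAlgebra.norm D₀))
      · exact ⟨1, one_ne_zero, by rwa [map_one, one_pow, one_mul]⟩
      · obtain ⟨c, hc⟩ := FiniteField.exists_nonsquare (F := QuadraticAlgebra F ν 0) fun h => h2L (by
          haveI := ringChar.of_eq h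
          exact CharTwo.two_eq_zero)
        have hc0 : c ≠ 0 := fun h => hc (h ▸ IsSquare.zero)
        refine ⟨c, hc0, ?_⟩
        have hN : ¬ IsSquare (QuadraticAlgebra.norm c) := fun h => hc (isSquare_of_norm h2 h)
        have hne := mul_ne_zero hX (mul_ne_zero (pow_ne_zero (2 * m + 1) h4ν)
          (QuadraticAlgebra.norm_eq_zero_iff_eq_zero.not.2 hD₀))
        have hcn : QuadraticAlgebra.norm c ≠ 0 := QuadraticAlgebra.norm_eq_zero_iff_eq_zero.not.2 hc0
        rw [mul_left_comm ((4 * ν) ^ (2 * m + 1)), mul_left_comm X,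
          ← quadraticChar_one_iff_isSquare (mul_ne_zero (pow_ne_zero _ hcn) hne), map_mul, map_pow,
          quadraticChar_neg_one_iff_not_isSquare.2 hN, quadraticChar_neg_one_iff_not_isSquare.2 h,
          Odd.neg_one_pow ⟨m, rfl⟩]
        norm_num
    set S := c • S₀ with hSdef
    have hSp : ∀ u v, polar S u v = c * polar S₀ u v := fun u v => by
      simp only [polar, hSdef, QuadraticMap.smul_apply, smul_eq_mul, mul_sub]
    have hS : (polarBilin S).Nondegenerate := by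
      have key : ∀ u, (∀ v, polar S u v = 0) → u = 0 := fun u hu => hS₀.1 u fun v =>
        (mul_eq_zero.1 ((hSp u v).symm.trans (hu v))).resolve_left hc0
      exact ⟨fun u hu => key u hu, fun u hu => key u fun v => by rw [polar_comm]; exact hu v⟩
    obtain ⟨ψ, hψ, hψJ⟩ := exists_hom h2 hQ hJ hJs S hS (by rw [hfr, hcι]) (Pi.basisFun F ι) (by
      rw [hcι]
      have e : (Matrix.of fun i j => polar S (Pi.basisFun (QuadraticAlgebra F ν 0) (Unit ⊕ (Fin m ⊕ Fin m)) i)
          (Pi.basisFun _ _ j)) = c • (Matrix.of fun i j => polar S₀ (Pi.basisFun _ _ i) (Pi.basisFun _ _ j)) :=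
        Matrix.ext fun i j => hSp _ _
      rw [e, Matrix.det_smul, hcι, map_mul, map_pow]
      exact hc)
    have h := relIndex_dvd h2 hQ (by omega) hM hspan (by omega) S hS ψ hψ hψJ
    have hoS : orth S = orth S₀ := by
      ext g
      simp only [mem_orth, hSdef, QuadraticMap.smul_apply, smul_eq_mul]
      exact ⟨fun h v => mul_left_cancel₀ hc0 (h v), fun h v => by rw [h v]⟩
    rw [hoS, hcard, card_orth_eq (Q := S₀), coe_matQuad_odd, card_isometry_odd h2L m, hqL,
      show 2 * m + 1 - 1 = 2 * m by omega, prod_split (fun i => q ^ (2 * (i + 1)) - 1) m, even_part q m] at h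
    have hε0 : 0 < ∏ l ∈ Finset.range m, ((q ^ 2) ^ (2 * (l + 1)) - 1) :=
      Finset.prod_pos fun l _ => hpow1 _ _ (by omega) (Nat.one_lt_pow two_ne_zero hq1)
    have h' := dvd_extra hrp hr2 hrq hΩ hε0 (B := (q ^ 2) ^ (m ^ 2)) (A := (2 * m + 1) * (2 * m))
      (Y := ε * ∏ l ∈ Finset.range m, (q ^ (2 * (2 * l + 1)) - 1))
      ((dvd_of_eq (by ring)).trans (h.trans (dvd_of_eq (by ring))))
    rcases hrp.dvd_mul.1 h' with h1 | h1
    · exact Or.inr ⟨⟨m, rfl⟩, h1⟩
    · obtain ⟨j, hj, hjm, hjd⟩ := odd_exponent hrp h1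
      exact Or.inl ⟨j, hj, by omega, hjd⟩

/-- Elements of prime order fixing a point on the cosets of a subgroup of field-extension type. -/
theorem fieldExt_iff (hQ : (polarBilin Q).Nondegenerate) (h2 : (2 : F) ≠ 0) {d : ℕ} (hd : 4 ≤ d)
    (hn : Fintype.card ι = 2 * d) (hK : Cfsg.Geo.IsFieldSubalgebra 2 K)
    (hKf : Cfsg.Geo.IsSelfAdjointFor (polar ⇑Q) K) {p : ℕ} [Fact p.Prime] [CharP F p] {r : ℕ} [Fact r.Prime]
    {ε : ℕ} (hε : (sgn Q ⊤ = 1 ∧ ε = Fintype.card F ^ d - 1) ∨ (sgn Q ⊤ = -1 ∧ ε = Fintype.card F ^ d + 1))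
    (hcard : Nat.card (orth Q) = 2 * Fintype.card F ^ (d * (d - 1)) * ε *
      ∏ i ∈ Finset.range (d - 1), (Fintype.card F ^ (2 * (i + 1)) - 1))
    (hΩ : r ∣ (Cfsg.Geo.subalgebraNormalizer K).relIndex (Cfsg.Geo.omegaGL ⇑Q)) :
    (∀ x ∈ Cfsg.Geo.omegaGL ⇑Q, (∃ z : F, ((x ^ r : GL ι F) : Matrix ι ι F) = z • (1 : Matrix ι ι F)) →
      (∀ z : F, (x : Matrix ι ι F) ≠ z • (1 : Matrix ι ι F)) →
      ∃ g ∈ Cfsg.Geo.omegaGL ⇑Q, g⁻¹ * x * g ∈ Cfsg.Geo.subalgebraNormalizer K) ↔ r = 2 := by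
  classical
  haveI : Nonempty ι := Fintype.card_pos_iff.1 (by omega)
  constructor
  · intro H
    by_contra hr2
    obtain ⟨ν, M, hν, hM, hMM, hspan⟩ := exists_generator h2 hK
    have hodd := (Fact.out : r.Prime).odd_of_ne_two hr2
    by_cases hrp : r = p
    · subst hrp
      obtain ⟨f, hf, hfr, hf1, hno⟩ := char_counter (p := r) hQ h2 (by omega)
      obtain ⟨J, hJ, -, hfJ⟩ := exists_commuting_root hQ (by omega) h2 hKf hν hM hMM hspan hodd H hf hfr hf1
      exact hno ν J hν hJ hfJ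
    · have hr : (r : F) ≠ 0 := natCast_ne_zero_of_ne hrp
      have hfr : Module.finrank F (ι → F) = 2 * d := by rw [Module.finrank_fintype_fun_eq_card, hn]
      obtain ⟨f, hf, hfr', hf1, hmov⟩ := odd_counter hQ hr hr2 hfr (by
        rcases extra_dvd hQ h2 hd hn hν hM hMM hspan hKf hr hr2 hε hcard hΩ with h | ⟨hdo, h⟩
        · exact Or.inl h
        · refine Or.inr ⟨hdo, ?_⟩
          rcases hε with ⟨hs, rfl⟩ | ⟨hs, rfl⟩
          · exact Or.inl ⟨hs, h⟩
          · exact Or.inr ⟨hs, h⟩)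
      obtain ⟨J, hJ, hJs, hfJ⟩ := exists_commuting_root hQ (by omega) h2 hKf hν hM hMM hspan hodd H hf hfr' hf1
      have h4 := four_dvd_mov h2 hQ hν hJ hJs hf hr hodd hfr' hfJ
      omega
  · rintro rfl x hx ⟨z, hz⟩ -
    exact two_fixes hQ h2 (d := d - 1) (by omega) (by omega) hK hKf hx hz

end CfsgLib.OrthPrime.FieldExt
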