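import Cfsg.Agent.Lib.OrthPrime.Criterion

/-! When invariant members must lie in the fixed space, divisibility forbids fixing them all. -/

set_option autoImplicit false

namespace CfsgLib.OrthPrime

open QuadraticMap CfsgLib.Geometry CfsgLib.OrthMax CfsgLib.PrimeOrderSp

universe u v

variable {F : Type u} [Field F] [Fintype F] [DecidableEq F] {V : Type v} [AddCommGroup V] [Module F V]
variable [FiniteDimensional F V] {Q : QuadraticForm F V} {r : ℕ} [Fact r.Prime]

/-- The members of the orbit of `W₀`. -/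
def InOrbit (Q : QuadraticForm F V) (W₀ W : Submodule F V) : Prop :=
  ∃ e : W₀ ≃ₗ[F] W, ∀ w : W₀, Q (e w : V) = Q (w : V)

omit [Fintype F] [DecidableEq F] [FiniteDimensional F V] in
theorem InOrbit.map_sub {W₀ W : Submodule F V} (h : InOrbit Q W₀ W) {f : V ≃ₗ[F] V} (hf : ∀ v, Q (f v) = Q v) :
    InOrbit Q W₀ (W.map f.toLinearMap) := by
  obtain ⟨e, he⟩ := h
  exact ⟨e.trans (f.submoduleMap W), fun w => (hf _).trans (he w)⟩

theorem exists_no_fixed (hQ : (polarBilin Q).Nondegenerate) (hr : (r : F) ≠ 0) (hr2 : r ≠ 2)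
    {W₀ : Submodule F V} (hd : r ∣ Nat.card {W : Submodule F V // InOrbit Q W₀ W})
    (hsmall : ∀ f : Module.End F V, (∀ v, Q (f v) = Q v) → f ^ r = 1 →
      ∀ W, InOrbit Q W₀ W → Inv f W → W ≤ fixSp f) :
    ∃ f : Module.End F V, (∀ v, Q (f v) = Q v) ∧ f ^ r = 1 ∧ f ≠ 1 ∧
      ∀ W, InOrbit Q W₀ W → ¬ Inv f W := by
  classical
  let Pr : ℕ → Prop := fun k => ∃ f : Module.End F V, (∀ v, Q (f v) = Q v) ∧ f ^ r = 1 ∧ f ≠ 1 ∧
    Module.finrank F (fixSp f) = k
  obtain ⟨f₀, h1, h2, h3⟩ := exists_of_dvd hQ hr hr2 hd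
  have hex : ∃ k, Pr k := ⟨_, f₀, h1, h2, h3, rfl⟩
  obtain ⟨f, hf, hfr, hf1, hfk⟩ := Nat.find_spec hex
  refine ⟨f, hf, hfr, hf1, fun W₁ hW₁ hW₁i => ?_⟩
  haveI : Finite V := Module.finite_of_finite F
  haveI : Finite (Submodule F V) := Finite.of_injective (fun W : Submodule F V => (W : Set V)) SetLike.coe_injective
  have h := isHerm_polar hQ
  have hiso := polar_iso (Q := Q) hf
  have hinj : Function.Injective f := injective_of_iso h hiso
  let fe : V ≃ₗ[F] V := LinearEquiv.ofBijective f ⟨hinj, LinearMap.injective_iff_surjective.1 hinj⟩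
  have hfe : (fe.toLinearMap : V →ₗ[F] V) = f := rfl
  have hX := nondeg_iff.1 (nondeg_fixSp hr hfr h hiso)
  set X := fixSp f
  let α := {W : Submodule F V // InOrbit Q W₀ W}
  let σ : α → α := fun W => ⟨W.1.map fe.toLinearMap, W.2.map_sub hf⟩
  have hσk : ∀ k (W : α), ((σ^[k] W : α) : Submodule F V) = W.1.map (f ^ k) := fun k => by
    induction k with
    | zero => intro W; exact (Submodule.map_id W.1).symm
    | succ k ih =>
      intro W
      rw [Function.iterate_succ_apply', pow_succ']
      show (σ^[k] W).1.map fe.toLinearMap = _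
      rw [ih, hfe, ← Submodule.map_comp]
      rfl
  have hσ : σ^[r] = id := funext fun W => Subtype.ext (by
    rw [hσk, hfr, Module.End.one_eq_id, Submodule.map_id, id])
  have hmod : Nat.card α ≡ Nat.card (Function.fixedPoints σ) [MOD r] := by
    haveI := Fintype.ofFinite α
    haveI := Fintype.ofFinite (Function.fixedPoints σ)
    rw [Nat.card_eq_fintype_card, Nat.card_eq_fintype_card]
    convert Equiv.Perm.card_fixedPoints_modEq (f := (σ : Function.End α)) (p := r) (n := 1) (by
      rw [pow_one]; exact (hom_coe_pow (fun g : Function.End α ↦ g) rfl (fun g h ↦ rfl) σ r).trans hσ) using 2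
  have hfixed : ∀ W : α, σ W = W ↔ W.1 ≤ X := by
    intro W
    constructor
    · intro hW
      refine hsmall f hf hfr W.1 W.2 fun v hv => ?_
      have h1 : W.1.map fe.toLinearMap = W.1 := congrArg Subtype.val hW
      rw [← h1]
      exact ⟨v, hv, rfl⟩
    · intro hW
      refine Subtype.ext (Submodule.ext fun v => ?_)
      constructor
      · rintro ⟨w, hw, rfl⟩
        show f w ∈ W.1
        rwa [mem_fixSp.1 (hW hw)]
      · exact fun hv => ⟨v, hv, mem_fixSp.1 (hW hv)⟩
  -- the orbit inside the fixed space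
  have hW₁X := hsmall f hf hfr W₁ hW₁ hW₁i
  let W₀' : Submodule F X := W₁.comap X.subtype
  let β := {U : Submodule F X // InOrbit (Q.comp X.subtype) W₀' U}
  let e₁ := Submodule.comapSubtypeEquivOfLe hW₁X
  have hto : ∀ U : β, InOrbit Q W₀ (U.1.map X.subtype) := fun U => by
    obtain ⟨e, he⟩ := U.2
    obtain ⟨e₀, he₀⟩ := hW₁
    refine ⟨((e₀.trans e₁.symm).trans e).trans (Submodule.equivMapOfInjective _ X.subtype_injective U.1),
      fun w => ?_⟩
    exact (he (e₁.symm (e₀ w))).trans (he₀ w)
  let Φ : β → Function.fixedPoints σ := fun U =>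
    ⟨⟨U.1.map X.subtype, hto U⟩, (hfixed _).2 (Submodule.map_subtype_le X U.1)⟩
  have hΦ : Function.Bijective Φ := by
    constructor
    · intro U U' hUU
      exact Subtype.ext (Submodule.map_injective_of_injective X.subtype_injective
        (congrArg (fun W => W.1.1) hUU))
    · rintro ⟨W, hW⟩
      have hWX := (hfixed W).1 hW
      obtain ⟨e, he⟩ := W.2
      obtain ⟨e₀, he₀⟩ := hW₁
      refine ⟨⟨W.1.comap X.subtype, ((e₁.trans e₀.symm).trans e).trans
        (Submodule.comapSubtypeEquivOfLe hWX).symm, fun w => ?_⟩, ?_⟩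
      · have h2 := he₀ (e₀.symm (e₁ w))
        rw [e₀.apply_symm_apply] at h2
        exact (he (e₀.symm (e₁ w))).trans h2.symm
      · refine Subtype.ext (Subtype.ext ?_)
        show (W.1.comap X.subtype).map X.subtype = W.1
        rw [Submodule.map_comap_subtype, inf_eq_right.2 hWX]
  have hdX : r ∣ Nat.card β := by
    rw [Nat.card_congr (Equiv.ofBijective Φ hΦ)]
    exact Nat.modEq_zero_iff_dvd.1 (hmod.symm.trans (Nat.modEq_zero_iff_dvd.2 hd))
  obtain ⟨g, hg, hgr, hg1⟩ := exists_of_dvd (nondeg_comp hX) hr hr2 hdX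
  -- enlarge the moved space
  have hc := isCompl_fix_mov hr hfr
  let P := Submodule.prodEquivOfIsCompl X (movSp f) hc
  let fM : Module.End F (movSp f) := f.restrict fun v hv => inv_movSp v hv
  let f' : Module.End F V := P.toLinearMap ∘ₗ LinearMap.prodMap g fM ∘ₗ P.symm.toLinearMap
  have hf' : ∀ (a : X) (b : movSp f), f' ((a : V) + b) = (g a : V) + f b := fun a b => by
    have hP : P (a, b) = (a : V) + b := by simp [P]
    have hP' : P.symm ((a : V) + b) = (a, b) := (LinearEquiv.symm_apply_eq _).2 hP.symm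
    simp only [f', LinearMap.comp_apply, LinearEquiv.coe_coe, hP', LinearMap.prodMap_apply]
    simp [P, fM]
  have hdec : ∀ v : V, ∃ (a : X) (b : movSp f), (a : V) + b = v := fun v =>
    ⟨(P.symm v).1, (P.symm v).2, by have := P.apply_symm_apply v; simpa [P] using this⟩
  have hpow : ∀ (m : ℕ) (a : X) (b : movSp f), (f' ^ m) ((a : V) + b) = ((g ^ m) a : V) + (f ^ m) b := fun m => by
    induction m with
    | zero => intro a b; simp
    | succ m ih =>
      intro a b
      have hb : (f ^ m) (b : V) ∈ movSp f := by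
        clear ih
        induction m with
        | zero => exact b.2
        | succ m ih => rw [pow_succ', Module.End.mul_apply]; exact inv_movSp _ ih
      rw [pow_succ', Module.End.mul_apply, ih, show (f ^ m) (b : V) = ((⟨_, hb⟩ : movSp f) : V) from rfl, hf',
        pow_succ', Module.End.mul_apply, pow_succ', Module.End.mul_apply]
  have hlt : Module.finrank F (fixSp f') < Module.finrank F X := by
    obtain ⟨a₀, ha₀⟩ : ∃ a : X, g a ≠ a := by
      by_contra hc'
      push Not at hc'
      exact hg1 (LinearMap.ext hc')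
    have hle : fixSp f' ≤ X := fun v hv => by
      obtain ⟨a, b, rfl⟩ := hdec v
      have h1 := mem_fixSp.1 hv
      rw [hf'] at h1
      have hb : f (b : V) = b := by
        have h2 : (g a : V) - a = b - f b := by linear_combination (norm := abel) h1
        have h3 := Submodule.disjoint_def.1 hc.disjoint _ (X.sub_mem (g a).2 a.2)
          (h2 ▸ (movSp f).sub_mem b.2 (inv_movSp _ b.2))
        rw [h2] at h3
        exact (sub_eq_zero.1 h3).symm
      have hb0 : (b : V) = 0 := fix_eq_zero hr hfr le_rfl b.2 hb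
      rw [hb0, add_zero]
      exact a.2
    refine Submodule.finrank_lt_finrank_of_lt (lt_of_le_of_ne hle fun heq => ha₀ ?_)
    have h1 := mem_fixSp.1 (heq.ge a₀.2)
    rw [show (a₀ : V) = (a₀ : V) + ((0 : movSp f) : V) by simp, hf', ZeroMemClass.coe_zero, map_zero,
      add_zero, add_zero] at h1
    exact Subtype.ext h1
  refine Nat.find_min hex (hlt.trans_eq hfk) ⟨f', fun v => ?_, LinearMap.ext fun v => ?_, fun h1 => ?_, rfl⟩
  · obtain ⟨a, b, rfl⟩ := hdec v
    have ho : polar Q (g a : V) (f b) = polar Q (a : V) b :=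
      (orth_fix_mov h hiso _ (g a).2 _ (inv_movSp _ b.2)).1.trans (orth_fix_mov h hiso _ a.2 _ b.2).1.symm
    rw [hf', CfsgLib.Geometry.map_add', CfsgLib.Geometry.map_add', hf, ho]
    congr 2
    exact hg a
  · obtain ⟨a, b, rfl⟩ := hdec v
    rw [hpow, hgr, hfr, Module.End.one_apply, Module.End.one_apply, Module.End.one_apply]
  · rw [h1, show fixSp (1 : Module.End F V) = ⊤ from Submodule.eq_top_iff'.2 fun v => mem_fixSp.2 rfl,
      finrank_top] at hlt
    exact absurd (Submodule.finrank_le X) (not_le.2 hlt)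

end CfsgLib.OrthPrime
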