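import Cfsg.Agent.Lib.OrthPrime.Sub

/-! The number of totally singular subspaces of a given dimension is one modulo the characteristic. -/

set_option autoImplicit false

namespace CfsgLib.OrthPrime

open QuadraticMap CfsgLib.Geometry CfsgLib.OrthMax

universe u v

variable {F : Type u} [Field F] [Finite F] {p : ℕ} [Fact p.Prime] [CharP F p]

theorem natCard_ts_modEq (m : ℕ) : ∀ {V : Type v} [AddCommGroup V] [Module F V] [FiniteDimensional F V]
    (Q : QuadraticForm F V), (polarBilin Q).Nondegenerate → 2 * m < Module.finrank F V →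
    Nat.card {W : Submodule F V // Module.finrank F W = m ∧ ∀ w ∈ W, Q w = 0} ≡ 1 [MOD p] := by
  induction m with
  | zero =>
    intro V _ _ _ Q _ _
    haveI : Unique {W : Submodule F V // Module.finrank F W = 0 ∧ ∀ w ∈ W, Q w = 0} :=
      ⟨⟨⟨⊥, finrank_bot _ _, fun w hw => by rw [(Submodule.mem_bot F).1 hw, QuadraticMap.map_zero]⟩⟩,
        fun W => Subtype.ext (Submodule.finrank_eq_zero.1 W.2.1)⟩
    rw [Nat.card_unique]
  | succ m ih =>
    intro V _ _ _ Q hQ hn
    classical
    haveI : Finite V := Module.finite_of_finite F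
    haveI : Finite (Submodule F V) := Finite.of_injective (fun W : Submodule F V => (W : Set V)) SetLike.coe_injective
    obtain ⟨e, he0, he⟩ := exists_singular hQ (by omega)
    obtain ⟨f, hf, hef⟩ := exists_pair hQ he0 he
    obtain ⟨hE, hE2, -⟩ := plane_facts he hf hef
    have htop : (⊤ : Submodule F V) ⊓ polarPerp Q ⊤ = ⊥ := by
      rw [eq_bot_iff]
      rintro x ⟨-, hx⟩
      exact (Submodule.mem_bot F).2 (hQ.1 x fun y => (polar_comm (⇑Q) x y).trans (mem_polarPerp.1 hx y trivial))
    obtain ⟨hC, -, -, -, hCd⟩ := exists_orth_compl htop le_top hE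
    rw [top_inf_eq] at hC hCd
    rw [finrank_top, hE2] at hCd
    set C := polarPerp Q (Submodule.span F ({e, f} : Set V))
    have hCmem : ∀ x, x ∈ C ↔ polar Q e x = 0 ∧ polar Q f x = 0 := fun x => by
      refine ⟨fun h => ⟨mem_polarPerp.1 h e (Submodule.subset_span (by simp)),
        mem_polarPerp.1 h f (Submodule.subset_span (by simp))⟩, fun h => mem_polarPerp.2 fun z hz => ?_⟩
      obtain ⟨a, b, rfl⟩ := Submodule.mem_span_pair.1 hz
      rw [polar_add_left, polar_smul_left', polar_smul_left', h.1, h.2, mul_zero, mul_zero, add_zero]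
    have hfe : polar Q f e = 1 := (polar_comm (⇑Q) f e).trans hef
    have hee : polar Q e e = 0 := by rw [polar_self', he, mul_zero]
    -- the root group
    let A := LinearMap.ker (polarBilin Q e)
    have hA : ∀ w : A, polar Q e (w : V) = 0 := fun w => LinearMap.mem_ker.1 w.2
    let α := {W : Submodule F V // Module.finrank F W = m + 1 ∧ ∀ w ∈ W, Q w = 0}
    let σ : A → (V ≃ₗ[F] V) := fun w => siegel Q e (w : V) he (hA w)
    have hσadd : ∀ a b : A, ∀ v, σ (a + b) v = σ a (σ b v) := fun a b v => by
      show siegelMap Q e ((a + b : A) : V) v = siegelMap Q e (a : V) (siegelMap Q e (b : V) v)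
      rw [siegelMap_comp Q he (hA a) (hA b)]
      rfl
    let act : A → α → α := fun w W => ⟨W.1.map (σ w).toLinearMap, by rw [LinearEquiv.finrank_map_eq, W.2.1], by
      rintro _ ⟨x, hx, rfl⟩
      exact (siegelMap_map Q he (hA w) x).trans (W.2.2 x hx)⟩
    letI : MulAction (Multiplicative A) α :=
      { smul := fun w W => act w.toAdd W
        one_smul := fun W => Subtype.ext (by
          show W.1.map (σ 0).toLinearMap = W.1
          rw [show (σ 0).toLinearMap = LinearMap.id from LinearMap.ext fun v => siegelMap_zero Q e v,
            Submodule.map_id])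
        mul_smul := fun a b W => Subtype.ext (by
          show W.1.map (σ (a.toAdd + b.toAdd)).toLinearMap =
            (W.1.map (σ b.toAdd).toLinearMap).map (σ a.toAdd).toLinearMap
          rw [← Submodule.map_comp]
          congr 1
          exact LinearMap.ext fun v => hσadd _ _ v) }
    have hP : IsPGroup p (Multiplicative A) := by
      haveI := Fintype.ofFinite F
      obtain ⟨k, -, hk⟩ := FiniteField.card F p
      refine IsPGroup.of_card (n := (k : ℕ) * Module.finrank F A) ?_
      rw [Nat.card_congr Multiplicative.toAdd, Module.natCard_eq_pow_finrank (K := F), Nat.card_eq_fintype_card,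
        hk, ← pow_mul]
    refine (hP.card_modEq_card_fixedPoints α).trans ?_
    have hfix : ∀ W : α, W ∈ MulAction.fixedPoints (Multiplicative A) α →
        e ∈ W.1 ∧ ∀ x ∈ W.1, polar Q x e = 0 := by
      intro W hW
      have hmem : ∀ (w : A), ∀ x ∈ W.1, σ w x ∈ W.1 := fun w x hx => by
        have h1 : W.1.map (σ w).toLinearMap = W.1 := congrArg Subtype.val (hW (Multiplicative.ofAdd w))
        rw [← h1]
        exact Submodule.mem_map_of_mem hx
      have hperp : ∀ x ∈ W.1, polar Q x e = 0 := by
        intro x hx
        by_contra hc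
        have hle : ∀ w : A, (w : V) ∈ W.1 ⊔ Submodule.span F {e} := fun w => by
          have h1 : σ w x - x ∈ W.1 := W.1.sub_mem (hmem w x hx) hx
          rw [show σ w x = siegelMap Q e (w : V) x from rfl, siegelMap_apply] at h1
          refine (Submodule.smul_mem_iff _ hc).1 ?_
          refine Submodule.mem_sup.2 ⟨_, h1, (polar Q x (w : V) + Q (w : V) * polar Q x e) • e,
            Submodule.smul_mem _ _ (Submodule.mem_span_singleton_self e), by module⟩
        have htop' : W.1 ⊔ Submodule.span F {e} = ⊤ := Submodule.eq_top_iff'.2 fun v => by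
          have h1 : v - (polar Q e v / polar Q x e) • x ∈ A := LinearMap.mem_ker.2 (by
            show polar Q e _ = 0
            rw [polar_sub_right, polar_smul_right', polar_comm Q e x, div_mul_cancel₀ _ hc, sub_self])
          have := Submodule.add_mem _ (hle ⟨_, h1⟩)
            (Submodule.mem_sup_left (W.1.smul_mem (polar Q e v / polar Q x e) hx))
          simpa using this
        have h2 := Submodule.finrank_add_le_finrank_add_finrank W.1 (Submodule.span F {e})
        rw [htop', finrank_top, W.2.1, finrank_span_singleton he0] at h2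
        omega
      refine ⟨?_, hperp⟩
      by_contra heW
      obtain ⟨x, hx, hx0⟩ := Submodule.exists_mem_ne_zero_of_ne_bot (p := W.1) (fun h => by
        have := W.2.1; rw [h, finrank_bot] at this; omega)
      have hxA : ∀ w : A, polar Q x (w : V) = 0 := fun w => by
        by_contra hc
        have h1 : σ w x - x ∈ W.1 := W.1.sub_mem (hmem w x hx) hx
        rw [show σ w x = siegelMap Q e (w : V) x from rfl, siegelMap_apply, hperp x hx] at h1
        refine heW ((Submodule.smul_mem_iff _ hc).1 ?_)
        rw [← Submodule.neg_mem_iff]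
        convert h1 using 1
        module
      -- `x` is a multiple of `e`
      set t := polar Q x f
      have hxe : x = t • e := by
        rw [← sub_eq_zero]
        refine hQ.1 _ fun y => ?_
        have hyA : y - polar Q e y • f ∈ A := LinearMap.mem_ker.2 (by
          show polar Q e _ = 0
          rw [polar_sub_right, polar_smul_right', hef, mul_one, sub_self])
        have h3 := hxA ⟨_, hyA⟩
        simp only [polar_sub_right, polar_smul_right'] at h3
        rw [polarBilin_apply_apply, polar_sub_left, polar_smul_left']
        linear_combination h3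
      refine heW ((Submodule.smul_mem_iff _ (s := t) fun h => hx0 ?_).1 (hxe ▸ hx))
      rw [hxe, h, zero_smul]
    have hfixed : ∀ W : α, e ∈ W.1 → (∀ x ∈ W.1, polar Q x e = 0) →
        W ∈ MulAction.fixedPoints (Multiplicative A) α := by
      intro W heW hperp w
      refine Subtype.ext (Submodule.eq_of_le_of_finrank_eq ?_ (LinearEquiv.finrank_map_eq _ _))
      rintro _ ⟨x, hx, rfl⟩
      show siegelMap Q e _ x ∈ W.1
      rw [siegelMap_apply, hperp x hx, zero_smul, add_zero, mul_zero, zero_smul, sub_zero]
      exact W.1.sub_mem hx (W.1.smul_mem _ heW)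
    have hcomp : ∀ x : V, polar Q x e = 0 → x - polar Q f x • e ∈ C := fun x hx => by
      rw [hCmem]
      constructor
      · rw [polar_sub_right, polar_smul_right', hee, mul_zero, sub_zero, polar_comm, hx]
      · rw [polar_sub_right, polar_smul_right', hfe, mul_one, sub_self]
    have heC : ∀ x ∈ C, ∀ t : F, x + t • e ∈ C → t = 0 := fun x hx t h => by
      have h1 := ((hCmem _).1 h).2
      rwa [polar_add_right, polar_smul_right', hfe, ((hCmem x).1 hx).2, mul_one, zero_add] at h1
    let β := {U : Submodule F C // Module.finrank F U = m ∧ ∀ w ∈ U, (Q.comp C.subtype) w = 0}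
    let ext' : β → Submodule F V := fun U => Submodule.span F {e} ⊔ U.1.map C.subtype
    have hext : ∀ U : β, Module.finrank F (ext' U) = m + 1 ∧ (∀ w ∈ ext' U, Q w = 0) ∧
        (∀ x ∈ ext' U, polar Q x e = 0) := by
      intro U
      have hd : Disjoint (Submodule.span F {e}) (U.1.map C.subtype) := by
        refine Submodule.disjoint_def.2 fun z hz hz' => ?_
        obtain ⟨t, rfl⟩ := Submodule.mem_span_singleton.1 hz
        obtain ⟨u, -, hu⟩ := hz'
        rw [Submodule.subtype_apply] at hu
        rw [heC 0 C.zero_mem t (by rw [zero_add, ← hu]; exact u.2), zero_smul]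
      refine ⟨?_, ?_, ?_⟩
      · have h1 := Submodule.finrank_sup_add_finrank_inf_eq (Submodule.span F {e}) (U.1.map C.subtype)
        rw [hd.eq_bot, finrank_bot, finrank_span_singleton he0,
          ← (Submodule.equivMapOfInjective _ C.subtype_injective U.1).finrank_eq, U.2.1] at h1
        show Module.finrank F ↥(Submodule.span F {e} ⊔ U.1.map C.subtype) = _
        omega
      · intro w hw
        obtain ⟨z, hz, y, hy, rfl⟩ := Submodule.mem_sup.1 hw
        obtain ⟨t, rfl⟩ := Submodule.mem_span_singleton.1 hz
        obtain ⟨u, hu, rfl⟩ := hy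
        rw [CfsgLib.Geometry.map_add', CfsgLib.Geometry.map_smul', he, polar_smul_left',
          Submodule.subtype_apply, ((hCmem _).1 u.2).1, show Q (u : V) = 0 from U.2.2 u hu]
        ring
      · intro w hw
        obtain ⟨z, hz, y, hy, rfl⟩ := Submodule.mem_sup.1 hw
        obtain ⟨t, rfl⟩ := Submodule.mem_span_singleton.1 hz
        obtain ⟨u, -, rfl⟩ := hy
        rw [polar_add_left, polar_smul_left', hee, Submodule.subtype_apply, polar_comm Q (u : V) e,
          ((hCmem _).1 u.2).1, mul_zero, add_zero]
    let Φ : β → MulAction.fixedPoints (Multiplicative A) α := fun U =>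
      ⟨⟨ext' U, (hext U).1, (hext U).2.1⟩,
        hfixed _ (Submodule.mem_sup_left (Submodule.mem_span_singleton_self e)) (hext U).2.2⟩
    have hΦ : Function.Bijective Φ := by
      constructor
      · intro U U' h
        have h' : ext' U = ext' U' := congrArg (fun W => W.1.1) h
        have key : ∀ U : β, (ext' U).comap C.subtype = U.1 := fun U => by
          refine le_antisymm (fun x hx => ?_) fun x hx => Submodule.mem_sup_right ⟨x, hx, rfl⟩
          obtain ⟨z, hz, y, ⟨u, hu, rfl⟩, hzy⟩ := Submodule.mem_sup.1 hx
          obtain ⟨t, rfl⟩ := Submodule.mem_span_singleton.1 hz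
          rw [Submodule.subtype_apply, Submodule.subtype_apply, add_comm] at hzy
          have ht := heC u u.2 t (by rw [hzy]; exact x.2)
          rw [ht, zero_smul, add_zero] at hzy
          rwa [← Subtype.ext hzy]
        exact Subtype.ext (by rw [← key U, ← key U', h'])
      · rintro ⟨W, hW⟩
        obtain ⟨heW, hperp⟩ := hfix W hW
        have hsup : Submodule.span F {e} ⊔ (W.1.comap C.subtype).map C.subtype = W.1 := by
          refine le_antisymm (sup_le ((Submodule.span_singleton_le_iff_mem _ _).2 heW)
            (Submodule.map_comap_le _ _)) fun x hx => ?_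
          refine Submodule.mem_sup.2 ⟨polar Q f x • e, Submodule.smul_mem _ _ (Submodule.mem_span_singleton_self e),
            x - polar Q f x • e, ⟨⟨_, hcomp x (hperp x hx)⟩, W.1.sub_mem hx (W.1.smul_mem _ heW), rfl⟩,
            add_sub_cancel _ _⟩
        have hd : Disjoint (Submodule.span F {e}) ((W.1.comap C.subtype).map C.subtype) := by
          refine Submodule.disjoint_def.2 fun z hz hz' => ?_
          obtain ⟨t, rfl⟩ := Submodule.mem_span_singleton.1 hz
          obtain ⟨u, -, hu⟩ := hz'
          rw [Submodule.subtype_apply] at hu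
          rw [heC 0 C.zero_mem t (by rw [zero_add, ← hu]; exact u.2), zero_smul]
        have h1 := Submodule.finrank_sup_add_finrank_inf_eq (Submodule.span F {e})
          ((W.1.comap C.subtype).map C.subtype)
        rw [hsup, hd.eq_bot, finrank_bot, finrank_span_singleton he0, W.2.1,
          ← (Submodule.equivMapOfInjective _ C.subtype_injective _).finrank_eq] at h1
        exact ⟨⟨W.1.comap C.subtype, by omega, fun w hw => W.2.2 _ hw⟩, Subtype.ext (Subtype.ext hsup)⟩
    rw [← Nat.card_congr (Equiv.ofBijective Φ hΦ)]
    exact ih (Q.comp C.subtype) (nondeg_comp hC) (by omega)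

theorem not_dvd_natCard_ts {V : Type v} [AddCommGroup V] [Module F V] [FiniteDimensional F V]
    {Q : QuadraticForm F V} (hQ : (polarBilin Q).Nondegenerate) {m : ℕ} (hm : 2 * m < Module.finrank F V) :
    ¬ p ∣ Nat.card {W : Submodule F V // Module.finrank F W = m ∧ ∀ w ∈ W, Q w = 0} := fun h => by
  have h1 := natCard_ts_modEq (p := p) m Q hQ hm
  rw [Nat.ModEq, Nat.dvd_iff_mod_eq_zero.1 h] at h1
  have := (Fact.out : p.Prime).two_le
  rw [Nat.one_mod_eq_one.2 (by omega)] at h1
  omega

end CfsgLib.OrthPrime
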