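import Cfsg.Agent.Lib.OrthPrime.Matrix
import Cfsg.Agent.Lib.OrthPrime.Small
import Cfsg.Agent.Lib.OrthPrime.TSCount

/-! Invariant totally singular subspaces of elements of odd prime order. -/

set_option autoImplicit false

namespace CfsgLib.OrthPrime

open QuadraticMap CfsgLib.Geometry CfsgLib.OrthMax CfsgLib.PrimeOrderSp CfsgLib.KnownB.PrimeOrder

universe u v

variable {F : Type u} [Field F] [Fintype F] [DecidableEq F] {V : Type v} [AddCommGroup V] [Module F V]
variable [FiniteDimensional F V] {Q : QuadraticForm F V} {r : ℕ} [Fact r.Prime]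

theorem natCast_ne_zero_of_ne {p : ℕ} [Fact p.Prime] [CharP F p] (h : r ≠ p) : (r : F) ≠ 0 := fun h0 =>
  h ((Nat.prime_dvd_prime_iff_eq (Fact.out : p.Prime) (Fact.out : r.Prime)).1 ((CharP.cast_eq_zero_iff F p r).1 h0)).symm

theorem div_order_pos (hr : (r : F) ≠ 0) {i : ℕ} (hi : orderOf ((Fintype.card F : ℕ) : ZMod r) = i) :
    1 ≤ (r - 1) / i := by
  have hpos : 0 < i := hi ▸ orderOf_card_pos (F := F) hr
  rw [Nat.le_div_iff_mul_le hpos, one_mul, ← hi]
  refine Nat.le_of_dvd (by have := (Fact.out : r.Prime).two_le; omega) (ZMod.orderOf_dvd_card_sub_one fun h0 => ?_)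
  rw [h0, orderOf_zero] at hi
  omega

/-- Every isometry of order `r` fixes a totally singular `m`-space exactly under the numerical condition. -/
theorem ts_elusive (hQ : (polarBilin Q).Nondegenerate) (hr : (r : F) ≠ 0) (hr2 : r ≠ 2) {i : ℕ}
    (hi : orderOf ((Fintype.card F : ℕ) : ZMod r) = i) {m : ℕ} (hm : 2 * m < Module.finrank F V)
    (hd : r ∣ Nat.card {W : Submodule F V // Module.finrank F W = m ∧ ∀ w ∈ W, Q w = 0}) :
    (∀ f : Module.End F V, (∀ v, Q (f v) = Q v) → f ^ r = 1 → f ≠ 1 →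
      ∃ W : Submodule F V, (Module.finrank F W = m ∧ ∀ w ∈ W, Q w = 0) ∧ Inv f W) ↔
    (i ≤ m ∧ ∀ N, Valid (Module.finrank F V) (sgn Q ⊤) i N →
      TSCond (Module.finrank F V) (sgn Q ⊤) r i N m) := by
  have hiff := ts_iff (Q := Q) hQ hr hr2 hi m
  simp only [and_assoc]
  refine ⟨fun H => ⟨?_, hiff.1 H⟩, fun H => hiff.2 H.2⟩
  by_contra hlt
  have htop : (⊤ : Submodule F V) ⊓ polarPerp Q ⊤ = ⊥ :=
    nondeg_iff.1 fun u _ hu' => hQ.1 u fun v => hu' v trivial
  obtain ⟨W₀, -, hW₀, hW₀d⟩ := exists_ts_dim htop (a := m) (Or.inl (by rw [finrank_top]; exact hm))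
  have horb : ∀ W, InOrbit Q W₀ W ↔ Module.finrank F W = m ∧ ∀ w ∈ W, Q w = 0 := fun W =>
    ⟨fun ⟨e, he⟩ => ⟨e.finrank_eq.symm.trans hW₀d, fun w hw => by
        obtain ⟨x, hx⟩ := e.surjective ⟨w, hw⟩
        have h1 := he x
        rw [hx] at h1
        exact h1.trans (hW₀ _ x.2)⟩,
      fun ⟨h1, h2⟩ => ⟨LinearEquiv.ofFinrankEq _ _ (hW₀d.trans h1.symm), fun w =>
        (h2 _ (Subtype.coe_prop _)).trans (hW₀ _ w.2).symm⟩⟩
  obtain ⟨f, hf, hfr, hf1, hno⟩ := exists_no_fixed hQ hr hr2 (W₀ := W₀)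
    (by rw [Nat.card_congr (Equiv.subtypeEquivRight horb)]; exact hd) fun f hf hfr W hW hWi => by
      have hsplit := split_inv hr hfr hWi
      rw [((horb W).1 hW).1] at hsplit
      have hdv : i ∣ Module.finrank F (W ⊓ movSp f : Submodule F V) :=
        hi ▸ finrank_dvd (isSemisimple_of_pow hr hfr)
          ((killed_movSp hr hfr).mono (hWi.inf inv_movSp) inf_le_right)
      have h0 : Module.finrank F (W ⊓ movSp f : Submodule F V) = 0 :=
        Nat.eq_zero_of_dvd_of_lt hdv (by omega)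
      have : W ⊓ fixSp f = W := Submodule.eq_of_le_of_finrank_eq inf_le_left (by
        rw [((horb W).1 hW).1]; omega)
      exact this ▸ inf_le_right
  obtain ⟨W, h1, h2, h3⟩ := H f hf hfr hf1
  exact hno W ((horb W).2 ⟨h1, h2⟩) h3

end CfsgLib.OrthPrime
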