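import Cfsg.Agent.Lib.OrthPrime.Matrix
import Cfsg.Agent.Lib.OrthPrime.Small
import Cfsg.Agent.Lib.OrthPrime.TSApp
import Cfsg.Agent.Lib.OrthPrime.ArithND

/-! Invariant non-degenerate subspaces of elements of odd prime order. -/

set_option autoImplicit false

namespace CfsgLib.OrthPrime

open QuadraticMap CfsgLib.Geometry CfsgLib.OrthMax CfsgLib.PrimeOrderSp

universe u v

variable {F : Type u} [Field F] {V : Type v} [AddCommGroup V] [Module F V] {Q : QuadraticForm F V}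

theorem InOrbit.finrank_eq {W₀ W : Submodule F V} (h : InOrbit Q W₀ W) :
    Module.finrank F W = Module.finrank F W₀ := by
  obtain ⟨e, -⟩ := h
  exact e.finrank_eq.symm

theorem InOrbit.symm {W₀ W : Submodule F V} (h : InOrbit Q W₀ W) : InOrbit Q W W₀ := by
  obtain ⟨e, he⟩ := h
  exact ⟨e.symm, fun w => by rw [← he, e.apply_symm_apply]⟩

theorem InOrbit.nondeg {W₀ W : Submodule F V} (h : InOrbit Q W₀ W) (h0 : W₀ ⊓ polarPerp Q W₀ = ⊥) :
    W ⊓ polarPerp Q W = ⊥ := by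
  obtain ⟨e, he⟩ := h
  rw [eq_bot_iff]
  rintro x ⟨hx, hx'⟩
  have hm : (e.symm ⟨x, hx⟩ : V) ∈ W₀ ⊓ polarPerp Q W₀ := ⟨Subtype.coe_prop _, mem_polarPerp.2 fun z hz => by
    have h1 := mem_polarPerp.1 hx' (e ⟨z, hz⟩ : V) (Subtype.coe_prop _)
    rw [show x = (e (e.symm ⟨x, hx⟩) : V) by rw [e.apply_symm_apply]] at h1
    rw [← h1]
    simp only [polar, ← Submodule.coe_add, ← map_add, he]
    rfl⟩
  rw [h0, Submodule.mem_bot] at hm
  have h2 : e.symm ⟨x, hx⟩ = 0 := Subtype.ext hm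
  exact (Submodule.mem_bot F).2 (congrArg Subtype.val (e.symm.map_eq_zero_iff.1 h2))

theorem InOrbit.plus {W₀ W : Submodule F V} (h : InOrbit Q W₀ W) (hp : Plus Q W₀) : Plus Q W := by
  obtain ⟨e, he⟩ := h
  obtain ⟨U, hU, hU0, hUd⟩ := hp
  refine ⟨((U.comap W₀.subtype).map e.toLinearMap).map W.subtype, Submodule.map_subtype_le _ _, ?_, ?_⟩
  · rintro _ ⟨_, ⟨x, hx, rfl⟩, rfl⟩
    exact (he x).trans (hU0 _ hx)
  · rw [(Submodule.equivMapOfInjective _ W.subtype_injective _).symm.finrank_eq,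
      (Submodule.equivMapOfInjective _ e.injective _).symm.finrank_eq,
      (Submodule.comapSubtypeEquivOfLe hU).finrank_eq, hUd, e.finrank_eq]

variable [Fintype F] [DecidableEq F] [FiniteDimensional F V]

omit [Fintype F] [DecidableEq F] [FiniteDimensional F V] in
theorem InOrbit.sgn_eq {W₀ W : Submodule F V} (h : InOrbit Q W₀ W) : sgn Q W = sgn Q W₀ := by
  by_cases hp : Plus Q W₀
  · rw [sgn_plus hp, sgn_plus (h.plus hp)]
  · rw [sgn_minus hp, sgn_minus fun hp' => hp (h.symm.plus hp')]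

variable {r : ℕ} [Fact r.Prime]

/-- A small invariant non-degenerate subspace is fixed pointwise. -/
theorem nd_inv_le_fix (hQ : (polarBilin Q).Nondegenerate) (hr : (r : F) ≠ 0) (hr2 : r ≠ 2) {i : ℕ}
    (hi : orderOf ((Fintype.card F : ℕ) : ZMod r) = i) {f : Module.End F V} (hf : ∀ v, Q (f v) = Q v)
    (hfr : f ^ r = 1) {W : Submodule F V} (hWi : Inv f W) (hW : W ⊓ polarPerp Q W = ⊥)
    (hlt : Module.finrank F W < unit i * i) : W ≤ fixSp f := by
  have hsplit := split_inv hr hfr hWi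
  obtain ⟨N, hS, -⟩ := exists_shape hQ hr hr2 hi hf hfr
  set A := W ⊓ fixSp f
  set B := W ⊓ movSp f
  have hsupW : A ⊔ B = W := by
    refine Submodule.eq_of_le_of_finrank_eq (sup_le inf_le_left inf_le_left) ?_
    have h1 := Submodule.finrank_sup_add_finrank_inf_eq A B
    rw [((isCompl_fix_mov hr hfr).disjoint.mono (inf_le_right : A ≤ _) (inf_le_right : B ≤ _)).eq_bot,
      finrank_bot] at h1
    omega
  have hBn : B ⊓ polarPerp Q B = ⊥ := by
    rw [eq_bot_iff]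
    rintro x ⟨hx, hx'⟩
    refine hW.le ⟨hx.1, mem_polarPerp.2 fun z hz => ?_⟩
    obtain ⟨a, ha, b, hb, rfl⟩ := Submodule.mem_sup.1 (hsupW.symm ▸ hz : z ∈ A ⊔ B)
    rw [polar_add_left, mem_polarPerp.1 hx' b hb, hS.orth a ha.2 x hx.2, add_zero]
  obtain ⟨b, hbd, -, -⟩ := struct hQ hf hr hr2 hfr (inf_le_right : B ≤ movSp f) (hWi.inf inv_movSp) hBn
  rw [hi] at hbd
  have hb0 : Module.finrank F B = 0 := by
    have hB : Module.finrank F B < unit i * i := lt_of_le_of_lt (Submodule.finrank_mono inf_le_left) hlt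
    rw [hbd] at hB ⊢
    rcases Nat.eq_zero_or_pos b with h | h
    · simp [h]
    · have := Nat.le_mul_of_pos_left (unit i * i) h; omega
  rw [← hsupW, Submodule.finrank_eq_zero.1 hb0, sup_bot_eq]
  exact inf_le_right

/-- Even dimension: the criterion. -/
theorem nd_elusive (hQ : (polarBilin Q).Nondegenerate) (hr : (r : F) ≠ 0) (hr2 : r ≠ 2) {i : ℕ}
    (hi : orderOf ((Fintype.card F : ℕ) : ZMod r) = i) {m : ℕ} (hm : Even m) (hm0 : 0 < m)
    (hmn : m < Module.finrank F V) {s : ℤ} (hs : s = 1 ∨ s = -1)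
    (hd : r ∣ Nat.card {W : Submodule F V // Module.finrank F W = m ∧ W ⊓ polarPerp Q W = ⊥ ∧ sgn Q W = s}) :
    let P := ∀ f : Module.End F V, (∀ v, Q (f v) = Q v) → f ^ r = 1 → f ≠ 1 →
      ∃ W : Submodule F V, Module.finrank F W = m ∧ W ⊓ polarPerp Q W = ⊥ ∧ sgn Q W = s ∧ Inv f W
    (P → unit i * i ≤ m ∧ NDEvenCrit (Module.finrank F V) (sgn Q ⊤) i m s) ∧
      (NDEvenCrit (Module.finrank F V) (sgn Q ⊤) i m s → P) := by
  intro P
  have hipos : 0 < i := hi ▸ orderOf_card_pos (F := F) hr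
  have harith := nd_even_arith (e := sgn Q ⊤) hipos hmn hm0 (sgn_cases ⊤) hs
  have hiff := nd_iff hQ hr hr2 hi hm s hs
  refine ⟨fun H => ?_, fun hc => hiff.2 (harith.1 hc)⟩
  have hle : unit i * i ≤ m := by
    by_contra hlt
    obtain ⟨k, hk⟩ := hm
    have htop : (⊤ : Submodule F V) ⊓ polarPerp Q ⊤ = ⊥ :=
      nondeg_iff.1 fun u _ hu' => hQ.1 u fun v => hu' v trivial
    obtain ⟨W₀, -, hW₀, hW₀d, hW₀s⟩ := exists_nd_dim htop (k := k) hs (fun h => by omega)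
      (Or.inl (by rw [finrank_top]; omega))
    have horb : ∀ W, InOrbit Q W₀ W ↔
        Module.finrank F W = m ∧ W ⊓ polarPerp Q W = ⊥ ∧ sgn Q W = s := fun W =>
      ⟨fun h => ⟨h.finrank_eq.trans (by omega), h.nondeg hW₀, h.sgn_eq.trans hW₀s⟩,
        fun ⟨h1, h2, h3⟩ => exists_isometry_sub hW₀ h2 hW₀d (by omega) (hW₀s.trans h3.symm)⟩
    obtain ⟨f, hf, hfr, hf1, hno⟩ := exists_no_fixed hQ hr hr2 (W₀ := W₀)
      (by rw [Nat.card_congr (Equiv.subtypeEquivRight horb)]; exact hd) fun f hf hfr W hW hWi =>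
        nd_inv_le_fix hQ hr hr2 hi hf hfr hWi ((horb W).1 hW).2.1 (by rw [((horb W).1 hW).1]; omega)
    obtain ⟨W, h1, h2, h3, h4⟩ := H f hf hfr hf1
    exact hno W ((horb W).2 ⟨h1, h2, h3⟩) h4
  exact ⟨hle, harith.2 ((Nat.le_div_iff_mul_le (Nat.mul_pos (by unfold unit; split_ifs <;> norm_num) hipos)).2
    (by rw [one_mul]; omega)) (hiff.1 H)⟩

/-- Odd dimension: the criterion. -/
theorem nd_odd_elusive (hQ : (polarBilin Q).Nondegenerate) (h2 : (2 : F) ≠ 0)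
    (hn : Even (Module.finrank F V)) (hr : (r : F) ≠ 0) (hr2 : r ≠ 2) {i : ℕ}
    (hi : orderOf ((Fintype.card F : ℕ) : ZMod r) = i) {m : ℕ} (hm : Odd m)
    (hmn : m < Module.finrank F V) {W₀ : Submodule F V} (hW₀ : W₀ ⊓ polarPerp Q W₀ = ⊥)
    (hW₀d : Module.finrank F W₀ = m)
    (hd : r ∣ Nat.card {W : Submodule F V // Module.finrank F W = m ∧ W ⊓ polarPerp Q W = ⊥ ∧
      ∃ e : W ≃ₗ[F] W₀, ∀ w : W, Q (e w : V) = Q (w : V)}) :
    let P := ∀ f : Module.End F V, (∀ v, Q (f v) = Q v) → f ^ r = 1 → f ≠ 1 →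
      ∃ W : Submodule F V, Module.finrank F W = m ∧ W ⊓ polarPerp Q W = ⊥ ∧
        (∃ e : W ≃ₗ[F] W₀, ∀ w : W, Q (e w : V) = Q (w : V)) ∧ Inv f W
    (P → unit i * i ≤ m ∧ NDOddCrit (Module.finrank F V) (sgn Q ⊤) i m) ∧
      (NDOddCrit (Module.finrank F V) (sgn Q ⊤) i m → P) := by
  intro P
  have hipos : 0 < i := hi ▸ orderOf_card_pos (F := F) hr
  have harith := nd_odd_arith (e := sgn Q ⊤) hipos hmn hm
  have hiff := nd_odd_iff hQ hr hr2 hi h2 hn hm hW₀ hW₀d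
  refine ⟨fun H => ?_, fun hc => hiff.2 (harith.1 hc)⟩
  have hle : unit i * i ≤ m := by
    by_contra hlt
    have horb : ∀ W, InOrbit Q W₀ W ↔ Module.finrank F W = m ∧ W ⊓ polarPerp Q W = ⊥ ∧
        ∃ e : W ≃ₗ[F] W₀, ∀ w : W, Q (e w : V) = Q (w : V) := fun W =>
      ⟨fun h => ⟨h.finrank_eq.trans hW₀d, h.nondeg hW₀, h.symm⟩, fun ⟨_, _, h⟩ => InOrbit.symm h⟩
    obtain ⟨f, hf, hfr, hf1, hno⟩ := exists_no_fixed hQ hr hr2 (W₀ := W₀)
      (by rw [Nat.card_congr (Equiv.subtypeEquivRight horb)]; exact hd) fun f hf hfr W hW hWi =>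
        nd_inv_le_fix hQ hr hr2 hi hf hfr hWi ((horb W).1 hW).2.1 (by rw [((horb W).1 hW).1]; omega)
    obtain ⟨W, h1, h2, h3, h4⟩ := H f hf hfr hf1
    exact hno W ((horb W).2 ⟨h1, h2, h3⟩) h4
  exact ⟨hle, harith.2 ((Nat.le_div_iff_mul_le (Nat.mul_pos (by unfold unit; split_ifs <;> norm_num) hipos)).2
    (by rw [one_mul]; omega)) (hiff.1 H)⟩

end CfsgLib.OrthPrime
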