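import Cfsg.Agent.Lib.OrthPrime.UnipClass
import Cfsg.Agent.Lib.InvolTwo.JordanOrthOdd

/-! Partitions of unipotent isometries and of their invariant non-degenerate subspaces. -/

set_option autoImplicit false

namespace CfsgLib.OrthPrime

open QuadraticMap CfsgLib.Geometry CfsgLib.OrthMax CfsgLib.PrimeOrderSp CfsgLib.InvolTwo.JordanTypes

theorem count_second_diff (M : Multiset ℕ) {j : ℕ} (hj : 1 ≤ j) :
    (M.map (· - (j - 1))).sum + (M.map (· - (j + 1))).sum = 2 * (M.map (· - j)).sum + M.count j := by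
  induction M using Multiset.induction_on with
  | empty => simp
  | cons a M ih =>
    simp only [Multiset.map_cons, Multiset.sum_cons, Multiset.count_cons]
    split_ifs with h <;> omega

theorem partition_eq {M N : Multiset ℕ} (hM : ∀ x ∈ M, 1 ≤ x) (hN : ∀ x ∈ N, 1 ≤ x)
    (h : ∀ j, (M.map (· - j)).sum = (N.map (· - j)).sum) : M = N := by
  refine Multiset.ext.2 fun j => ?_
  rcases Nat.eq_zero_or_pos j with rfl | hj
  · rw [Multiset.count_eq_zero.2 fun h0 => absurd (hM 0 h0) (by omega),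
      Multiset.count_eq_zero.2 fun h0 => absurd (hN 0 h0) (by omega)]
  · have h1 := count_second_diff M hj
    have h2 := count_second_diff N hj
    rw [h, h, h] at h1
    omega

section Realise

universe u

variable {F : Type u} [Field F] [Fintype F] {ι : Type} [Fintype ι] [DecidableEq ι] {Q : QuadraticForm F (ι → F)}

theorem exists_of_partition (hQ : (polarBilin Q).Nondegenerate) (h2 : (2 : F) ≠ 0) {M : Multiset ℕ}
    (hpos : ∀ x ∈ M, 1 ≤ x) (heven : ∀ j, Even j → 0 < j → Even (M.count j)) {x : ℕ} (hxM : x ∈ M)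
    (hxo : Odd x) (hn : M.sum = Fintype.card ι) :
    ∃ f : Module.End F (ι → F), (∀ v, Q (f v) = Q v) ∧
      ∀ j, Module.finrank F (LinearMap.range ((f - 1) ^ j)) = (M.map (· - j)).sum := by
  classical
  obtain ⟨M', rfl⟩ := Multiset.exists_cons_of_mem hxM
  obtain ⟨G₁, A₁, hG₁, hG₁u, hA₁, hr₁⟩ := oType_single (F := F) h2 hxo
  obtain ⟨G₂, A₂, hG₂, hG₂u, hA₂, hr₂⟩ := oType_of_multiset (F := F) h2 M'
    (fun y hy => hpos y (Multiset.mem_cons_of_mem hy)) fun j hj hj0 => by
      have := heven j hj hj0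
      rw [Multiset.count_cons] at this
      split_ifs at this with h
      · subst h; exact absurd hj (Nat.not_even_iff_odd.2 hxo)
      · simpa using this
  set bι := Pi.basisFun F ι
  set DQ := (Matrix.of fun i j => polar Q (bι i) (bι j)).det
  have hDQ : DQ ≠ 0 := by
    have h1 := (LinearMap.BilinForm.nondegenerate_iff_det_ne_zero bι).1 hQ
    intro h0
    refine h1 ?_
    rw [← h0]
    congr 1
    ext i j
    rw [LinearMap.BilinForm.toMatrix_apply, polarBilin_apply_apply, Matrix.of_apply]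
  set D₁ := ((2 : F) • G₁).det
  set D₂ := ((2 : F) • G₂).det
  have hD₁ : D₁ ≠ 0 := by
    simp only [D₁, Matrix.det_smul]; exact mul_ne_zero (pow_ne_zero _ h2) hG₁u.ne_zero
  have hD₂ : D₂ ≠ 0 := by
    simp only [D₂, Matrix.det_smul]; exact mul_ne_zero (pow_ne_zero _ h2) hG₂u.ne_zero
  set c := D₁ * D₂ * DQ
  have hc : c ≠ 0 := mul_ne_zero (mul_ne_zero hD₁ hD₂) hDQ
  let G := Matrix.fromBlocks (c • G₁) 0 0 G₂
  let A := Matrix.fromBlocks A₁ 0 0 A₂
  have hGt : G.transpose = G := by simp [G, Matrix.fromBlocks_transpose, hG₁, hG₂]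
  have hA : A.transpose * G * A = G := by
    simp only [G, A, Matrix.fromBlocks_transpose, Matrix.fromBlocks_multiply]
    simp [hA₁, hA₂]
  have hdet : (G + G.transpose).det = c ^ x * D₁ * D₂ := by
    rw [hGt, ← two_smul F G]
    simp only [G, Matrix.fromBlocks_smul, smul_zero]
    rw [Matrix.det_fromBlocks_zero₁₂, smul_comm, Matrix.det_smul, Fintype.card_fin]
  let S := matQuad G
  have hS : (polarBilin S).Nondegenerate := nondegenerate_matQuad (by
    rw [hdet]; exact mul_ne_zero (mul_ne_zero (pow_ne_zero _ hc) hD₁) hD₂)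
  have hsq : IsSquare ((Matrix.of fun i j => polar S (Pi.basisFun F _ i) (Pi.basisFun F _ j)).det * DQ) := by
    have e : (Matrix.of fun i j => polar S (Pi.basisFun F (Fin x ⊕ Fin M'.sum) i)
        (Pi.basisFun F (Fin x ⊕ Fin M'.sum) j)) = G + G.transpose := by
      ext i j
      rw [Matrix.of_apply, polar_matQuad]
      simp [Matrix.mulVec_single, dotProduct, Pi.single_apply]
    rw [e, hdet]
    obtain ⟨k, hk⟩ := hxo.add_one
    exact ⟨c ^ k, by rw [← pow_add, ← hk, pow_succ]; ring⟩
  obtain ⟨g, hg⟩ := exists_isometry_of_disc h2 Q hS hQ (by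
    rw [Module.finrank_fintype_fun_eq_card, Module.finrank_fintype_fun_eq_card, Fintype.card_sum, Fintype.card_fin,
      Fintype.card_fin, ← hn, Multiset.sum_cons]) (Pi.basisFun F _) bι hsq
  set a : Module.End F (Fin x ⊕ Fin M'.sum → F) := Matrix.toLin' A with ha
  let f : Module.End F (ι → F) := g.toLinearMap ∘ₗ a ∘ₗ g.symm.toLinearMap
  have hfa : ∀ j v, ((f - 1) ^ j : Module.End F (ι → F)) v = g (((a - 1) ^ j : Module.End F (Fin x ⊕ Fin M'.sum → F)) (g.symm v)) := fun j => by
    induction j with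
    | zero => intro v; simp
    | succ j ih =>
      intro v
      rw [pow_succ', pow_succ', Module.End.mul_apply, Module.End.mul_apply, ih]
      simp [f]
  refine ⟨f, fun v => ?_, fun j => ?_⟩
  · show Q (g (a (g.symm v))) = Q v
    rw [hg]
    conv_rhs => rw [← g.apply_symm_apply v, hg]
    simp only [S, ha, matQuad_apply, Matrix.toLin'_apply]
    conv_rhs => rw [← hA]
    rw [← Matrix.mulVec_mulVec, ← Matrix.mulVec_mulVec, Matrix.dotProduct_mulVec _ A.transpose,
      Matrix.vecMul_transpose]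
  · have e : LinearMap.range ((f - 1) ^ j) = (LinearMap.range ((a - 1) ^ j)).map g.toLinearMap := by
      ext v
      constructor
      · rintro ⟨y, rfl⟩; exact ⟨_, ⟨g.symm y, rfl⟩, (hfa j y).symm⟩
      · rintro ⟨_, ⟨y, rfl⟩, rfl⟩; exact ⟨g y, by rw [hfa, g.symm_apply_apply]; rfl⟩
    have e2 : (a - 1) ^ j = Matrix.toLinAlgEquiv' ((A - 1) ^ j) := by
      rw [map_pow, map_sub, map_one]
      rfl
    rw [e, LinearEquiv.finrank_map_eq, e2]
    show ((A - 1) ^ j).rank = _
    simp only [A]
    rw [fromBlocks_diag_sub_one_pow, rank_fromBlocks_diag, hr₁, hr₂, Multiset.map_cons, Multiset.sum_cons]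

end Realise

section Restrict

universe v

variable {F : Type*} [Field F] {V : Type v} [AddCommGroup V] [Module F V] [FiniteDimensional F V]
variable {Q : QuadraticForm F V} {f : Module.End F V}

omit [FiniteDimensional F V] in
theorem restrict_pow_coe {W : Submodule F V} (hi : Inv f W) (j : ℕ) (w : W) :
    ((((f.restrict hi - 1 : Module.End F W) ^ j) w : W) : V) = ((f - 1) ^ j) (w : V) := by
  induction j generalizing w with
  | zero => simp
  | succ j ih =>
    rw [pow_succ, pow_succ, Module.End.mul_apply, Module.End.mul_apply, ih]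
    rfl

omit [FiniteDimensional F V] in
theorem finrank_restrict_pow {W : Submodule F V} (hi : Inv f W) (j : ℕ) :
    Module.finrank F (LinearMap.range ((f.restrict hi - 1 : Module.End F W) ^ j)) =
      Module.finrank F (W.map ((f - 1) ^ j)) := by
  rw [← Submodule.finrank_map_subtype_eq W]
  suffices e : (LinearMap.range ((f.restrict hi - 1 : Module.End F W) ^ j)).map W.subtype = W.map ((f - 1) ^ j) by
    rw [e]
  ext v
  constructor
  · rintro ⟨_, ⟨w, rfl⟩, rfl⟩
    exact ⟨(w : V), w.2, (restrict_pow_coe hi j w).symm⟩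
  · rintro ⟨w, hw, rfl⟩
    exact ⟨_, ⟨⟨w, hw⟩, rfl⟩, restrict_pow_coe hi j ⟨w, hw⟩⟩

/-- The partition of a unipotent isometry on an invariant non-degenerate subspace. -/
theorem exists_partition (h2 : (2 : F) ≠ 0) (hf : ∀ v, Q (f v) = Q v) {k : ℕ} (hk : (f - 1) ^ k = 0)
    {W : Submodule F V} (hi : Inv f W) (hW : W ⊓ polarPerp Q W = ⊥) :
    ∃ M : Multiset ℕ, (∀ x ∈ M, 1 ≤ x) ∧ (∀ j, Even j → 0 < j → Even (M.count j)) ∧
      M.sum = Module.finrank F W ∧ ∀ j, Module.finrank F (W.map ((f - 1) ^ j)) = (M.map (· - j)).sum := by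
  classical
  let b := Module.finBasis F W
  set g : Module.End F W := f.restrict hi
  set G := LinearMap.BilinForm.toMatrix b (polarBilin (Q.comp W.subtype))
  set A := LinearMap.toMatrixAlgEquiv b g
  have hr : ∀ j, ((A - 1) ^ j).rank = Module.finrank F (W.map ((f - 1) ^ j)) := fun j => by
    rw [← finrank_restrict_pow hi j, Matrix.rank_eq_finrank_range_toLin _ b b]
    have e : Matrix.toLin b b ((A - 1) ^ j) = (g - 1) ^ j := by
      simp only [A, ← map_one (LinearMap.toMatrixAlgEquiv b), ← map_sub, ← map_pow]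
      exact Matrix.toLin_toMatrix b b _
    rw [e]
  have hG : G.transpose = G := by
    ext i j
    simp only [G, Matrix.transpose_apply, LinearMap.BilinForm.toMatrix_apply, polarBilin_apply_apply]
    exact polar_comm _ _ _
  have hGu : IsUnit G.det :=
    isUnit_iff_ne_zero.2 ((LinearMap.BilinForm.nondegenerate_iff_det_ne_zero b).1 (nondeg_comp hW))
  have hA : A.transpose * G * A = G := by
    have e : (polarBilin (Q.comp W.subtype)).compl₁₂ g g = polarBilin (Q.comp W.subtype) := by
      refine LinearMap.ext₂ fun x y => ?_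
      simp only [LinearMap.compl₁₂_apply, polarBilin_apply_apply, polar_comp]
      show polar Q (f x) (f y) = _
      simp only [polar, ← map_add, hf]
    show (LinearMap.toMatrix b b g).transpose * G * LinearMap.toMatrix b b g = G
    rw [← LinearMap.BilinForm.toMatrix_comp]
    exact congrArg _ e
  have hnil : IsNilpotent (A - 1) := isNilpotent_of_rank (b := k) (by
    rw [hr, hk, Submodule.map_zero, finrank_bot])
  obtain ⟨t, d, e, hd, hconj⟩ := CfsgLib.KnownB.Jordan.exists_type A hnil
  have hrk := fun j => CfsgLib.KnownB.Jordan.rank_pow_conj hconj j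
  set M := (Finset.univ : Finset (Fin t)).val.map d
  have hsum : ∀ j, (M.map (· - j)).sum = ∑ i, (d i - j) := fun j => by
    simp only [M, Multiset.map_map]; rfl
  have hev : ∀ i, Even ((M.map (· - (2 * i + 1))).sum) := fun i => by
    rw [hsum, ← hrk]
    exact even_rank_odd_pow h2 hG hGu hA hnil i
  refine ⟨M, fun x hx => by obtain ⟨i, -, rfl⟩ := Multiset.mem_map.1 hx; exact hd i, fun j hj hj0 => ?_, ?_, fun j => ?_⟩
  · obtain ⟨i, rfl⟩ := hj
    have h1 := count_second_diff M (show 1 ≤ i + i by omega)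
    rw [show i + i - 1 = 2 * (i - 1) + 1 by omega, show i + i + 1 = 2 * i + 1 by omega] at h1
    have := (hev (i - 1)).add (hev i)
    rw [h1, Nat.even_add] at this
    exact this.1 (even_two_mul _)
  · have h0 := hr 0
    rw [hrk, pow_zero, Module.End.one_eq_id, Submodule.map_id] at h0
    rw [← h0, ← hsum]
    simp
  · rw [← hr, hrk, hsum]

end Restrict

section Combine

universe v

variable {F : Type*} [Field F] {V : Type v} [AddCommGroup V] [Module F V] [FiniteDimensional F V]
variable {Q : QuadraticForm F V} {f : Module.End F V}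

/-- An invariant non-degenerate subspace takes part of the partition. -/
theorem sub_partition (hQ : (polarBilin Q).Nondegenerate) (h2 : (2 : F) ≠ 0) (hf : ∀ v, Q (f v) = Q v) {k : ℕ}
    (hk : (f - 1) ^ k = 0) {μ : Multiset ℕ} (hpos : ∀ x ∈ μ, 1 ≤ x)
    (hμ : ∀ j, Module.finrank F (LinearMap.range ((f - 1) ^ j)) = (μ.map (· - j)).sum)
    {W : Submodule F V} (hi : Inv f W) (hW : W ⊓ polarPerp Q W = ⊥) :
    ∃ ν ≤ μ, ν.sum = Module.finrank F W ∧ ∀ e : ℕ, Even e → Even (ν.count e) := by
  have htop : (⊤ : Submodule F V) ⊓ polarPerp Q ⊤ = ⊥ :=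
    nondeg_iff.1 fun u _ hu' => hQ.1 u fun v => hu' v trivial
  obtain ⟨hC, hdis, hsup, -, -⟩ := exists_orth_compl htop le_top hW
  set C := ⊤ ⊓ polarPerp Q W
  have hp : ∀ a b, polar Q (f a) (f b) = polar Q a b := fun a b => by simp only [polar, ← map_add, hf]
  have hWinj : ∀ w ∈ W, f w = 0 → w = 0 := fun w hw h0 => (Submodule.mem_bot F).1 (hW ▸ ⟨hw,
    mem_polarPerp.2 fun z _ => by rw [← hp, h0, polar_zero_right]⟩)
  have hCi : Inv f C := fun x hx => ⟨Submodule.mem_top, mem_polarPerp.2 fun z hz => by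
    obtain ⟨z', hz', rfl⟩ := map_nondeg_inj hi hWinj z hz
    rw [hp]
    exact mem_polarPerp.1 hx.2 z' hz'⟩
  obtain ⟨M, hM1, hM2, hM3, hM4⟩ := exists_partition h2 hf hk hi hW
  obtain ⟨N, hN1, -, -, hN4⟩ := exists_partition h2 hf hk hCi hC
  have hsplit : ∀ j, Module.finrank F (LinearMap.range ((f - 1) ^ j)) =
      Module.finrank F (W.map ((f - 1) ^ j)) + Module.finrank F (C.map ((f - 1) ^ j)) := fun j => by
    have hle : ∀ U : Submodule F V, Inv f U → U.map ((f - 1) ^ j) ≤ U := fun U hU => by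
      rintro _ ⟨u, hu, rfl⟩
      rw [← restrict_pow_coe hU j ⟨u, hu⟩]
      exact Subtype.coe_prop _
    rw [← Submodule.map_top, ← hsup, Submodule.map_sup]
    have h4 := Submodule.finrank_sup_add_finrank_inf_eq (W.map ((f - 1) ^ j)) (C.map ((f - 1) ^ j))
    rw [(hdis.mono (hle W hi) (hle C hCi)).eq_bot, finrank_bot] at h4
    omega
  have hMN : μ = M + N := partition_eq hpos
    (fun x hx => (Multiset.mem_add.1 hx).elim (hM1 x) (hN1 x)) fun j => by
      rw [Multiset.map_add, Multiset.sum_add, ← hμ, hsplit, hM4, hN4]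
  refine ⟨M, hMN ▸ Multiset.le_add_right M N, hM3, fun e he => ?_⟩
  rcases Nat.eq_zero_or_pos e with rfl | h0
  · rw [Multiset.count_eq_zero.2 fun h0 => absurd (hM1 0 h0) (by omega)]; exact Even.zero
  · exact hM2 e he h0

end Combine

theorem sum_even_of_all {s : Multiset ℕ} (h : ∀ x ∈ s, Even x) : Even s.sum := by
  induction s using Multiset.induction_on with
  | empty => simp
  | cons a s ih =>
    rw [Multiset.sum_cons]
    exact (h a (Multiset.mem_cons_self _ _)).add (ih fun x hx => h x (Multiset.mem_cons_of_mem hx))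

universe u

variable {F : Type u} [Field F] [Fintype F] {ι : Type} [Fintype ι] [DecidableEq ι] {Q : QuadraticForm F (ι → F)}
variable {p : ℕ} [Fact p.Prime] [CharP F p]

/-- The partition condition forced by fixing a non-degenerate `m`-space. -/
theorem partition_necessary (hQ : (polarBilin Q).Nondegenerate) (h2 : (2 : F) ≠ 0) {m : ℕ}
    (hm : Even m) (hmn : m ≤ Fintype.card ι)
    (H : ∀ f : Module.End F (ι → F), (∀ v, Q (f v) = Q v) → f ^ p = 1 → f ≠ 1 →
      ∃ W : Submodule F (ι → F), Module.finrank F W = m ∧ W ⊓ polarPerp Q W = ⊥ ∧ Inv f W)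
    (μ : Multiset ℕ) (hμ : ∀ e ∈ μ, 0 < e ∧ e ≤ p) (hev : ∀ e : ℕ, Even e → Even (μ.count e))
    (hsum : μ.sum = Fintype.card ι) :
    ∃ ν : Multiset ℕ, ν ≤ μ ∧ ν.sum = m ∧ ∀ e : ℕ, Even e → Even (ν.count e) := by
  classical
  have hpodd : Odd p := (Fact.out : p.Prime).odd_of_ne_two fun h => by
    subst h
    exact h2 (by simpa using CharP.cast_eq_zero F 2)
  have main : ∀ μ : Multiset ℕ, (∀ e ∈ μ, 0 < e ∧ e ≤ p) → (∀ e : ℕ, Even e → Even (μ.count e)) →
      μ.sum = Fintype.card ι → (∃ x ∈ μ, Odd x) →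
      ∃ ν : Multiset ℕ, ν ≤ μ ∧ ν.sum = m ∧ ∀ e : ℕ, Even e → Even (ν.count e) := by
    rintro μ hμ hev hsum ⟨x, hx, hxo⟩
    by_cases hall : ∀ y ∈ μ, y = 1
    · have hμ1 : μ = Multiset.replicate (Multiset.card μ) 1 := Multiset.eq_replicate_card.2 hall
      have hcard : Multiset.card μ = Fintype.card ι := by
        rw [← hsum]
        conv_rhs => rw [hμ1, Multiset.sum_replicate]
        simp
      refine ⟨Multiset.replicate m 1, ?_, by simp, fun e he => ?_⟩
      · rw [hμ1, hcard]
        exact Multiset.replicate_le_replicate _ |>.2 hmn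
      · rw [Multiset.count_replicate]
        split_ifs with h
        · subst h; exact absurd he Nat.not_even_one
        · exact Even.zero
    push Not at hall
    obtain ⟨y, hy, hy1⟩ := hall
    obtain ⟨f, hf, hr⟩ := exists_of_partition hQ h2 (M := μ) (fun e he => (hμ e he).1) (fun j hj _ => hev j hj)
      hx hxo hsum
    have hk : (f - 1) ^ p = 0 := LinearMap.range_eq_bot.1 (Submodule.finrank_eq_zero.1 (by
      rw [hr]
      exact Multiset.sum_eq_zero fun z hz => by
        obtain ⟨e, he, rfl⟩ := Multiset.mem_map.1 hz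
        have := hμ e he
        omega))
    have hf1 : f ≠ 1 := ne_one_of_range (by
      have h1 := hr 1
      rw [pow_one] at h1
      rw [h1]
      intro h0
      have := Multiset.sum_eq_zero_iff.1 h0 (y - 1) (Multiset.mem_map.2 ⟨y, hy, rfl⟩)
      have := hμ y hy
      omega)
    obtain ⟨W, hWd, hW, hi⟩ := H f hf (pow_char_eq_one le_rfl hk) hf1
    obtain ⟨ν, h1, h2', h3⟩ := sub_partition hQ h2 hf hk (fun e he => (hμ e he).1) hr hi hW
    exact ⟨ν, h1, h2'.trans hWd, h3⟩
  by_cases hodd : ∃ x ∈ μ, Odd x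
  · exact main μ hμ hev hsum hodd
  push Not at hodd
  simp only [Nat.not_odd_iff_even] at hodd
  rcases eq_or_ne μ 0 with rfl | hne
  · exact ⟨0, le_rfl, by rw [Multiset.sum_zero] at hsum ⊢; omega, fun e _ => by simp⟩
  obtain ⟨e, he⟩ := Multiset.exists_mem_of_ne_zero hne
  have hee := hodd e he
  obtain ⟨μ₁, rfl⟩ := Multiset.exists_cons_of_mem he
  obtain ⟨μ', rfl⟩ : ∃ μ', μ₁ = e ::ₘ μ' := by
    refine Multiset.exists_cons_of_mem (Multiset.count_pos.1 ?_)
    have := hev e hee
    rw [Multiset.count_cons_self, Nat.even_iff] at this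
    omega
  have he0 := hμ e he
  have hep : e + 1 ≤ p := by
    rcases he0.2.lt_or_eq with h | h
    · exact h
    · exact absurd (h ▸ hee) (Nat.not_even_iff_odd.2 hpodd)
  have he2 : 2 ≤ e := by rw [Nat.even_iff] at hee; omega
  have hev' : ∀ j, Even j → Even (μ'.count j) := fun j hj => by
    have h1 := hev j hj
    rw [Multiset.count_cons, Multiset.count_cons, Nat.even_iff] at h1
    rw [Nat.even_iff]
    split_ifs at h1 <;> omega
  have hall' : ∀ z ∈ μ', Even z := fun z hz => hodd z (Multiset.mem_cons_of_mem (Multiset.mem_cons_of_mem hz))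
  have hne1 : ∀ j, Even j → j ≠ e + 1 ∧ j ≠ e - 1 := fun j hj => by
    rw [Nat.even_iff] at hj hee; omega
  obtain ⟨ν, hν, hνs, hνe⟩ := main ((e + 1) ::ₘ (e - 1) ::ₘ μ') (fun z hz => by
      simp only [Multiset.mem_cons] at hz
      rcases hz with rfl | rfl | hz
      · omega
      · omega
      · exact hμ z (Multiset.mem_cons_of_mem (Multiset.mem_cons_of_mem hz)))
    (fun j hj => by
      obtain ⟨h1, h2'⟩ := hne1 j hj
      rw [Multiset.count_cons_of_ne h1, Multiset.count_cons_of_ne h2']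
      exact hev' j hj)
    (by simp only [Multiset.sum_cons] at hsum ⊢; omega)
    ⟨e + 1, Multiset.mem_cons_self _ _, hee.add_one⟩
  by_cases hp1 : e + 1 ∈ ν
  · obtain ⟨ν₁, rfl⟩ := Multiset.exists_cons_of_mem hp1
    have hν₁ := (Multiset.cons_le_cons_iff _).1 hν
    by_cases hm1 : e - 1 ∈ ν₁
    · obtain ⟨ν₂, rfl⟩ := Multiset.exists_cons_of_mem hm1
      refine ⟨e ::ₘ e ::ₘ ν₂, Multiset.cons_le_cons _ (Multiset.cons_le_cons _ ((Multiset.cons_le_cons_iff _).1 hν₁)),
        by simp only [Multiset.sum_cons] at hνs ⊢; omega, fun j hj => ?_⟩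
      obtain ⟨h1, h2'⟩ := hne1 j hj
      have := hνe j hj
      rw [Multiset.count_cons_of_ne h1, Multiset.count_cons_of_ne h2', Nat.even_iff] at this
      rw [Multiset.count_cons, Multiset.count_cons, Nat.even_iff]
      split_ifs <;> omega
    · exfalso
      have h1 := sum_even_of_all fun z hz => hall' z (Multiset.mem_of_le ((Multiset.le_cons_of_notMem hm1).1 hν₁) hz)
      rw [Multiset.sum_cons] at hνs
      rw [Nat.even_iff] at h1 hm hee
      omega
  · have hν₁ := (Multiset.le_cons_of_notMem hp1).1 hν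
    by_cases hm1 : e - 1 ∈ ν
    · exfalso
      obtain ⟨ν₂, rfl⟩ := Multiset.exists_cons_of_mem hm1
      have h1 := sum_even_of_all fun z hz => hall' z (Multiset.mem_of_le ((Multiset.cons_le_cons_iff _).1 hν₁) hz)
      rw [Multiset.sum_cons] at hνs
      rw [Nat.even_iff] at h1 hm hee
      omega
    · exact ⟨ν, ((Multiset.le_cons_of_notMem hm1).1 hν₁).trans ((Multiset.le_cons_self _ _).trans (Multiset.le_cons_self _ _)),
        hνs, hνe⟩

/-- Sub-multisets of twos and possibly one odd part. -/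
theorem four_dvd_of_sub_twos {a : ℕ} {ν : Multiset ℕ} (h : ν ≤ Multiset.replicate a 2)
    (he : ∀ e : ℕ, Even e → Even (ν.count e)) : ν.sum % 4 = 0 := by
  obtain ⟨k, -, rfl⟩ := Multiset.le_replicate_iff.1 h
  have := he 2 even_two
  rw [Multiset.count_replicate_self, Nat.even_iff] at this
  simp only [Multiset.sum_replicate, smul_eq_mul]
  omega

theorem four_dvd_of_sub_odd {a x : ℕ} (hx : Odd x) {ν : Multiset ℕ} (h : ν ≤ x ::ₘ Multiset.replicate a 2)
    (he : ∀ e : ℕ, Even e → Even (ν.count e)) (hs : Even ν.sum) : ν.sum % 4 = 0 := by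
  by_cases hxm : x ∈ ν
  · exfalso
    obtain ⟨ν', rfl⟩ := Multiset.exists_cons_of_mem hxm
    obtain ⟨k, -, rfl⟩ := Multiset.le_replicate_iff.1 ((Multiset.cons_le_cons_iff _).1 h)
    rw [Multiset.sum_cons, Multiset.sum_replicate, smul_eq_mul, Nat.even_add] at hs
    exact Nat.not_even_iff_odd.2 hx (hs.2 (even_two.mul_left k))
  · exact four_dvd_of_sub_twos ((Multiset.le_cons_of_notMem hxm).1 h) he

/-- An element of order `p` without elliptic invariant subspaces of dimension divisible by four. -/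
theorem exists_p_no_elliptic_four {V : Type u} [AddCommGroup V] [Module F V] [FiniteDimensional F V]
    {R : QuadraticForm F V} (hR : (polarBilin R).Nondegenerate) {d : ℕ} (hd : 3 ≤ d)
    (hodd : Odd d) (hn : Module.finrank F V = 2 * d) :
    ∃ f : Module.End F V, (∀ v, R (f v) = R v) ∧ f ^ p = 1 ∧ f ≠ 1 ∧
      ∀ W : Submodule F V, Inv f W → W ⊓ polarPerp R W = ⊥ → Module.finrank F W % 4 = 0 → Plus R W := by
  have htop : (⊤ : Submodule F V) ⊓ polarPerp R ⊤ = ⊥ :=
    nondeg_iff.1 fun u _ hu' => hR.1 u fun v => hu' v trivial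
  obtain ⟨j, hj⟩ := hodd
  obtain ⟨U, -, hU, hUd⟩ := exists_ts_dim htop (a := 2 * j) (Or.inl (by rw [finrank_top]; omega))
  obtain ⟨f, hf, -, hn2, hr, -, -, hrU, -⟩ := exists_unip hR (j := j) (s := 0) hU
    (by omega) Fin.elim0 (fun _ _ k => k.elim0) (fun k => k.elim0) fun k => k.elim0
  rw [Set.range_eq_empty, Submodule.span_empty, sup_bot_eq] at hrU
  refine ⟨f, hf, pow_char_eq_one (Fact.out : p.Prime).two_le (hn2 rfl), ne_one_of_range (by omega),
    fun W hi hW h4 => ?_⟩
  obtain ⟨r, x, -, ⟨b, hb⟩, h1, h3, hp⟩ := ts_mov_dims hR hf (fun u => hU _ (hrU ⟨u, rfl⟩)) hi hW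
  exact hp (by omega)

end CfsgLib.OrthPrime
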