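import Cfsg.Agent.Lib.OrthPrime.Sub
import Cfsg.Agent.Lib.Geometry.AutStd
import Cfsg.Agent.Lib.Geometry.MaxSingular

/-! The standard forms: non-degeneracy and type. -/

set_option autoImplicit false

namespace CfsgLib.OrthPrime

open QuadraticMap CfsgLib.Geometry

variable {F : Type*} [Field F]

theorem nondeg_odd (h2 : (2 : F) ≠ 0) (d : ℕ) : (polarBilin (matQuad (oddMat d F))).Nondegenerate :=
  nondegenerate_matQuad (by
    rw [det_odd_gram]; exact mul_ne_zero h2 (pow_ne_zero _ (neg_ne_zero.2 one_ne_zero)))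

theorem sgn_plusForm (d : ℕ) : sgn (matQuad (plusMat d F)) ⊤ = 1 := by
  obtain ⟨h1, h2⟩ := isMaxSing_coord (F := F) d
  refine sgn_plus ⟨_, le_top, h2, ?_⟩
  rw [h1, finrank_top, Module.finrank_fintype_fun_eq_card, Fintype.card_sum, Fintype.card_fin, two_mul]

theorem sgn_minusForm [Finite F] (m : ℕ) {a b : F}
    (hab : ∀ z₁ z₂ : F, z₁ ^ 2 + a * z₁ * z₂ + b * z₂ ^ 2 = 0 → z₁ = 0 ∧ z₂ = 0) :
    sgn (matQuad (minusMat m F a b)) ⊤ = -1 := by
  refine sgn_minus fun ⟨U, _, hU, hd⟩ => ?_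
  have h1 := singular_finrank_le_minus m hab U hU
  rw [finrank_top, Module.finrank_fintype_fun_eq_card, Fintype.card_sum, Fintype.card_sum, Fintype.card_fin,
    Fintype.card_fin] at hd
  omega

end CfsgLib.OrthPrime
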