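import Cfsg.Agent.Lib.OrthPrime.FieldExtInvol
import Cfsg.Agent.Lib.OrthPrime.PartType
import Cfsg.Agent.Lib.OrthPrime.Std
import Cfsg.Agent.Lib.OrthPrime.NDApp
import Cfsg.Agent.Lib.OrthPrime.TSApp
import Cfsg.Agent.Lib.Classical.OrthStd
import Cfsg.Agent.Lib.Classical.ExcepFrame
import Cfsg.Agent.Lib.PrimeOrderSp.SpGL
import Cfsg.Agent.Lib.PrimeOrderSp.Config

/-! Elements of odd prime order and self-adjoint square roots of a non-square. -/

set_option autoImplicit false

namespace CfsgLib.OrthPrime.FieldExt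

open QuadraticMap CfsgLib.Geometry CfsgLib.OrthMax CfsgLib.PrimeOrderSp CfsgLib.OrthPrime CfsgLib.Classical

section Commute

variable {F : Type*} [Field F] {V : Type*} [AddCommGroup V] [Module F V] [FiniteDimensional F V]
variable {ν : F} {J : Module.End F V}

omit [FiniteDimensional F V] in
/-- A subspace stable under a square root of a non-square has even dimension. -/
theorem even_finrank_stable (hν : ¬ IsSquare ν) (hJ : ∀ v, J (J v) = ν • v) {W : Submodule F V}
    (hi : ∀ v ∈ W, J v ∈ W) : Even (Module.finrank F W) := by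
  by_contra hodd
  obtain ⟨k, hk⟩ := Nat.not_even_iff_odd.1 hodd
  have e : (J.restrict hi) ∘ₗ (J.restrict hi) = ν • (LinearMap.id : W →ₗ[F] W) :=
    LinearMap.ext fun w => Subtype.ext (hJ _)
  have h := congrArg LinearMap.det e
  rw [LinearMap.det_comp, LinearMap.det_smul, LinearMap.det_id, mul_one, hk] at h
  have hν0 : ν ≠ 0 := fun h0 => hν (h0 ▸ IsSquare.zero)
  refine hν ⟨LinearMap.det (J.restrict hi) / ν ^ k, ?_⟩
  field_simp
  rw [pow_two (LinearMap.det _), h]
  ring

/-- A space with a non-degenerate alternating form and a self-adjoint root has dimension divisible by four. -/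
theorem four_dvd_of_alt (h2 : (2 : F) ≠ 0) (hν : ¬ IsSquare ν) (hJ : ∀ v, J (J v) = ν • v) (ω : LinearMap.BilinForm F V)
    (halt : ∀ u, ω u u = 0) (hJω : ∀ u v, ω (J u) v = ω u (J v)) :
    ∀ (n : ℕ) (W : Submodule F V), (∀ v ∈ W, J v ∈ W) → (∀ u ∈ W, (∀ v ∈ W, ω u v = 0) → u = 0) →
      Module.finrank F W ≤ n → 4 ∣ Module.finrank F W := by
  have hν0 : ν ≠ 0 := fun h0 => hν (h0 ▸ IsSquare.zero)
  have hanti : ∀ u v, ω v u = -ω u v := fun u v => by
    have := halt (u + v)
    simp only [map_add, LinearMap.add_apply, halt, zero_add, add_zero] at this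
    linear_combination this
  have hJJ : ∀ u v, ω (J u) (J v) = ν * ω u v := fun u v => by rw [hJω, hJ, map_smul, smul_eq_mul]
  have hJu : ∀ u, ω u (J u) = 0 := fun u => by
    have h1 := hJω u u
    rw [hanti u (J u)] at h1
    exact (mul_eq_zero.1 (show (2 : F) * ω u (J u) = 0 by linear_combination -h1)).resolve_left h2
  intro n
  induction n with
  | zero => exact fun W _ _ hd => by simp [show Module.finrank F W = 0 by omega]
  | succ n ih =>
    intro W hi hnd hd
    by_cases hbot : W = ⊥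
    · rw [hbot, finrank_bot]; exact dvd_zero 4
    obtain ⟨u, huW, hu⟩ := Submodule.exists_mem_ne_zero_of_ne_bot hbot
    obtain ⟨w₁, hw₁, hA⟩ : ∃ w ∈ W, ω u w ≠ 0 := by
      by_contra hc
      push Not at hc
      exact hu (hnd u huW hc)
    set A := ω u w₁
    set B := ω (J u) w₁
    have hdet : ν * A * A - B * B ≠ 0 := fun h => hν ⟨B / A, by field_simp; linear_combination h⟩
    obtain ⟨w, hwW, hw1, hw2⟩ : ∃ w ∈ W, ω u w = 1 ∧ ω (J u) w = 0 := by
      refine ⟨(ν * A / (ν * A * A - B * B)) • w₁ + (-B / (ν * A * A - B * B)) • J w₁,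
        W.add_mem (W.smul_mem _ hw₁) (W.smul_mem _ (hi _ hw₁)), ?_, ?_⟩
      · simp only [map_add, map_smul, smul_eq_mul, ← hJω u w₁]
        rw [div_mul_eq_mul_div, div_mul_eq_mul_div, ← add_div, div_eq_one_iff_eq hdet]
        ring
      · simp only [map_add, map_smul, smul_eq_mul, hJJ]
        rw [div_mul_eq_mul_div, div_mul_eq_mul_div, ← add_div, div_eq_zero_iff]
        left; ring
    have huJw : ω u (J w) = 0 := by rw [← hJω]; exact hw2
    have hwu : ω w u = -1 := by rw [hanti u w, hw1]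
    have hwJu : ω w (J u) = 0 := by rw [hanti (J u) w, hw2, neg_zero]
    have hJwu : ω (J w) u = 0 := by rw [hanti u (J w), huJw, neg_zero]
    let Φ : W →ₗ[F] Fin 4 → F :=
      LinearMap.pi ![(ω u).comp W.subtype, (ω (J u)).comp W.subtype, (ω w).comp W.subtype, (ω (J w)).comp W.subtype]
    have hΦ : ∀ z : W, Φ z = ![ω u z, ω (J u) z, ω w z, ω (J w) z] := fun z => by
      funext i; fin_cases i <;> rfl
    have hsurj : Function.Surjective Φ := fun y => by
      refine ⟨⟨(-y 2) • u + (-y 3 / ν) • J u + y 0 • w + (y 1 / ν) • J w, W.add_mem (W.add_mem (W.add_mem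
        (W.smul_mem _ huW) (W.smul_mem _ (hi _ huW))) (W.smul_mem _ hwW)) (W.smul_mem _ (hi _ hwW))⟩, ?_⟩
      rw [hΦ]
      funext i
      fin_cases i <;>
        simp [halt, hJu, hw1, hw2, huJw, hwu, hwJu, hJwu, hJJ, hJω u u, hJω w w] <;> field_simp
    set C := (LinearMap.ker Φ).map W.subtype with hC
    have hCmem : ∀ z, z ∈ C ↔ z ∈ W ∧ ω u z = 0 ∧ ω (J u) z = 0 ∧ ω w z = 0 ∧ ω (J w) z = 0 := fun z => by
      rw [hC, Submodule.mem_map]
      constructor
      · rintro ⟨⟨y, hy⟩, hk, rfl⟩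
        rw [LinearMap.mem_ker, hΦ] at hk
        exact ⟨hy, congrFun hk 0, congrFun hk 1, congrFun hk 2, congrFun hk 3⟩
      · rintro ⟨hz, h0, h1, h2, h3⟩
        refine ⟨⟨z, hz⟩, ?_, rfl⟩
        rw [LinearMap.mem_ker, hΦ]
        funext i
        fin_cases i <;> simp [h0, h1, h2, h3]
    have hCd : Module.finrank F C + 4 = Module.finrank F W := by
      have h1 := LinearMap.finrank_range_add_finrank_ker Φ
      rw [LinearMap.range_eq_top.2 hsurj, finrank_top, Module.finrank_fin_fun] at h1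
      rw [hC, Submodule.finrank_map_subtype_eq]
      omega
    have := ih C (fun z hz => by
        obtain ⟨h, h0, h1, h2, h3⟩ := (hCmem z).1 hz
        exact (hCmem _).2 ⟨hi _ h, by rw [← hJω]; exact h1, by rw [hJJ, h0, mul_zero], by rw [← hJω]; exact h3,
          by rw [hJJ, h2, mul_zero]⟩)
      (fun z hz hz' => by
        obtain ⟨h, h0, h1, h2, h3⟩ := (hCmem z).1 hz
        refine hnd z h fun y hy => ?_
        set c₁ := ω u y
        set c₂ := ω (J u) y
        set c₃ := ω w y
        set c₄ := ω (J w) y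
        have hy' : y + c₃ • u + (c₄ / ν) • J u + (-c₁) • w + (-c₂ / ν) • J w ∈ C := by
          refine (hCmem _).2 ⟨W.add_mem (W.add_mem (W.add_mem (W.add_mem hy (W.smul_mem _ huW))
            (W.smul_mem _ (hi _ huW))) (W.smul_mem _ hwW)) (W.smul_mem _ (hi _ hwW)), ?_, ?_, ?_, ?_⟩ <;>
          · simp [halt, hJu, hw1, hw2, huJw, hwu, hwJu, hJwu, hJJ, hJω u u, hJω w w, c₁, c₂, c₃, c₄]
            try field_simp
            try ring
        have hz0 := hz' _ hy'
        simpa [hanti u z, hanti (J u) z, hanti w z, hanti (J w) z, h0, h1, h2, h3] using hz0)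
      (by omega)
    omega

variable {Q : QuadraticForm F V}

/-- The moved space of an element of odd order commuting with a root has dimension divisible by four. -/
theorem four_dvd_mov (h2 : (2 : F) ≠ 0) (hQ : (polarBilin Q).Nondegenerate) (hν : ¬ IsSquare ν) (hJ : ∀ v, J (J v) = ν • v)
    (hJs : ∀ u v, polar Q (J u) v = polar Q u (J v)) {f : Module.End F V} (hf : ∀ v, Q (f v) = Q v) {r : ℕ}
    (hr : (r : F) ≠ 0) (hodd : Odd r) (hfr : f ^ r = 1) (hfJ : ∀ v, f (J v) = J (f v)) :
    4 ∣ Module.finrank F (movSp f) := by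
  obtain ⟨c, rfl⟩ := hodd
  set g : Module.End F V := f ^ (2 * c) with hg
  have hfg : ∀ v, f (g v) = v := fun v => by
    rw [hg, ← Module.End.mul_apply, ← pow_succ', hfr, Module.End.one_apply]
  have hgf : ∀ v, g (f v) = v := fun v => by
    rw [hg, ← Module.End.mul_apply, ← pow_succ, hfr, Module.End.one_apply]
  have hadj : ∀ u v, polar Q (g u) v = polar Q u (f v) := fun u v => by
    conv_rhs => rw [← hfg u, iso_polar hf]
  have hgJ : ∀ v, g (J v) = J (g v) := fun v => by
    conv_lhs => rw [← hfg v, ← hfJ, hgf]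
  let ω : LinearMap.BilinForm F V := (polarBilin Q).comp (f - g)
  have hω : ∀ u v, ω u v = polar Q (f u) v - polar Q (g u) v := fun u v => by
    simp [ω, polarBilin_apply_apply, polar_sub_left]
  refine four_dvd_of_alt h2 hν hJ ω (fun u => ?_) (fun u v => ?_) (Module.finrank F (movSp f)) (movSp f) ?_ ?_ le_rfl
  · rw [hω, hadj, polar_comm, sub_self]
  · rw [hω, hω, hfJ, hgJ, hJs, hJs]
  · rintro _ ⟨y, rfl⟩
    exact ⟨J y, by simp [hfJ]⟩
  · intro u hu hperp
    have hdec := isCompl_fix_mov hr hfr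
    have hz : f u - g u = 0 := hQ.1 _ fun y => by
      obtain ⟨a, ha, b, hb, rfl⟩ := Submodule.mem_sup.1
        (hdec.sup_eq_top.symm ▸ (Submodule.mem_top : y ∈ (⊤ : Submodule F V)))
      have hb' := hperp b hb
      rw [hω, ← polar_sub_left] at hb'
      rw [polarBilin_apply_apply, polar_add_right, hb', add_zero, polar_sub_left, hadj, mem_fixSp.1 ha,
        sub_eq_zero]
      conv_lhs => rw [← mem_fixSp.1 ha, iso_polar hf]
    have h2 : (f ^ 2) u = u := by
      rw [pow_two, Module.End.mul_apply, sub_eq_zero.1 hz, hfg]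
    have h2c : ∀ k, (f ^ (2 * k)) u = u := fun k => by
      induction k with
      | zero => rfl
      | succ k ih => rw [mul_add, mul_one, pow_add, Module.End.mul_apply, h2, ih]
    exact Submodule.disjoint_def.1 hdec.disjoint u (mem_fixSp.2 (by
      conv_rhs => rw [← hfg u, hg, h2c])) hu

end Commute

section Models

variable {F : Type*} [Field F] [Finite F] {ν : F} [hfact : Fact (∀ r : F, r ^ 2 ≠ ν + 0 * r)]
variable {V : Type*} [AddCommGroup V] [Module F V] [FiniteDimensional F V]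

/-- The orthogonal group over the extension inside the centraliser of the root. -/
theorem exists_hom {Q : QuadraticForm F V} (h2 : (2 : F) ≠ 0) (hQ : (polarBilin Q).Nondegenerate)
    {J : Module.End F V} (hJ : ∀ v, J (J v) = ν • v) (hJs : ∀ u v, polar Q (J u) v = polar Q u (J v))
    {ι' : Type} [Fintype ι'] [DecidableEq ι'] [Nonempty ι']
    (S : QuadraticForm (QuadraticAlgebra F ν 0) (ι' → QuadraticAlgebra F ν 0))
    (hS : (polarBilin S).Nondegenerate) (hn : Module.finrank F V = 2 * Fintype.card ι')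
    {κ : Type} [Fintype κ] [DecidableEq κ] (b : Module.Basis κ F V)
    (hsq : IsSquare ((Matrix.of fun i j => polar Q (b i) (b j)).det * ((4 * ν) ^ Fintype.card ι' *
      QuadraticAlgebra.norm (Matrix.of fun i j => polar S (Pi.basisFun (QuadraticAlgebra F ν 0) ι' i)
        (Pi.basisFun (QuadraticAlgebra F ν 0) ι' j)).det))) :
    ∃ ψ : orth S →* orth Q, Function.Injective ψ ∧
      ∀ h v, (ψ h : V ≃ₗ[F] V) (J v) = J ((ψ h : V ≃ₗ[F] V) v) := by
  classical
  obtain ⟨d, hd⟩ : ∃ d, Fintype.card ι' = d + 1 := ⟨_, (Nat.succ_pred_eq_of_pos Fintype.card_pos).symm⟩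
  obtain ⟨a, g, ha, hgJ, hgQ, hgd⟩ := exists_frame h2 hQ (d := d) (by omega) hJ hJs
  set w : Fin (d + 1) → QuadraticAlgebra F ν 0 := Fin.snoc (fun _ : Fin d => 1) a with hw
  set D := QuadraticMap.weightedSumSquares (QuadraticAlgebra F ν 0) w with hD
  have hw0 : ∀ k, w k ≠ 0 := fun k => by
    refine Fin.lastCases ?_ (fun j => ?_) k <;> simp [hw, ha]
  have hDp : Matrix.of (fun i j => polar D (Pi.basisFun (QuadraticAlgebra F ν 0) (Fin (d + 1)) i)
      (Pi.basisFun (QuadraticAlgebra F ν 0) (Fin (d + 1)) j)) = Matrix.diagonal fun k => 2 * w k := by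
    refine Matrix.ext fun i j => ?_
    rw [Matrix.of_apply, Matrix.diagonal_apply]
    simp only [polar, hD, weightedSumSquares_apply, Pi.basisFun_apply, Pi.add_apply, smul_eq_mul,
      ← Finset.sum_sub_distrib]
    rw [Finset.sum_eq_single i]
    · split_ifs with h
      · subst h; simp; ring
      · simp [Pi.single_eq_of_ne h]
    · intro k _ hk
      simp [Pi.single_eq_of_ne hk]
    · simp
  have h2L := two_ne_ext (ν := ν) h2
  have hDn : (polarBilin D).Nondegenerate := by
    refine (LinearMap.BilinForm.nondegenerate_iff_det_ne_zero (Pi.basisFun _ (Fin (d + 1)))).2 ?_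
    have e : LinearMap.BilinForm.toMatrix (Pi.basisFun (QuadraticAlgebra F ν 0) (Fin (d + 1))) (polarBilin D) =
        Matrix.diagonal fun k => 2 * w k := by
      rw [← hDp]; refine Matrix.ext fun i j => ?_; rw [LinearMap.BilinForm.toMatrix_apply, polarBilin_apply_apply, Matrix.of_apply]
    rw [e, Matrix.det_diagonal]
    exact Finset.prod_ne_zero_iff.2 fun k _ => mul_ne_zero h2L (hw0 k)
  obtain ⟨g₁, hg₁⟩ := exists_isometry_of_disc h2L D hS hDn
    (by rw [Module.finrank_fintype_fun_eq_card, Module.finrank_fintype_fun_eq_card, Fintype.card_fin, hd])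
    (Pi.basisFun (QuadraticAlgebra F ν 0) ι') (Pi.basisFun (QuadraticAlgebra F ν 0) (Fin (d + 1))) (by
      refine isSquare_of_norm h2 ?_
      rw [hDp, Matrix.det_diagonal, Finset.prod_mul_distrib, Finset.prod_const, Finset.card_univ, Fintype.card_fin]
      have hp : ∏ k, w k = a := by simp [hw, Fin.prod_univ_castSucc]
      rw [hp, map_mul, map_mul, map_pow]
      obtain ⟨s, hs⟩ := hsq
      obtain ⟨t, ht⟩ := hgd b
      rw [hd] at hs
      set X := (Matrix.of fun i j => polar Q (b i) (b j)).det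
      have hX : X * (4 * ν) ^ (d + 1) ≠ 0 := by
        refine mul_ne_zero (fun h0 => ?_) (pow_ne_zero _ ?_)
        · refine (LinearMap.BilinForm.nondegenerate_iff_det_ne_zero b).1 hQ (Eq.trans ?_ h0)
          congr 1
          ext i j
          rw [LinearMap.BilinForm.toMatrix_apply, polarBilin_apply_apply, Matrix.of_apply]
        · rw [show (4 : F) = 2 * 2 by norm_num]
          exact mul_ne_zero (mul_ne_zero h2 h2) nu_ne_zero
      have h4 : QuadraticAlgebra.norm (2 : QuadraticAlgebra F ν 0) = 4 := by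
        rw [show (2 : QuadraticAlgebra F ν 0) = ((2 : ℕ) : QuadraticAlgebra F ν 0) by norm_num,
          QuadraticAlgebra.norm_natCast]
        norm_num
      rw [h4]
      refine ⟨s * t * 2 ^ (d + 1) / (X * (4 * ν) ^ (d + 1)), ?_⟩
      rw [div_mul_div_comm, eq_div_iff (mul_ne_zero hX hX)]
      calc _ = (X * ((4 * ν) ^ (d + 1) * QuadraticAlgebra.norm _)) *
            (X * ((4 * ν) ^ (d + 1) * QuadraticAlgebra.norm a)) * (2 ^ (d + 1) * 2 ^ (d + 1)) := by
            rw [show (4 : F) ^ (d + 1) = 2 ^ (d + 1) * 2 ^ (d + 1) by rw [← mul_pow]; norm_num]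
            ring
        _ = _ := by rw [hs, ht]; ring)
  let e : (ι' → QuadraticAlgebra F ν 0) ≃ₗ[F] V := (g₁.restrictScalars F).trans g
  have heQ : ∀ y, Q (e y) = (S y).re := fun y => by
    show Q (g (g₁ y)) = _
    rw [hgQ, ← hg₁, hD, weightedSumSquares_apply]
    rfl
  let ψ₀ : orth S →* (V ≃ₗ[F] V) :=
    { toFun := fun h => e.symm.trans (((h : (ι' → QuadraticAlgebra F ν 0) ≃ₗ[QuadraticAlgebra F ν 0]
        (ι' → QuadraticAlgebra F ν 0)).restrictScalars F).trans e)
      map_one' := LinearEquiv.ext fun v => e.apply_symm_apply v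
      map_mul' := fun h h' => LinearEquiv.ext fun v => by simp [LinearEquiv.mul_apply] }
  have hψ : ∀ h : orth S, ψ₀ h ∈ orth Q := fun h v => by
    show Q (e ((h : (ι' → QuadraticAlgebra F ν 0) ≃ₗ[QuadraticAlgebra F ν 0] _) (e.symm v))) = Q v
    conv_rhs => rw [← e.apply_symm_apply v]
    rw [heQ, heQ, h.2]
  refine ⟨ψ₀.codRestrict (orth Q) hψ, fun h h' hh => Subtype.ext (LinearEquiv.ext fun y => ?_), fun h v => ?_⟩
  · have := congrArg (fun k : orth Q => e.symm ((k : V ≃ₗ[F] V) (e y))) hh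
    simpa [ψ₀] using this
  · have heθ : ∀ y, e ((QuadraticAlgebra.omega : QuadraticAlgebra F ν 0) • y) = J (e y) := fun y => by
      show g (g₁ _) = J (g (g₁ y))
      rw [g₁.map_smul, hgJ]
    obtain ⟨y, rfl⟩ := e.surjective v
    show e ((h : (ι' → QuadraticAlgebra F ν 0) ≃ₗ[QuadraticAlgebra F ν 0] _) (e.symm (J (e y)))) =
      J (e ((h : (ι' → QuadraticAlgebra F ν 0) ≃ₗ[QuadraticAlgebra F ν 0] _) (e.symm (e y))))
    rw [← heθ, e.symm_apply_apply, e.symm_apply_apply, LinearEquiv.map_smul, heθ]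

end Models

section Order

variable {F : Type*} [Field F] [Fintype F] {ι : Type} [Fintype ι] [DecidableEq ι] {Q : QuadraticForm F (ι → F)}
variable {ν : F} [hfact : Fact (∀ r : F, r ^ 2 ≠ ν + 0 * r)]
variable {M : Matrix ι ι F} {K : Subalgebra F (Matrix ι ι F)}

/-- The index times the order of the orthogonal group over the extension divides the order of the orthogonal
group. -/
theorem relIndex_dvd (h2 : (2 : F) ≠ 0) (hQ : (polarBilin Q).Nondegenerate) (hι : 2 ≤ Fintype.card ι) (hM : M ∈ K)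
    (hspan : ∀ k ∈ K, ∃ a b : F, k = a • (1 : Matrix ι ι F) + b • M) {ι' : Type} [Fintype ι'] [DecidableEq ι']
    (hι' : 2 ≤ Fintype.card ι') (S : QuadraticForm (QuadraticAlgebra F ν 0) (ι' → QuadraticAlgebra F ν 0))
    (hS : (polarBilin S).Nondegenerate) (ψ : orth S →* orth Q) (hψ : Function.Injective ψ)
    (hψJ : ∀ h v, (ψ h : (ι → F) ≃ₗ[F] (ι → F)) (Matrix.toLin' M v) =
      Matrix.toLin' M ((ψ h : (ι → F) ≃ₗ[F] (ι → F)) v)) :
    (Cfsg.Geo.subalgebraNormalizer K).relIndex (Cfsg.Geo.omegaGL ⇑Q) * Nat.card (orth S) ∣ Nat.card (orth Q) := by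
  have h2L := two_ne_ext (ν := ν) h2
  have iQ : (commutator (orth Q)).index = 4 := by
    rw [index_commutator_orth hQ hι (reflGroup_eq_orth_of_two_ne hQ h2), Nat.card_eq_fintype_card,
      show Nat.gcd 2 (Fintype.card F - 1) = 2 from Nat.gcd_eq_left (by
        have := odd_card_of_two_ne h2; omega)]
  have iS : (commutator (orth S)).index = 4 := by
    have := Fintype.ofFinite (QuadraticAlgebra F ν 0)
    rw [index_commutator_orth hS hι' (reflGroup_eq_orth_of_two_ne hS h2L), Nat.card_eq_fintype_card,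
      show Nat.gcd 2 (Fintype.card (QuadraticAlgebra F ν 0) - 1) = 2 from Nat.gcd_eq_left (by
        have := odd_card_of_two_ne h2L; omega)]
  let φ : commutator (orth S) →* GL ι F := (orthToGL Q).comp (ψ.comp (commutator (orth S)).subtype)
  have hmap : (commutator (orth S)).map ψ ≤ commutator (orth Q) := by
    rw [commutator_def, Subgroup.map_commutator, commutator_def]
    exact Subgroup.commutator_mono le_top le_top
  have h1 : (Cfsg.Geo.subalgebraNormalizer K).relIndex (Cfsg.Geo.omegaGL ⇑Q) * Nat.card (commutator (orth S)) ∣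
      Nat.card (Cfsg.Geo.omegaGL ⇑Q) :=
    relIndex_mul_dvd φ (fun a b h => Subtype.val_injective (hψ (orthToGL_injective Q h))) fun c =>
      Subgroup.mem_inf.2 ⟨mem_normalizer_gen hM hspan 1 (one_mul 1) (by
        apply Matrix.toLin'.injective
        refine LinearMap.ext fun v => ?_
        rw [one_smul, Matrix.toLin'_mul, Matrix.toLin'_mul]
        show Matrix.toLin' ((orthToGL Q (ψ c) : GL ι F) : Matrix ι ι F) (Matrix.toLin' M v) =
          Matrix.toLin' M (Matrix.toLin' ((orthToGL Q (ψ c) : GL ι F) : Matrix ι ι F) v)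
        rw [toLin'_orthToGL]
        exact hψJ c v),
      by rw [omegaGL_eq_map]; exact Subgroup.mem_map_of_mem _ (hmap (Subgroup.mem_map_of_mem _ c.2))⟩
  rw [omegaGL_eq_map, Subgroup.card_map_of_injective (orthToGL_injective Q)] at h1
  rw [← Subgroup.card_mul_index (commutator (orth S)), ← Subgroup.card_mul_index (commutator (orth Q)), iQ, iS,
    ← mul_assoc, omegaGL_eq_map]
  exact mul_dvd_mul_right h1 4

end Order

section Arith

theorem prod_split (f : ℕ → ℕ) (k : ℕ) :
    ∏ i ∈ Finset.range (2 * k), f i =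
      (∏ l ∈ Finset.range k, f (2 * l)) * ∏ l ∈ Finset.range k, f (2 * l + 1) := by
  induction k with
  | zero => simp
  | succ k ih =>
    rw [show 2 * (k + 1) = 2 * k + 1 + 1 by ring, Finset.prod_range_succ, Finset.prod_range_succ, ih,
      Finset.prod_range_succ, Finset.prod_range_succ]
    ring

theorem prod_split' (f : ℕ → ℕ) (k : ℕ) :
    ∏ i ∈ Finset.range (2 * k + 1), f i =
      (∏ l ∈ Finset.range (k + 1), f (2 * l)) * ∏ l ∈ Finset.range k, f (2 * l + 1) := by
  rw [Finset.prod_range_succ, prod_split, Finset.prod_range_succ]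
  ring

theorem even_part (q k : ℕ) : ∏ l ∈ Finset.range k, (q ^ (2 * (2 * l + 1 + 1)) - 1) =
    ∏ l ∈ Finset.range k, ((q ^ 2) ^ (2 * (l + 1)) - 1) :=
  Finset.prod_congr rfl fun l _ => by rw [← pow_mul]; ring_nf

/-- The odd part of an index left after cancelling. -/
theorem dvd_extra {r R q A B X Y : ℕ} (hr : r.Prime) (hr2 : r ≠ 2) (hrq : ¬ r ∣ q) (hR : r ∣ R) (hX : 0 < X)
    (h : R * (2 * B * X) ∣ 2 * q ^ A * (X * Y)) : r ∣ Y := by
  have h1 : r * X ∣ (2 * q ^ A * Y) * X :=
    (mul_dvd_mul hR (dvd_mul_left X (2 * B))).trans (h.trans (dvd_of_eq (by ring)))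
  have h2 := (Nat.mul_dvd_mul_iff_right hX).1 h1
  rcases hr.dvd_mul.1 h2 with h3 | h3
  · rcases hr.dvd_mul.1 h3 with h4 | h4
    · exact absurd ((Nat.prime_dvd_prime_iff_eq hr Nat.prime_two).1 h4) hr2
    · exact absurd (hr.dvd_of_dvd_pow h4) hrq
  · exact h3

theorem odd_exponent {r q m : ℕ} (hr : r.Prime) (h : r ∣ ∏ l ∈ Finset.range m, (q ^ (2 * (2 * l + 1)) - 1)) :
    ∃ j, Odd j ∧ j ≤ 2 * m - 1 ∧ r ∣ q ^ (2 * j) - 1 := by
  obtain ⟨l, hl, hd⟩ := hr.prime.exists_mem_finset_dvd h
  rw [Finset.mem_range] at hl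
  exact ⟨2 * l + 1, odd_two_mul_add_one l, by omega, hd⟩

end Arith

section Counter

variable {F : Type*} [Field F] [Fintype F] {ι : Type} [Fintype ι] [DecidableEq ι] {Q : QuadraticForm F (ι → F)}
variable {K : Subalgebra F (Matrix ι ι F)}

/-- A transfer from the matrix statement to isometries. -/
theorem exists_commuting_root (hQ : (polarBilin Q).Nondegenerate) (hn : 5 ≤ Fintype.card ι) (h2 : (2 : F) ≠ 0)
    (hKf : Cfsg.Geo.IsSelfAdjointFor (polar ⇑Q) K) {ν : F} {M : Matrix ι ι F} (hν : ¬ IsSquare ν) (hM : M ∈ K)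
    (hMM : M * M = ν • (1 : Matrix ι ι F)) (hspan : ∀ k ∈ K, ∃ a b : F, k = a • (1 : Matrix ι ι F) + b • M)
    {r : ℕ} (hr : Odd r)
    (H : ∀ x ∈ Cfsg.Geo.omegaGL ⇑Q, (∃ z : F, ((x ^ r : GL ι F) : Matrix ι ι F) = z • (1 : Matrix ι ι F)) →
      (∀ z : F, (x : Matrix ι ι F) ≠ z • (1 : Matrix ι ι F)) →
      ∃ g ∈ Cfsg.Geo.omegaGL ⇑Q, g⁻¹ * x * g ∈ Cfsg.Geo.subalgebraNormalizer K)
    {f : Module.End F (ι → F)} (hf : ∀ v, Q (f v) = Q v) (hfr : f ^ r = 1) (hf1 : f ≠ 1) :
    ∃ J : Module.End F (ι → F), (∀ v, J (J v) = ν • v) ∧ (∀ u v, polar Q (J u) v = polar Q u (J v)) ∧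
      ∀ v, f (J v) = J (f v) := by
  classical
  haveI : Nonempty ι := Fintype.card_pos_iff.1 (by omega)
  obtain ⟨x, hx, hxr, hxf⟩ := exists_omega_elem hQ hn hr hf hfr
  have htop : (⊤ : Submodule F (ι → F)) ⊓ polarPerp Q ⊤ = ⊥ :=
    nondeg_iff.1 fun u _ hu' => hQ.1 u fun v => hu' v trivial
  obtain ⟨v, -, hv⟩ := exists_aniso h2 htop (fun h => by
    have := congrArg (fun W : Submodule F (ι → F) => Module.finrank F W) h
    simp only [finrank_top, finrank_bot, Module.finrank_fintype_fun_eq_card] at this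
    omega)
  obtain ⟨g, hg, hy⟩ := H x hx ⟨1, by rw [hxr, one_smul]; rfl⟩ fun z hz => by
    refine hf1 ?_
    have hfz : f = z • 1 := by rw [← hxf, hz, map_smul, Matrix.toLin'_one, Module.End.one_eq_id]
    have hzz : z * z = 1 := by
      have h1 := hf v
      rw [hfz, LinearMap.smul_apply, Module.End.one_apply, map_smul'] at h1
      exact (mul_eq_right₀ hv).1 h1
    obtain ⟨c, rfl⟩ := hr
    rw [hfz, smul_pow, one_pow, pow_succ, pow_mul, pow_two, hzz, one_pow, one_mul] at hfr
    rw [hfz, hfr]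
  set y := g⁻¹ * x * g with hy'
  have hyr : y ^ r = 1 := by
    have h := conj_pow (a := g⁻¹) (b := x) (i := r)
    rw [inv_inv] at h
    rw [hy', h, hxr, mul_one, inv_mul_cancel]
  -- an element of odd order of the normaliser commutes with the generator
  have hcomm : (y : Matrix ι ι F) * M = M * (y : Matrix ι ι F) := by
    obtain ⟨a, b, hab⟩ := hspan _ ((hy M).1 hM)
    have hyM : (y : Matrix ι ι F) * M = a • (y : Matrix ι ι F) + b • (M * (y : Matrix ι ι F)) := by
      have h := congrArg (· * (y : Matrix ι ι F)) hab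
      simp only [mul_assoc, Units.inv_mul, mul_one, add_mul, Matrix.smul_mul, one_mul] at h
      exact h
    have hsq : (a * a + b * b * ν) • (1 : Matrix ι ι F) + (2 * a * b) • M = ν • (1 : Matrix ι ι F) := by
      have h : ((y : Matrix ι ι F) * M * ((y⁻¹ : GL ι F) : Matrix ι ι F)) *
          ((y : Matrix ι ι F) * M * ((y⁻¹ : GL ι F) : Matrix ι ι F)) = ν • (1 : Matrix ι ι F) := by
        rw [show (y : Matrix ι ι F) * M * ((y⁻¹ : GL ι F) : Matrix ι ι F) *
          ((y : Matrix ι ι F) * M * ((y⁻¹ : GL ι F) : Matrix ι ι F)) = (y : Matrix ι ι F) *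
          (M * (((y⁻¹ : GL ι F) : Matrix ι ι F) * (y : Matrix ι ι F)) * M) * ((y⁻¹ : GL ι F) : Matrix ι ι F) by
          simp only [mul_assoc]]
        rw [Units.inv_mul, mul_one, hMM, Matrix.mul_smul, mul_one, Matrix.smul_mul, Units.mul_inv]
      rw [hab] at h
      rw [← h]
      simp only [add_mul, mul_add, Matrix.smul_mul, Matrix.mul_smul, one_mul, mul_one, hMM, smul_smul]
      module
    have hnsc : ∀ s : F, M ≠ s • (1 : Matrix ι ι F) := fun s hs => by
      obtain ⟨j⟩ := ‹Nonempty ι›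
      have h := congrFun (congrFun hMM j) j
      rw [hs] at h
      simp at h
      exact hν ⟨s, h.symm⟩
    have hab0 : 2 * a * b = 0 := by
      by_contra hne
      refine hnsc ((ν - (a * a + b * b * ν)) / (2 * a * b)) ?_
      rw [div_eq_inv_mul, mul_smul, sub_smul, eq_inv_smul_iff₀ hne, eq_sub_iff_add_eq']
      exact hsq
    obtain ⟨j⟩ := ‹Nonempty ι›
    have hsum : a * a + b * b * ν = ν := by
      have h := congrFun (congrFun hsq j) j
      rw [hab0] at h
      simpa using h
    have ha : a = 0 := by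
      rcases mul_eq_zero.1 hab0 with h | h
      · exact (mul_eq_zero.1 h).resolve_left h2
      · exact absurd ⟨a, by rw [h] at hsum; linear_combination -hsum⟩ hν
    have hν0 : ν ≠ 0 := fun h => hν (h ▸ IsSquare.zero)
    have hb : b * b = 1 := mul_right_cancel₀ hν0 (by rw [ha] at hsum; linear_combination hsum)
    rw [ha, zero_smul, zero_add] at hyM
    rcases mul_self_eq_one_iff.1 hb with rfl | rfl
    · rw [hyM, one_smul]
    · exfalso
      have hpow : ∀ k, ((y ^ k : GL ι F) : Matrix ι ι F) * M = ((-1 : F) ^ k) • (M * ((y ^ k : GL ι F) : Matrix ι ι F)) := by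
        intro k
        induction k with
        | zero => simp
        | succ k ih =>
          rw [pow_succ, Units.val_mul, mul_assoc, hyM, Matrix.mul_smul, ← mul_assoc, ih, Matrix.smul_mul,
            smul_smul, pow_succ, mul_comm ((-1 : F) ^ k), mul_assoc]
      have h := hpow r
      rw [hyr, Units.val_one, one_mul, mul_one, hr.neg_one_pow, neg_one_smul] at h
      refine hnsc 0 ?_
      rw [zero_smul]
      have h' : (2 : F) • M = 0 := by rw [two_smul]; exact eq_neg_iff_add_eq_zero.1 h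
      exact (smul_eq_zero.1 h').resolve_left h2
  have hg' := omega_preserves hg
  refine ⟨Matrix.toLin' ((g : Matrix ι ι F) * M * ((g⁻¹ : GL ι F) : Matrix ι ι F)), fun v => ?_, fun u v => ?_,
    fun v => ?_⟩
  · rw [← LinearMap.comp_apply, ← Matrix.toLin'_mul,
      show (g : Matrix ι ι F) * M * ((g⁻¹ : GL ι F) : Matrix ι ι F) *
        ((g : Matrix ι ι F) * M * ((g⁻¹ : GL ι F) : Matrix ι ι F)) = (g : Matrix ι ι F) *
        (M * (((g⁻¹ : GL ι F) : Matrix ι ι F) * (g : Matrix ι ι F)) * M) * ((g⁻¹ : GL ι F) : Matrix ι ι F) by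
        simp only [mul_assoc],
      Units.inv_mul, mul_one, hMM, Matrix.mul_smul, mul_one, Matrix.smul_mul, Units.mul_inv, map_smul,
      Matrix.toLin'_one]
    rfl
  · have hgi : ∀ w, Matrix.toLin' (g : Matrix ι ι F) (Matrix.toLin' ((g⁻¹ : GL ι F) : Matrix ι ι F) w) = w :=
      fun w => by rw [← LinearMap.comp_apply, ← Matrix.toLin'_mul, Units.mul_inv, Matrix.toLin'_one]; rfl
    simp only [Matrix.toLin'_mul, LinearMap.comp_apply]
    conv_lhs => rw [← hgi v, iso_polar hg']
    conv_rhs => rw [← hgi u, iso_polar hg']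
    exact hKf M hM _ _
  · rw [← hxf, ← LinearMap.comp_apply, ← LinearMap.comp_apply, ← Matrix.toLin'_mul, ← Matrix.toLin'_mul]
    have hxy : x = g * y * g⁻¹ := by rw [hy']; group
    congr 2
    rw [hxy, Units.val_mul, Units.val_mul]
    simp only [mul_assoc, Units.inv_mul_cancel_left]
    congr 1
    rw [← mul_assoc, hcomm, mul_assoc]

/-- An element of order `p` commuting with no root. -/
theorem char_counter (hQ : (polarBilin Q).Nondegenerate) (h2 : (2 : F) ≠ 0) {p : ℕ} [Fact p.Prime] [CharP F p]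
    (hn : 5 ≤ Fintype.card ι) :
    ∃ f : Module.End F (ι → F), (∀ v, Q (f v) = Q v) ∧ f ^ p = 1 ∧ f ≠ 1 ∧
      ∀ (ν : F) (J : Module.End F (ι → F)), ¬ IsSquare ν → (∀ v, J (J v) = ν • v) → (∀ v, f (J v) = J (f v)) →
        False := by
  have hp3 : 3 ≤ p := (Fact.out : p.Prime).two_le.lt_of_ne fun h => by
    subst h
    exact h2 (by simpa using CharP.cast_eq_zero F 2)
  obtain ⟨f, hf, hr⟩ := exists_of_partition hQ h2 (M := 3 ::ₘ Multiset.replicate (Fintype.card ι - 3) 1)
    (fun x hx => by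
      rcases Multiset.mem_cons.1 hx with rfl | hx
      · norm_num
      · exact (Multiset.eq_of_mem_replicate hx).ge)
    (fun j hj _ => by
      rw [Nat.even_iff] at hj
      rw [Multiset.count_cons_of_ne (by omega), Multiset.count_replicate, if_neg (by omega)]
      exact Even.zero)
    (Multiset.mem_cons_self _ _) (by decide) (by simp; omega)
  have hk : (f - 1) ^ 3 = 0 := LinearMap.range_eq_bot.1 (Submodule.finrank_eq_zero.1 (by rw [hr]; simp))
  refine ⟨f, hf, pow_char_eq_one hp3 hk, ne_one_of_range (by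
    have h1 := hr 1
    rw [pow_one] at h1
    rw [h1]; simp), fun ν J hν hJ hfJ => ?_⟩
  have h2' := hr 2
  simp at h2'
  have he := even_finrank_stable hν hJ (W := LinearMap.range ((f - 1) ^ 2)) (by
    rintro _ ⟨v, rfl⟩
    refine ⟨J v, ?_⟩
    simp [pow_two, hfJ, map_sub])
  rw [h2'] at he
  exact Nat.not_even_one he

/-- An element of odd order `r ≠ p` with moved space of dimension twice an odd number. -/
theorem odd_counter (hQ : (polarBilin Q).Nondegenerate) {r n : ℕ} [Fact r.Prime] (hr : (r : F) ≠ 0) (hr2 : r ≠ 2)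
    (hn : Module.finrank F (ι → F) = 2 * n)
    (h : (∃ j, Odd j ∧ j < n ∧ r ∣ Fintype.card F ^ (2 * j) - 1) ∨
      (Odd n ∧ ((sgn Q ⊤ = 1 ∧ r ∣ Fintype.card F ^ n - 1) ∨ (sgn Q ⊤ = -1 ∧ r ∣ Fintype.card F ^ n + 1)))) :
    ∃ f : Module.End F (ι → F), (∀ v, Q (f v) = Q v) ∧ f ^ r = 1 ∧ f ≠ 1 ∧
      Module.finrank F (movSp f) % 4 = 2 := by
  classical
  set i := orderOf ((Fintype.card F : ℕ) : ZMod r) with hi
  have hi0 : 0 < i := orderOf_card_pos (F := F) hr
  have hdvd : ∀ {e : ℕ}, r ∣ Fintype.card F ^ e - 1 → i ∣ e := fun {e} he =>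
    CfsgLib.PrimeOrderSp.dvd_pow_sub_one_iff Fintype.card_pos |>.1 he
  -- the half dimension of the moved space
  obtain ⟨e, he, hei, hlt⟩ : ∃ e, Odd e ∧ unit i * i = 2 * e ∧
      (e < n ∨ (e = n ∧ sgn Q ⊤ = (-1) ^ unit i)) := by
    rcases Nat.even_or_odd i with hev | hiodd
    · obtain ⟨e, he⟩ := hev
      refine ⟨e, ?_, by rw [unit_even ⟨e, he⟩, he]; ring, ?_⟩
      · rcases h with ⟨j, hj, -, hd⟩ | ⟨hn', h1 | h1⟩
        · exact Odd.of_dvd_nat hj ((Nat.mul_dvd_mul_iff_left two_pos).1 (two_mul e ▸ he ▸ hdvd hd))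
        · have := (hdvd h1.2)
          exact Odd.of_dvd_nat hn' ((dvd_mul_left e 2).trans (two_mul e ▸ he ▸ this))
        · have h2n : r ∣ Fintype.card F ^ (2 * n) - 1 := by
            rw [two_mul, pow_add, ← one_mul 1, Nat.mul_self_sub_mul_self_eq]
            exact Dvd.dvd.mul_right (by simpa using h1.2) _
          exact Odd.of_dvd_nat hn' ((Nat.mul_dvd_mul_iff_left two_pos).1 (two_mul e ▸ he ▸ hdvd h2n))
      · rcases h with ⟨j, hj, hjn, hd⟩ | ⟨hn', h1 | h1⟩
        · have := Nat.le_of_dvd hj.pos ((Nat.mul_dvd_mul_iff_left two_pos).1 (two_mul e ▸ he ▸ hdvd hd))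
          left; omega
        · have := Nat.le_of_dvd hn'.pos (hdvd h1.2)
          left; omega
        · have h2n : r ∣ Fintype.card F ^ (2 * n) - 1 := by
            rw [two_mul, pow_add, ← one_mul 1, Nat.mul_self_sub_mul_self_eq]
            exact Dvd.dvd.mul_right (by simpa using h1.2) _
          have := Nat.le_of_dvd hn'.pos ((Nat.mul_dvd_mul_iff_left two_pos).1 (two_mul e ▸ he ▸ hdvd h2n))
          rcases lt_or_eq_of_le this with h' | h'
          · exact Or.inl h'
          · exact Or.inr ⟨h', by rw [h1.1, unit_even ⟨e, he⟩, pow_one]⟩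
    · refine ⟨i, hiodd, by rw [unit_odd hiodd], ?_⟩
      rcases h with ⟨j, hj, hjn, hd⟩ | ⟨hn', h1 | h1⟩
      · have := Nat.le_of_dvd hj.pos ((Nat.coprime_two_right.2 hiodd).dvd_of_dvd_mul_left (hdvd hd))
        left; omega
      · rcases lt_or_eq_of_le (Nat.le_of_dvd hn'.pos (hdvd h1.2)) with h' | h'
        · exact Or.inl h'
        · exact Or.inr ⟨h', by rw [h1.1, unit_odd hiodd]; norm_num⟩
      · exfalso
        have h2n : r ∣ Fintype.card F ^ (2 * n) - 1 := by
          rw [two_mul, pow_add, ← one_mul 1, Nat.mul_self_sub_mul_self_eq]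
          exact Dvd.dvd.mul_right (by simpa using h1.2) _
        have hin := (Nat.coprime_two_right.2 hiodd).dvd_of_dvd_mul_left (hdvd h2n)
        have hsub : r ∣ Fintype.card F ^ n - 1 :=
          (CfsgLib.PrimeOrderSp.dvd_pow_sub_one_iff Fintype.card_pos).2 hin
        have hpos : 1 ≤ Fintype.card F ^ n := Nat.one_le_pow _ _ Fintype.card_pos
        have h22 : r ∣ 2 := by
          have := Nat.dvd_sub h1.2 hsub
          rwa [show Fintype.card F ^ n + 1 - (Fintype.card F ^ n - 1) = 2 by omega] at this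
        exact hr2 ((Nat.prime_dvd_prime_iff_eq (Fact.out : r.Prime) Nat.prime_two).1 h22)
  have htop : (⊤ : Submodule F (ι → F)) ⊓ polarPerp Q ⊤ = ⊥ :=
    nondeg_iff.1 fun u _ hu' => hQ.1 u fun v => hu' v trivial
  obtain ⟨D, -, hD, hDd, hDs⟩ := exists_nd_dim htop (k := e) (s := (-1 : ℤ) ^ unit i)
    (neg_one_pow_eq_or ℤ _) (fun h0 => by obtain ⟨k, rfl⟩ := he; omega) (by
      rw [finrank_top, hn]
      rcases hlt with h' | ⟨h', hs⟩
      · exact Or.inl (by omega)
      · exact Or.inr ⟨by omega, hs.symm⟩)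
  obtain ⟨f, hf, hfr, hf1, hmov, -⟩ := exists_isom hQ hr hr2 hi.symm one_pos hD (by rw [one_mul, hDd, hei])
    (by rw [one_mul, hDs])
  refine ⟨f, hf, hfr, hf1, ?_⟩
  rw [hmov, hDd]
  obtain ⟨k, rfl⟩ := he
  omega

end Counter

end CfsgLib.OrthPrime.FieldExt
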