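import Cfsg.Agent.Lib.OrthPrime.Matrix
import Cfsg.Agent.Lib.OrthPrime.Std
import Cfsg.Agent.Lib.Geometry.NegIsometry
import Cfsg.Agent.Lib.Geometry.POmegaStd

/-! Involutions of the orthogonal groups in odd characteristic. -/

set_option autoImplicit false

namespace CfsgLib.OrthPrime

open QuadraticMap CfsgLib.Geometry CfsgLib.OrthMax CfsgLib.PrimeOrderSp

/-- The type of a `2 k`-dimensional space of square discriminant. -/
def dSgn (q k : ℕ) : ℤ := if q % 4 = 1 ∨ Even k then 1 else -1

theorem dSgn_cases (q k : ℕ) : dSgn q k = 1 ∨ dSgn q k = -1 := by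
  unfold dSgn; split_ifs <;> simp

universe u

variable {F : Type u} [Field F] [Fintype F] {V : Type u} [AddCommGroup V] [Module F V] [FiniteDimensional F V]
variable {Q : QuadraticForm F V}

/-- The discriminant of an even-dimensional space determines its type. -/
theorem plus_iff_disc (h2 : (2 : F) ≠ 0) (hQ : (polarBilin Q).Nondegenerate) {k : ℕ}
    (hd : Module.finrank F V = 2 * k) {ι : Type*} [Fintype ι] [DecidableEq ι] (b : Module.Basis ι F V) :
    Plus Q ⊤ ↔ IsSquare ((-1 : F) ^ k * (Matrix.of fun i j => polar Q (b i) (b j)).det) := by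
  classical
  have hsq : ((-1 : F) ^ k) * (-1) ^ k = 1 := by rw [← mul_pow, neg_one_mul, neg_neg, one_pow]
  have hplus : ∀ (E : (Fin k ⊕ Fin k → F) ≃ₗ[F] (Fin k ⊕ Fin k → F)),
      ∀ i j, polar (matQuad (plusMat k F)) (Pi.single i 1) (Pi.single j 1) = (plusMat k F + (plusMat k F).transpose) i j := by
    intro _ i j
    rw [polar_matQuad]
    simp [Matrix.mulVec_single, dotProduct, Pi.single_apply]
  have hg0 : (Matrix.of fun i j => polar (matQuad (plusMat k F)) (Pi.basisFun F _ i) (Pi.basisFun F _ j)).det =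
      (-1 : F) ^ k := by
    rw [← det_plus_gram (F := F) k]
    congr 1
    ext i j
    simp only [Matrix.of_apply, Pi.basisFun_apply]
    exact hplus (LinearEquiv.refl F _) i j
  constructor
  · intro hp
    obtain ⟨E, hE⟩ := exists_plus_coords hQ hd hp
    let c := (Pi.basisFun F (Fin k ⊕ Fin k)).map E
    have hdet : (Matrix.of fun i j => polar Q (c i) (c j)).det = (-1 : F) ^ k := by
      rw [← hg0]
      congr 1
      ext i j
      simp only [Matrix.of_apply, c, Module.Basis.map_apply, polar, ← map_add, hE,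
        ← coe_matQuad_plus]
    obtain ⟨t, ht, he⟩ := det_polar_change Q c b
    rw [he, hdet, mul_left_comm, hsq, mul_one]
    exact ⟨t, rfl⟩
  · intro h
    obtain ⟨g, hg⟩ := exists_isometry_of_disc h2 (matQuad (plusMat k F)) hQ (nondegenerate_plus k)
      (by simp [hd]; omega) b
      (Pi.basisFun F _) (by rw [hg0, mul_comm]; exact h)
    obtain ⟨U, -, hU, hUd⟩ := plus_iff_sgn.2 (sgn_plusForm (F := F) k)
    refine ⟨U.map g.symm.toLinearMap, le_top, ?_, ?_⟩
    · rintro _ ⟨x, hx, rfl⟩
      have := hg (g.symm x)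
      rw [g.apply_symm_apply] at this
      exact this.symm.trans (hU x hx)
    · rw [LinearEquiv.finrank_map_eq, hUd, finrank_top, finrank_top, Module.finrank_fintype_fun_eq_card,
        Fintype.card_sum, Fintype.card_fin, hd]
      omega

theorem isSquare_disc_iff (h2 : (2 : F) ≠ 0) {D : Submodule F V} (hD : D ⊓ polarPerp Q D = ⊥) {k : ℕ}
    (hd : Module.finrank F D = 2 * k) {ι : Type*} [Fintype ι] [DecidableEq ι] (b : Module.Basis ι F D) :
    IsSquare (Matrix.of fun i j => polar Q (b i : V) (b j : V)).det ↔ sgn Q D = dSgn (Fintype.card F) k := by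
  have hodd : Fintype.card F % 2 = 1 := FiniteField.odd_card_of_char_ne_two fun h => h2 (by
    haveI := ringChar.of_eq h
    exact CharTwo.two_eq_zero)
  have hneg : IsSquare ((-1 : F) ^ k) ↔ (Fintype.card F % 4 = 1 ∨ Even k) := by
    rcases Nat.even_or_odd k with hk | hk
    · simp [hk.neg_one_pow, hk]
    · rw [hk.neg_one_pow, FiniteField.isSquare_neg_one_iff]
      simp only [Nat.not_even_iff_odd.2 hk, or_false]
      omega
  have hp := plus_iff_disc h2 (nondeg_comp hD) hd b
  rw [plus_comp] at hp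
  simp only [polar_comp] at hp
  set d := (Matrix.of fun i j => polar Q (b i : V) (b j : V)).det
  have hs0 : ((-1 : F) ^ k) ≠ 0 := pow_ne_zero _ (neg_ne_zero.2 one_ne_zero)
  unfold dSgn
  split_ifs with hc
  · rw [← plus_iff_sgn, hp]
    refine ⟨fun h => (hneg.2 hc).mul h, fun h => ?_⟩
    have := h.div (hneg.2 hc)
    rwa [mul_div_cancel_left₀ _ hs0] at this
  · have hns : ¬ IsSquare ((-1 : F) ^ k) := fun h => hc (hneg.1 h)
    rw [show sgn Q D = -1 ↔ ¬ Plus Q D from ⟨fun h hp' => by rw [sgn_plus hp'] at h; norm_num at h, sgn_minus⟩, hp]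
    refine ⟨fun h h' => hns ?_, fun h => ?_⟩
    · by_cases hd0 : d = 0
      · have := (nondeg_comp hD)
        exact absurd hd0 (by
          have h1 := (LinearMap.BilinForm.nondegenerate_iff_det_ne_zero b).1 this
          have e : d = (LinearMap.BilinForm.toMatrix b (polarBilin (Q.comp D.subtype))).det := by
            simp only [d]
            congr 1
            ext i j
            rw [LinearMap.BilinForm.toMatrix_apply, polarBilin_apply_apply, polar_comp, Matrix.of_apply]
          rwa [e])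
      have := h'.div h
      rwa [mul_div_cancel_right₀ _ hd0] at this
    · by_contra hd'
      exact h (isSquare_mul_of_not hns hd')

variable {ι : Type} [Fintype ι] [DecidableEq ι] {R : QuadraticForm F (ι → F)}

/-- An involutory isometry is in `Ω` exactly when its negated space has square discriminant. -/
theorem invol_mem_omega_iff (hR : (polarBilin R).Nondegenerate) (h2 : (2 : F) ≠ 0)
    {f : Module.End F (ι → F)} (hf : ∀ v, R (f v) = R v) (hff : f ^ 2 = 1) :
    (∃ x ∈ Cfsg.Geo.omegaGL ⇑R, Matrix.toLin' ((x : GL ι F) : Matrix ι ι F) = f) ↔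
      ∃ k, Module.finrank F (movSp f) = 2 * k ∧ sgn R (movSp f) = dSgn (Fintype.card F) k := by
  have h2' : ((2 : ℕ) : F) ≠ 0 := by exact_mod_cast h2
  have hG := reflGroup_eq_orth_of_two_ne hR h2
  have hiso := polar_iso (Q := R) hf
  set D := movSp f
  have hD : D ⊓ polarPerp R D = ⊥ := nondeg_iff.1 (nondeg_movSp h2' hff (isHerm_polar hR) hiso)
  let b := Module.finBasis F D
  set d := Module.finrank F D
  have hdet : (Matrix.of fun i j => polar R (b i : ι → F) (b j : ι → F)).det ≠ 0 := by
    have h1 := (LinearMap.BilinForm.nondegenerate_iff_det_ne_zero b).1 (nondeg_comp hD)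
    intro h0
    refine h1 ?_
    rw [← h0]
    congr 1
    ext i j
    rw [LinearMap.BilinForm.toMatrix_apply, polarBilin_apply_apply, polar_comp, Matrix.of_apply]
  obtain ⟨g, hneg, hfix, -, hinv⟩ := exists_neg_isometry hR hG h2 (fun i => (b i : ι → F)) hdet
  have hspan : Submodule.span F (Set.range fun i => (b i : ι → F)) = D := by
    rw [show (fun i => (b i : ι → F)) = D.subtype ∘ b from rfl, Set.range_comp, ← Submodule.map_span, b.span_eq,
      Submodule.map_top, Submodule.range_subtype]
  have hgf : ((g : (ι → F) ≃ₗ[F] (ι → F)) : (ι → F) →ₗ[F] (ι → F)) = f := by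
    refine LinearMap.ext fun z => ?_
    obtain ⟨a, ha, c, hc, rfl⟩ := Submodule.mem_sup.1
      ((isCompl_fix_mov h2' hff).sup_eq_top.symm ▸ (Submodule.mem_top : z ∈ (⊤ : Submodule F (ι → F))))
    have hff' : ∀ w, f (f w) = w := fun w => by
      rw [← Module.End.mul_apply, ← pow_two, hff, Module.End.one_apply]
    have hc' : f c = -c := by
      obtain ⟨w, rfl⟩ := hc
      simp [hff']
    rw [LinearEquiv.coe_coe, map_add, map_add, mem_fixSp.1 ha, hc', hneg c (hspan.symm ▸ hc),
      hfix a fun i => (polar_comm (⇑R) _ _).trans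
        (orth_fix_mov (isHerm_polar hR) hiso a ha _ (b i).2).1]
  have hmem : (∃ x ∈ Cfsg.Geo.omegaGL ⇑R, Matrix.toLin' ((x : GL ι F) : Matrix ι ι F) = f) ↔
      g ∈ commutator (orth R) := by
    constructor
    · rintro ⟨x, hx, hxf⟩
      rw [omegaGL_eq_map] at hx
      obtain ⟨y, hy, rfl⟩ := hx
      rw [toLin'_orthToGL, ← hgf] at hxf
      rwa [show g = y from Subtype.ext (LinearEquiv.toLinearMap_injective hxf).symm]
    · intro hg
      exact ⟨orthToGL R g, by rw [omegaGL_eq_map]; exact Subgroup.mem_map_of_mem _ hg,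
        (toLin'_orthToGL g).trans hgf⟩
  rw [hmem, mem_commutator_orth_iff hR hG, hinv, Prod.mk_eq_one, sqMk_eq_one_iff, ofAdd_eq_one,
    ZMod.natCast_eq_zero_iff_even]
  constructor
  · rintro ⟨hsq, k, hk⟩
    refine ⟨k, by omega, (isSquare_disc_iff h2 hD (k := k) (show Module.finrank F D = 2 * k by omega) b).1 ?_⟩
    rw [show (2 : F) ^ d = 2 ^ k * 2 ^ k by rw [hk, pow_add]] at hsq
    exact (isSquare_mul_sq_iff (pow_ne_zero k h2)).1 hsq
  · rintro ⟨k, hk, hs⟩
    have hk' : d = k + k := by omega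
    refine ⟨?_, k, hk'⟩
    rw [show (2 : F) ^ d = 2 ^ k * 2 ^ k by rw [hk', pow_add]]
    exact (isSquare_mul_sq_iff (pow_ne_zero k h2)).2 ((isSquare_disc_iff h2 hD hk b).2 hs)

/-- The isometry negating a non-degenerate subspace. -/
theorem exists_neg_end (hR : (polarBilin R).Nondegenerate) (h2 : (2 : F) ≠ 0) {D : Submodule F (ι → F)}
    (hD : D ⊓ polarPerp R D = ⊥) :
    ∃ f : Module.End F (ι → F), (∀ v, R (f v) = R v) ∧ f ^ 2 = 1 ∧ movSp f = D := by
  set C := polarPerp R D
  have hc : IsCompl D C := by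
    refine ⟨disjoint_iff.2 hD, codisjoint_iff.2 (Submodule.eq_top_of_finrank_eq ?_)⟩
    have h1 := Submodule.finrank_sup_add_finrank_inf_eq D C
    have h2 : Module.finrank F C + Module.finrank F D = Module.finrank F (ι → F) := finrank_polarPerp hR D
    rw [hD, finrank_bot] at h1
    omega
  let P := Submodule.prodEquivOfIsCompl D C hc
  let f : Module.End F (ι → F) := P.toLinearMap ∘ₗ (LinearMap.prodMap (-LinearMap.id) LinearMap.id) ∘ₗ
    P.symm.toLinearMap
  have hf : ∀ (a : D) (b : C), f ((a : ι → F) + b) = -(a : ι → F) + b := fun a b => by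
    have hP : P (a, b) = (a : ι → F) + b := by simp [P]
    have hP' : P.symm ((a : ι → F) + b) = (a, b) := (LinearEquiv.symm_apply_eq _).2 hP.symm
    simp only [f, LinearMap.comp_apply, LinearEquiv.coe_coe, hP', LinearMap.prodMap_apply]
    simp [P]
  have hdec : ∀ v : ι → F, ∃ (a : D) (b : C), (a : ι → F) + b = v := fun v =>
    ⟨(P.symm v).1, (P.symm v).2, by have := P.apply_symm_apply v; simpa [P] using this⟩
  refine ⟨f, fun v => ?_, LinearMap.ext fun v => ?_, le_antisymm ?_ fun v hv => ?_⟩
  · obtain ⟨a, b, rfl⟩ := hdec v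
    have hb : polar R (a : ι → F) (b : ι → F) = 0 := mem_polarPerp.1 b.2 a a.2
    rw [hf, CfsgLib.Geometry.map_add', CfsgLib.Geometry.map_add', hb, polar_neg_left, hb, QuadraticMap.map_neg,
      neg_zero]
  · obtain ⟨a, b, rfl⟩ := hdec v
    rw [pow_two, Module.End.mul_apply, hf, ← Submodule.coe_neg, hf, Submodule.coe_neg, neg_neg, Module.End.one_apply]
  · rintro _ ⟨v, rfl⟩
    obtain ⟨a, b, rfl⟩ := hdec v
    rw [LinearMap.sub_apply, Module.End.one_apply, hf]
    rw [show -(a : ι → F) + b - (a + b) = -(a : ι → F) - a by abel]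
    exact D.sub_mem (D.neg_mem a.2) a.2
  · refine ⟨-((2 : F)⁻¹ • v), ?_⟩
    have e := hf ⟨-((2 : F)⁻¹ • v), D.neg_mem (D.smul_mem _ hv)⟩ 0
    simp only [ZeroMemClass.coe_zero, add_zero, neg_neg] at e
    rw [LinearMap.sub_apply, Module.End.one_apply, e, sub_neg_eq_add, ← two_smul F ((2 : F)⁻¹ • v), smul_smul,
      mul_inv_cancel₀ h2, one_smul]

end CfsgLib.OrthPrime
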