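import Cfsg.Agent.Lib.OrthPrime.Sign
import Cfsg.Agent.Lib.Geometry.FormTypes
import Cfsg.Agent.Lib.Geometry.POmegaStd
import Cfsg.Agent.Lib.Geometry.HypBasis

/-! Even-dimensional spaces are determined by dimension and type; subspaces of prescribed type. -/

set_option autoImplicit false

namespace CfsgLib.OrthPrime

open QuadraticMap CfsgLib.Geometry CfsgLib.OrthMax

universe u v w

variable {F : Type u} [Field F] {V : Type v} [AddCommGroup V] [Module F V]
variable {W : Type w} [AddCommGroup W] [Module F W]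

theorem preserves_of_basis {ι : Type*} (Q : QuadraticForm F V) (Q' : QuadraticForm F W) (b : Module.Basis ι F V)
    (g : V →ₗ[F] W) (h1 : ∀ i, Q' (g (b i)) = Q (b i))
    (h2 : ∀ i j, polar Q' (g (b i)) (g (b j)) = polar Q (b i) (b j)) (v : V) : Q' (g v) = Q v := by
  have hp : ∀ x y, polar Q' (g x) (g y) = polar Q x y := by
    have e : LinearMap.compl₁₂ (polarBilin Q') g g = polarBilin Q :=
      LinearMap.BilinForm.ext_basis b fun i j => by simp [h2]
    exact fun x y => LinearMap.congr_fun₂ e x y
  induction (show v ∈ Submodule.span F (Set.range b) from b.span_eq ▸ Submodule.mem_top) using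
    Submodule.span_induction with
  | mem x hx => obtain ⟨i, rfl⟩ := hx; exact h1 i
  | zero => simp
  | add x y _ _ hx hy =>
    rw [map_add, CfsgLib.Geometry.map_add', CfsgLib.Geometry.map_add', hx, hy, hp]
  | smul c x _ hx =>
    rw [map_smul, CfsgLib.Geometry.map_smul', CfsgLib.Geometry.map_smul', hx]

theorem polar_comp (Q : QuadraticForm F V) (D : Submodule F V) (x y : D) :
    polar (Q.comp D.subtype) x y = polar Q (x : V) (y : V) := by
  simp [QuadraticMap.polar]

theorem plus_comp (Q : QuadraticForm F V) (D : Submodule F V) :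
    Plus (Q.comp D.subtype) ⊤ ↔ Plus Q D := by
  constructor
  · rintro ⟨U, -, hU, hd⟩
    refine ⟨U.map D.subtype, Submodule.map_subtype_le D U, ?_, ?_⟩
    · rintro _ ⟨x, hx, rfl⟩; exact hU x hx
    · rw [← (Submodule.equivMapOfInjective _ D.subtype_injective U).finrank_eq, hd, finrank_top]
  · rintro ⟨U, hUD, hU, hd⟩
    refine ⟨U.comap D.subtype, le_top, fun x hx => hU _ hx, ?_⟩
    rw [(Submodule.comapSubtypeEquivOfLe hUD).finrank_eq, hd, finrank_top]

theorem sgn_comp (Q : QuadraticForm F V) (D : Submodule F V) : sgn (Q.comp D.subtype) ⊤ = sgn Q D := by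
  by_cases h : Plus Q D
  · rw [sgn_plus h, sgn_plus ((plus_comp Q D).2 h)]
  · rw [sgn_minus h, sgn_minus fun h' => h ((plus_comp Q D).1 h')]

theorem plus_of_isometry {Q : QuadraticForm F V} {Q' : QuadraticForm F W} (e : V ≃ₗ[F] W)
    (he : ∀ v, Q' (e v) = Q v) {D : Submodule F V} (h : Plus Q D) : Plus Q' (D.map e.toLinearMap) := by
  obtain ⟨U, hUD, hU, hd⟩ := h
  refine ⟨U.map e.toLinearMap, Submodule.map_mono hUD, ?_, ?_⟩
  · rintro _ ⟨x, hx, rfl⟩; exact (he x).trans (hU x hx)
  · rw [LinearEquiv.finrank_map_eq, LinearEquiv.finrank_map_eq, hd]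

theorem sgn_map_isometry {Q : QuadraticForm F V} {Q' : QuadraticForm F W} (e : V ≃ₗ[F] W)
    (he : ∀ v, Q' (e v) = Q v) (D : Submodule F V) : sgn Q' (D.map e.toLinearMap) = sgn Q D := by
  by_cases h : Plus Q D
  · rw [sgn_plus h, sgn_plus (plus_of_isometry e he h)]
  · rw [sgn_minus h, sgn_minus fun h' => h ?_]
    have h2 := plus_of_isometry e.symm (fun v => by rw [← he, e.apply_symm_apply]) h'
    rwa [← Submodule.map_comp, show e.symm.toLinearMap ∘ₗ e.toLinearMap =
      LinearMap.id from LinearMap.ext e.symm_apply_apply, Submodule.map_id] at h2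

variable [Finite F]

/-- A minus space is hyperbolic pairs and an anisotropic plane representing one. -/
theorem exists_minus_frame [FiniteDimensional F V] {Q : QuadraticForm F V} (hQ : (polarBilin Q).Nondegenerate)
    {m : ℕ} (hd : Module.finrank F V = 2 * m + 2) (hm : ¬ Plus Q ⊤) :
    ∃ (e f : Fin m → V) (g : Fin 2 → V), LinearIndependent F g ∧
      (∀ i, Q (e i) = 0 ∧ Q (f i) = 0) ∧
      (∀ i j, polar Q (e i) (f j) = if i = j then 1 else 0) ∧
      (∀ i j, polar Q (e i) (e j) = 0 ∧ polar Q (f i) (f j) = 0) ∧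
      (∀ i l, polar Q (e i) (g l) = 0 ∧ polar Q (f i) (g l) = 0) ∧ Q (g 0) = 1 ∧
      (∀ x y : F, x ^ 2 + polar Q (g 0) (g 1) * x * y + Q (g 1) * y ^ 2 = 0 → x = 0 ∧ y = 0) := by
  classical
  obtain ⟨e, f, g, hg, hq, hef, hee, hgp⟩ := exists_pairs 2 (by norm_num) m Q hQ hd
  set P := Submodule.span F (Set.range g)
  have hPdim : Module.finrank F P = 2 := by rw [finrank_span_eq_card hg, Fintype.card_fin]
  have hperp : ∀ z ∈ P, ∀ i, polar Q (e i) z = 0 ∧ polar Q (f i) z = 0 := fun z hz i =>
    ⟨(Submodule.span_le (p := LinearMap.ker (polarBilin Q (e i)))).2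
        (by rintro _ ⟨l, rfl⟩; exact (hgp i l).1) hz,
      (Submodule.span_le (p := LinearMap.ker (polarBilin Q (f i)))).2
        (by rintro _ ⟨l, rfl⟩; exact (hgp i l).2) hz⟩
  have hani : ∀ z ∈ P, Q z = 0 → z = 0 := by
    intro z hz hz0
    by_contra hne
    refine hm ⟨Submodule.span F (Set.range e) ⊔ Submodule.span F {z}, le_top, fun u hu => ?_, ?_⟩
    · obtain ⟨x, hx, y, hy, rfl⟩ := Submodule.mem_sup.1 hu
      obtain ⟨c, rfl⟩ := Submodule.mem_span_singleton.1 hy
      obtain ⟨a, rfl⟩ := (Submodule.mem_span_range_iff_exists_fun F).1 hx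
      rw [CfsgLib.Geometry.map_add', singular_sum Q a e (fun i => (hq i).1) (fun i j => (hee i j).1),
        CfsgLib.Geometry.map_smul', hz0, ← polarBilin_apply_apply]
      simp [map_sum, (hperp z hz _).1]
    · have hdis : Disjoint (Submodule.span F (Set.range e)) (Submodule.span F {z}) := by
        refine (Submodule.disjoint_span_singleton' hne).2 fun hze => hne ?_
        obtain ⟨a, ha⟩ := (Submodule.mem_span_range_iff_exists_fun F).1 hze
        have hza : ∀ i, a i = 0 := fun i => by
          have h1 : polar Q (f i) z = 0 := (hperp z hz i).2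
          rw [← ha, ← polarBilin_apply_apply] at h1
          simpa [map_sum, polar_comm Q (f i), hef] using h1
        simpa [hza] using ha.symm
      have hle : LinearIndependent F e :=
        (linearIndependent_pairs hg hef hee hgp).comp (Sum.inl ∘ Sum.inl)
          (Sum.inl_injective.comp Sum.inl_injective)
      have h1 := Submodule.finrank_sup_add_finrank_inf_eq (Submodule.span F (Set.range e)) (Submodule.span F {z})
      rw [hdis.eq_bot, finrank_bot, finrank_span_eq_card hle, finrank_span_singleton hne, Fintype.card_fin] at h1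
      rw [finrank_top, hd]
      omega
  have hPnd : P ⊓ polarPerp Q P = ⊥ := by
    rw [eq_bot_iff]
    rintro x ⟨hx, hx'⟩
    have hli := linearIndependent_pairs hg hef hee hgp
    have hspan := hli.span_eq_top_of_card_eq_finrank'
      (by rw [Fintype.card_sum, Fintype.card_sum, Fintype.card_fin, Fintype.card_fin, hd]; omega)
    refine (Submodule.mem_bot F).2 (hQ.1 x fun y => ?_)
    induction (hspan ▸ Submodule.mem_top : y ∈ Submodule.span F (Set.range (Sum.elim (Sum.elim e f) g)))
      using Submodule.span_induction with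
    | mem z hz =>
      obtain ⟨(i | i) | l, rfl⟩ := hz
      · exact (polar_comm (⇑Q) x (e i)).trans (hperp x hx i).1
      · exact (polar_comm (⇑Q) x (f i)).trans (hperp x hx i).2
      · exact (polar_comm (⇑Q) x (g l)).trans (mem_polarPerp.1 hx' _ (Submodule.subset_span ⟨l, rfl⟩))
    | zero => simp
    | add z w _ _ h1 h2 => rw [map_add, h1, h2, add_zero]
    | smul c z _ h1 => rw [map_smul, h1, smul_zero]
  obtain ⟨⟨v, hv⟩, hv1⟩ := exists_represents (nondeg_comp hPnd) (by omega) (1 : F)
  have hv1' : Q v = 1 := hv1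
  have hv0 : v ≠ 0 := fun h => by simp [h] at hv1'
  obtain ⟨w, hw, hwv⟩ : ∃ w ∈ P, w ∉ Submodule.span F {v} := by
    by_contra hc
    push Not at hc
    have := Submodule.finrank_mono (show P ≤ Submodule.span F {v} from hc)
    rw [hPdim, finrank_span_singleton hv0] at this
    omega
  have hli : LinearIndependent F ![v, w] := LinearIndependent.pair_iff.2 fun s t hst => by
    by_cases ht : t = 0
    · subst ht; simp [hv0] at hst; exact ⟨hst, rfl⟩
    · refine absurd (Submodule.mem_span_singleton.2 ⟨-(s / t), ?_⟩) hwv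
      have : w = t⁻¹ • (t • w) := by rw [smul_smul, inv_mul_cancel₀ ht, one_smul]
      rw [this, eq_neg_of_add_eq_zero_right hst, smul_neg, smul_smul, neg_smul, div_eq_inv_mul]
  refine ⟨e, f, ![v, w], hli, hq, hef, hee, fun i l => ?_, hv1', fun x y hxy => ?_⟩
  · fin_cases l
    · exact hperp v hv i
    · exact hperp w hw i
  · have h0 : x • v + y • w = 0 := by
      refine hani _ (P.add_mem (P.smul_mem _ hv) (P.smul_mem _ hw)) ?_
      rw [CfsgLib.Geometry.map_add', CfsgLib.Geometry.map_smul', CfsgLib.Geometry.map_smul', hv1',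
        polar_smul_left', polar_smul_right']
      simp only [Matrix.cons_val_zero, Matrix.cons_val_one] at hxy
      linear_combination hxy
    exact LinearIndependent.pair_iff.1 hli x y h0

/-- Coordinates of a plus space. -/
theorem exists_plus_coords [FiniteDimensional F V] {R : QuadraticForm F V} (hR : (polarBilin R).Nondegenerate)
    {k : ℕ} (hd : Module.finrank F V = 2 * k) (hp : Plus R ⊤) :
    ∃ E : (Fin k ⊕ Fin k → F) ≃ₗ[F] V, ∀ z, R (E z) = Cfsg.quadFormPlus k F z := by
  obtain ⟨U, -, hU, hUd⟩ := hp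
  rw [finrank_top, hd] at hUd
  let b := Module.finBasisOfFinrankEq F U (show Module.finrank F U = k by omega)
  obtain ⟨E, hE, -⟩ := exists_hyperbolic_basis R hR hd (fun i => (b i : V))
    (b.linearIndependent.map' U.subtype U.ker_subtype) (fun i => hU _ (b i).2)
    fun i j => polar_eq_zero_of_singular hU (b i).2 (b j).2
  exact ⟨E, hE⟩

/-- Even-dimensional non-degenerate spaces are classified by their type. -/
theorem exists_isometry [FiniteDimensional F V] [FiniteDimensional F W] {Q : QuadraticForm F V}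
    {Q' : QuadraticForm F W} (hQ : (polarBilin Q).Nondegenerate) (hQ' : (polarBilin Q').Nondegenerate) {k : ℕ}
    (hd : Module.finrank F V = 2 * k) (hd' : Module.finrank F W = 2 * k) (hs : sgn Q ⊤ = sgn Q' ⊤) :
    ∃ e : V ≃ₗ[F] W, ∀ v, Q' (e v) = Q v := by
  classical
  by_cases hp : Plus Q ⊤
  · have hp' : Plus Q' ⊤ := plus_iff_sgn.2 (hs ▸ sgn_plus hp)
    obtain ⟨E, hE⟩ := exists_plus_coords hQ hd hp
    obtain ⟨E', hE'⟩ := exists_plus_coords hQ' hd' hp'
    exact ⟨E.symm.trans E', fun v => by rw [LinearEquiv.trans_apply, hE', ← hE, E.apply_symm_apply]⟩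
  have hp' : ¬ Plus Q' ⊤ := fun h => hp (plus_iff_sgn.2 (hs.trans (sgn_plus h)))
  rcases k with _ | m
  · exact absurd (by
      rw [show (⊤ : Submodule F V) = ⊥ from Submodule.finrank_eq_zero.1 (by rw [finrank_top, hd])]
      exact plus_bot) hp
  haveI := Fintype.ofFinite F
  obtain ⟨e, f, g, hg, hq, hef, hee, hgp, h1, hab⟩ := exists_minus_frame hQ (m := m) (by omega) hp
  obtain ⟨e', f', g', hg', hq', hef', hee', hgp', h1', hab'⟩ := exists_minus_frame hQ' (m := m) (by omega) hp'
  obtain ⟨c, d, hd0, hc1, hc2⟩ := exists_binary_isometry hab hab'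
  let h : Fin 2 → V := ![g 0, c • g 0 + d • g 1]
  have hh : LinearIndependent F h := LinearIndependent.pair_iff.2 fun s t hst => by
    have := Fintype.linearIndependent_iff.1 hg ![s + t * c, t * d] (by
      rw [Fin.sum_univ_two]; rw [← hst]; simp; module)
    have h0 := this 0
    have h1 := this 1
    simp [hd0] at h0 h1
    simp [h1] at h0
    exact ⟨h0, h1⟩
  have hhp : ∀ i l, polar Q (e i) (h l) = 0 ∧ polar Q (f i) (h l) = 0 := fun i l => by
    fin_cases l <;> simp [h, polar_add_right, polar_smul_right', hgp]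
  let b := basisOfLinearIndependentOfCardEqFinrank (linearIndependent_pairs hh hef hee hhp)
    (by rw [Fintype.card_sum, Fintype.card_sum, Fintype.card_fin, Fintype.card_fin, hd]; omega)
  let b' := basisOfLinearIndependentOfCardEqFinrank (linearIndependent_pairs hg' hef' hee' hgp')
    (by rw [Fintype.card_sum, Fintype.card_sum, Fintype.card_fin, Fintype.card_fin, hd']; omega)
  have hQh : ∀ l, Q (h l) = Q' (g' l) := fun l => by
    fin_cases l
    · simp [h, h1, h1']
    · simp [h, CfsgLib.Geometry.map_add', CfsgLib.Geometry.map_smul', polar_smul_left', polar_smul_right', h1]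
      linear_combination hc2
  have hPh : ∀ l l', polar Q (h l) (h l') = polar Q' (g' l) (g' l') := fun l l' => by
    have e01 : polar Q (h 0) (h 1) = polar Q' (g' 0) (g' 1) := by
      simp [h, polar_add_right, polar_smul_right', polar_self', h1]
      linear_combination hc1
    fin_cases l <;> fin_cases l'
    · exact (polar_self' Q _).trans ((congrArg _ (hQh 0)).trans (polar_self' Q' _).symm)
    · exact e01
    · exact (polar_comm (⇑Q) _ _).trans (e01.trans (polar_comm (⇑Q') _ _))
    · exact (polar_self' Q _).trans ((congrArg _ (hQh 1)).trans (polar_self' Q' _).symm)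
  refine ⟨b.equiv b' (Equiv.refl _), preserves_of_basis Q Q' b _ (fun i => ?_) fun i j => ?_⟩
  · rw [LinearEquiv.coe_coe, Module.Basis.equiv_apply, Equiv.refl_apply]
    simp only [b, b', coe_basisOfLinearIndependentOfCardEqFinrank]
    rcases i with (i | i) | l
    · simp [hq, hq']
    · simp [hq, hq']
    · simp [hQh]
  · rw [LinearEquiv.coe_coe, Module.Basis.equiv_apply, Module.Basis.equiv_apply, Equiv.refl_apply, Equiv.refl_apply]
    simp only [b, b', coe_basisOfLinearIndependentOfCardEqFinrank]
    have c1 : ∀ i j, polar Q (f i) (e j) = if j = i then 1 else 0 := fun i j => (polar_comm (⇑Q) _ _).trans (hef j i)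
    have c1' : ∀ i j, polar Q' (f' i) (e' j) = if j = i then 1 else 0 := fun i j =>
      (polar_comm (⇑Q') _ _).trans (hef' j i)
    have c2 : ∀ l i, polar Q (h l) (e i) = 0 ∧ polar Q (h l) (f i) = 0 := fun l i =>
      ⟨(polar_comm (⇑Q) _ _).trans (hhp i l).1, (polar_comm (⇑Q) _ _).trans (hhp i l).2⟩
    have c2' : ∀ l i, polar Q' (g' l) (e' i) = 0 ∧ polar Q' (g' l) (f' i) = 0 := fun l i =>
      ⟨(polar_comm (⇑Q') _ _).trans (hgp' i l).1, (polar_comm (⇑Q') _ _).trans (hgp' i l).2⟩
    rcases i with (i | i) | l <;> rcases j with (j | j) | l' <;>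
      simp only [Sum.elim_inl, Sum.elim_inr, hee, hee', hef, hef', hgp', hhp, hPh, c1, c1', c2, c2']

/-- Even-dimensional non-degenerate subspaces of the same type are isometric. -/
theorem exists_isometry_sub [FiniteDimensional F V] [FiniteDimensional F W] {Q : QuadraticForm F V}
    {Q' : QuadraticForm F W} {D : Submodule F V} {D' : Submodule F W} (hD : D ⊓ polarPerp Q D = ⊥)
    (hD' : D' ⊓ polarPerp Q' D' = ⊥) {k : ℕ} (hd : Module.finrank F D = 2 * k)
    (hd' : Module.finrank F D' = 2 * k) (hs : sgn Q D = sgn Q' D') :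
    ∃ e : D ≃ₗ[F] D', ∀ v : D, Q' (e v : W) = Q (v : V) :=
  exists_isometry (nondeg_comp hD) (nondeg_comp hD') hd hd' (by rw [sgn_comp, sgn_comp, hs])

end CfsgLib.OrthPrime
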