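import Cfsg.Agent.Lib.OrthPrime.Iso

/-! Subspaces of prescribed dimension and type. -/

set_option autoImplicit false

namespace CfsgLib.OrthPrime

open QuadraticMap CfsgLib.Geometry CfsgLib.OrthMax

universe u v

variable {F : Type u} [Field F] {V : Type v} [AddCommGroup V] [Module F V] [FiniteDimensional F V]
variable [Finite F] {Q : QuadraticForm F V}

theorem plane_facts {e f : V} (he : Q e = 0) (hf : Q f = 0) (hef : polar Q e f = 1) :
    Submodule.span F ({e, f} : Set V) ⊓ polarPerp Q (Submodule.span F ({e, f} : Set V)) = ⊥ ∧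
      Module.finrank F (Submodule.span F ({e, f} : Set V)) = 2 ∧
      Plus Q (Submodule.span F ({e, f} : Set V)) := by
  have he0 : e ≠ 0 := fun h => by simp [h, polar_zero_left] at hef
  have hli : LinearIndependent F ![e, f] := LinearIndependent.pair_iff.2 fun a b hab => by
    have h1 := congrArg (fun z => polar Q z f) hab
    have h2 := congrArg (fun z => polar Q z e) hab
    simp only [polar_add_left, polar_smul_left', polar_self', he, hf, hef, polar_comm Q f e,
      polar_zero_left] at h1 h2
    exact ⟨by linear_combination h1, by linear_combination h2⟩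
  have hE2 : Module.finrank F (Submodule.span F ({e, f} : Set V)) = 2 := by
    have h := finrank_span_eq_card hli
    rw [Matrix.range_cons_cons_empty, Fintype.card_fin] at h
    exact h
  refine ⟨?_, hE2, Submodule.span F {e}, Submodule.span_mono (by simp), fun u hu => ?_, ?_⟩
  · rw [eq_bot_iff]
    rintro x ⟨hx, hx'⟩
    exact (Submodule.mem_bot F).2 (pair_nondeg he hf hef x hx fun s hs => by
      rw [polar_comm]; exact mem_polarPerp.1 hx' s hs)
  · obtain ⟨c, rfl⟩ := Submodule.mem_span_singleton.1 hu
    rw [CfsgLib.Geometry.map_smul', he, mul_zero]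
  · rw [finrank_span_singleton he0, hE2]

/-- A hyperbolic plane inside, with its complement. -/
theorem exists_plane {D : Submodule F V} (hD : D ⊓ polarPerp Q D = ⊥) (hn : 3 ≤ Module.finrank F D) :
    ∃ e f, e ∈ D ∧ f ∈ D ∧ Q e = 0 ∧ Q f = 0 ∧ polar Q e f = 1 ∧
      ∃ C ≤ D, C ⊓ polarPerp Q C = ⊥ ∧ Module.finrank F C + 2 = Module.finrank F D ∧
        Disjoint (Submodule.span F ({e, f} : Set V)) C ∧
        ∀ a ∈ Submodule.span F ({e, f} : Set V), ∀ b ∈ C, polar Q a b = 0 := by
  obtain ⟨e, f, he, hf, he0, hf0, hef⟩ := exists_pair_of_radical (Q := Q) D (by rw [hD, finrank_bot]; omega)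
  obtain ⟨hE, hE2, -⟩ := plane_facts he0 hf0 hef
  have hED : Submodule.span F ({e, f} : Set V) ≤ D := Submodule.span_le.2 (by rintro x (rfl | rfl); exacts [he, hf])
  obtain ⟨hC, hdis, -, ho, hfr⟩ := exists_orth_compl hD hED hE
  exact ⟨e, f, he, hf, he0, hf0, hef, _, inf_le_left, hC, by omega, hdis, ho⟩

/-- Totally singular subspaces exist below the Witt index. -/
theorem exists_ts_dim {D : Submodule F V} (hD : D ⊓ polarPerp Q D = ⊥) {a : ℕ}
    (ha : 2 * a < Module.finrank F D ∨ (2 * a = Module.finrank F D ∧ Plus Q D)) :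
    ∃ W ≤ D, (∀ w ∈ W, Q w = 0) ∧ Module.finrank F W = a := by
  induction a generalizing D with
  | zero => exact ⟨⊥, bot_le, fun w hw => by rw [(Submodule.mem_bot F).1 hw, QuadraticMap.map_zero], finrank_bot _ _⟩
  | succ a ih =>
    rcases ha with ha | ⟨ha, U, hUD, hU, hUd⟩
    · obtain ⟨e, f, he, hf, he0, hf0, hef, C, hCD, hC, hCd, hdis, ho⟩ := exists_plane hD (by omega)
      obtain ⟨W, hW, hW0, hWd⟩ := ih hC (Or.inl (by omega))
      refine ⟨Submodule.span F {e} ⊔ W, sup_le ((Submodule.span_singleton_le_iff_mem _ _).2 he) (hW.trans hCD),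
        fun u hu => ?_, ?_⟩
      · obtain ⟨x, hx, b, hb, rfl⟩ := Submodule.mem_sup.1 hu
        obtain ⟨c, rfl⟩ := Submodule.mem_span_singleton.1 hx
        rw [CfsgLib.Geometry.map_add', CfsgLib.Geometry.map_smul', he0, hW0 b hb, polar_smul_left',
          ho e (Submodule.subset_span (by simp)) b (hW hb)]
        ring
      · have he' : e ≠ 0 := fun h => by simp [h, polar_zero_left] at hef
        have hd' : Disjoint (Submodule.span F {e}) W := hdis.mono (Submodule.span_mono (by simp)) hW
        have h1 := Submodule.finrank_sup_add_finrank_inf_eq (Submodule.span F {e}) W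
        rw [hd'.eq_bot, finrank_bot, finrank_span_singleton he', hWd] at h1
        omega
    · exact ⟨U, hUD, hU, by omega⟩

theorem ts_dim_le [Fintype F] {D W : Submodule F V} (hD : D ⊓ polarPerp Q D = ⊥) (hW : W ≤ D)
    (hW0 : ∀ w ∈ W, Q w = 0) :
    2 * Module.finrank F W < Module.finrank F D ∨ (2 * Module.finrank F W = Module.finrank F D ∧ Plus Q D) := by
  rcases (two_mul_singular_le hD hW hW0).lt_or_eq with h | h
  · exact Or.inl h
  · exact Or.inr ⟨h, W, hW, hW0, h⟩

/-- An anisotropic plane in a three-dimensional space. -/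
theorem exists_minus_plane {D : Submodule F V} (hD : D ⊓ polarPerp Q D = ⊥) (hn : 3 ≤ Module.finrank F D) :
    ∃ E ≤ D, E ⊓ polarPerp Q E = ⊥ ∧ Module.finrank F E = 2 ∧ ¬ Plus Q E := by
  haveI := Fintype.ofFinite F
  obtain ⟨e, f, he, hf, he0, hf0, hef, C, hCD, hC, hCd, hdis, ho⟩ := exists_plane hD hn
  obtain ⟨z, hz, hQz⟩ : ∃ z ∈ C, Q z ≠ 0 := by
    by_contra hc
    push Not at hc
    have hb : C ≤ C ⊓ polarPerp Q C := fun x hx =>
      ⟨hx, mem_polarPerp.2 fun y hy => polar_eq_zero_of_singular hc hy hx⟩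
    rw [hC, le_bot_iff] at hb
    rw [hb, finrank_bot] at hCd
    omega
  have hez : polar Q e z = 0 := ho e (Submodule.subset_span (by simp)) z hz
  have hfz : polar Q f z = 0 := ho f (Submodule.subset_span (by simp)) z hz
  suffices H : ∃ v w, v ∈ D ∧ w ∈ D ∧ (∀ x y : F, Q (x • v + y • w) = 0 → x = 0 ∧ y = 0) ∧
      ∀ x y : F, polar Q v (x • v + y • w) = 0 → polar Q w (x • v + y • w) = 0 → x = 0 ∧ y = 0 by
    obtain ⟨v, w, hv, hw, hani, hnd⟩ := H
    have hli : LinearIndependent F ![v, w] := LinearIndependent.pair_iff.2 fun s t hst =>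
      hani s t (by rw [hst, QuadraticMap.map_zero])
    have hmem : ∀ u, u ∈ Submodule.span F ({v, w} : Set V) → ∃ x y : F, x • v + y • w = u := fun u hu =>
      Submodule.mem_span_pair.1 hu
    have hd : Module.finrank F (Submodule.span F ({v, w} : Set V)) = 2 := by
      have h := finrank_span_eq_card hli
      rw [Matrix.range_cons_cons_empty, Fintype.card_fin] at h
      exact h
    refine ⟨_, Submodule.span_le.2 (by rintro x (rfl | rfl); exacts [hv, hw]), ?_, hd, ?_⟩
    · rw [eq_bot_iff]
      rintro u ⟨hu, hu'⟩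
      obtain ⟨x, y, rfl⟩ := hmem u hu
      obtain ⟨rfl, rfl⟩ := hnd x y (mem_polarPerp.1 hu' v (Submodule.subset_span (by simp)))
        (mem_polarPerp.1 hu' w (Submodule.subset_span (by simp)))
      simp
    · rintro ⟨U, hU, hU0, hUd⟩
      obtain ⟨u, hu, hune⟩ := Submodule.exists_mem_ne_zero_of_ne_bot (p := U) (fun h => by
        rw [h, finrank_bot, hd] at hUd; omega)
      obtain ⟨x, y, rfl⟩ := hmem u (hU hu)
      obtain ⟨rfl, rfl⟩ := hani x y (hU0 _ hu)
      simp at hune
  by_cases h2 : (2 : F) = 0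
  · haveI := CharTwo.of_one_ne_zero_of_two_eq_zero (one_ne_zero (α := F)) h2
    obtain ⟨b, hb⟩ : ∃ b : F, ∀ t : F, t * t + t ≠ b := by
      by_contra hc
      push Not at hc
      have hinj : Function.Injective fun t : F => t * t + t := Finite.injective_iff_surjective.2 hc
      exact zero_ne_one (hinj (show (0 : F) * 0 + 0 = 1 * 1 + 1 by linear_combination -h2))
    obtain ⟨g, hg⟩ := FiniteField.isSquare_of_char_two (ringChar.eq F 2) (b / Q z)
    have hgb : g * g * Q z = b := by rw [← hg, div_mul_cancel₀ _ hQz]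
    refine ⟨e + f, f + g • z, D.add_mem he hf, D.add_mem hf (D.smul_mem _ (hCD hz)), fun x y h => ?_,
      fun x y h1 h1' => ?_⟩
    · have hQ' : x * x + x * y + b * (y * y) = 0 := by
        simp only [smul_add, CfsgLib.Geometry.map_add', CfsgLib.Geometry.map_smul', polar_add_left,
          polar_add_right, polar_smul_left', polar_smul_right', polar_self', he0, hf0, hef, hez, hfz] at h
        linear_combination h - (y * y) * hgb
      by_cases hy : y = 0
      · subst hy; simp at hQ'; exact ⟨hQ', rfl⟩
      · refine absurd ?_ (hb (x / y))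
        field_simp
        linear_combination hQ' - b * y ^ 2 * h2
    · simp only [smul_add, polar_add_left, polar_add_right, polar_smul_left', polar_smul_right', polar_self',
        he0, hf0, hef, hez, hfz, polar_comm Q f e, polar_comm Q z f, polar_comm Q z e] at h1 h1'
      have hy : y = 0 := by linear_combination h1 - x * h2
      subst hy
      exact ⟨by linear_combination h1', rfl⟩
  · obtain ⟨ν, hν⟩ := FiniteField.exists_nonsquare (F := F) (fun h => h2 (by
      haveI := ringChar.of_eq h
      exact CharTwo.two_eq_zero))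
    set c := -ν / Q z with hcdef
    have hc : -(c * Q z) = ν := by rw [hcdef, div_mul_cancel₀ _ hQz, neg_neg]
    have hc0 : c ≠ 0 := fun h => hν (by rw [← hc, h, zero_mul, neg_zero]; exact IsSquare.zero)
    refine ⟨e + c • f, z, D.add_mem he (D.smul_mem _ hf), hCD hz, fun x y h => ?_, fun x y h1 h1' => ?_⟩
    · have hQ' : c * (x * x) + Q z * (y * y) = 0 := by
        simp only [smul_add, smul_smul, CfsgLib.Geometry.map_add', CfsgLib.Geometry.map_smul', polar_add_left,
          polar_add_right, polar_smul_left', polar_smul_right', polar_self', he0, hf0, hef, hez, hfz] at h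
        linear_combination h
      by_cases hy : y = 0
      · subst hy; simp [hc0] at hQ'; exact ⟨hQ', rfl⟩
      · refine absurd ?_ hν
        refine ⟨c * (x / y), ?_⟩
        rw [← hc]
        field_simp
        first | linear_combination (-c) * hQ' | linear_combination c * hQ' | linear_combination (-1 : F) * hQ' | linear_combination hQ'
    · simp only [smul_add, smul_smul, polar_add_left, polar_add_right, polar_smul_left', polar_smul_right',
        polar_self', he0, hf0, hef, hez, hfz, polar_comm Q f e, polar_comm Q z f, polar_comm Q z e] at h1 h1'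
      exact ⟨(mul_eq_zero.1 (show (2 * c) * x = 0 by linear_combination h1)).resolve_left (mul_ne_zero h2 hc0),
        (mul_eq_zero.1 (show (2 * Q z) * y = 0 by linear_combination h1')).resolve_left (mul_ne_zero h2 hQz)⟩

/-- Both types occur properly inside a non-degenerate space. -/
theorem exists_nd_dim [Fintype F] [DecidableEq F] {D : Submodule F V} (hD : D ⊓ polarPerp Q D = ⊥) {k : ℕ}
    {s : ℤ} (hs : s = 1 ∨ s = -1) (hk : k = 0 → s = 1)
    (h : 2 * k < Module.finrank F D ∨ (2 * k = Module.finrank F D ∧ s = sgn Q D)) :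
    ∃ E ≤ D, E ⊓ polarPerp Q E = ⊥ ∧ Module.finrank F E = 2 * k ∧ sgn Q E = s := by
  rcases h with h | ⟨h, rfl⟩
  swap
  · exact ⟨D, le_rfl, hD, h.symm, rfl⟩
  induction k generalizing D s with
  | zero => exact ⟨⊥, bot_le, bot_inf_eq _, by simp, by rw [sgn_bot, hk rfl]⟩
  | succ k ih =>
    rcases Nat.eq_zero_or_pos k with rfl | hk'
    · rcases hs with rfl | rfl
      · obtain ⟨e, f, he, hf, he0, hf0, hef, -⟩ := exists_plane hD (by omega)
        obtain ⟨h1, h2, h3⟩ := plane_facts he0 hf0 hef
        exact ⟨_, Submodule.span_le.2 (by rintro x (rfl | rfl); exacts [he, hf]), h1, h2, sgn_plus h3⟩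
      · obtain ⟨E, hE, h1, h2, h3⟩ := exists_minus_plane hD (by omega)
        exact ⟨E, hE, h1, h2, sgn_minus h3⟩
    obtain ⟨e, f, he, hf, he0, hf0, hef, C, hCD, hC, hCd, hdis, ho⟩ := exists_plane hD (by omega)
    obtain ⟨h1, h2, h3⟩ := plane_facts he0 hf0 hef
    obtain ⟨E, hEC, hE, hEd, hEs⟩ := ih hC hs (fun h0 => absurd h0 hk'.ne') (by omega)
    have ho' : ∀ a ∈ Submodule.span F ({e, f} : Set V), ∀ b ∈ E, polar Q a b = 0 := fun a ha b hb =>
      ho a ha b (hEC hb)
    refine ⟨Submodule.span F ({e, f} : Set V) ⊔ E, sup_le (Submodule.span_le.2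
      (by rintro x (rfl | rfl); exacts [he, hf])) (hEC.trans hCD), ?_, ?_, ?_⟩
    · rw [eq_bot_iff]
      rintro x ⟨hx, hx'⟩
      obtain ⟨a, ha, b, hb, rfl⟩ := Submodule.mem_sup.1 hx
      have e1 : a ∈ Submodule.span F ({e, f} : Set V) ⊓ polarPerp Q (Submodule.span F ({e, f} : Set V)) :=
        ⟨ha, mem_polarPerp.2 fun z hz => by
          have := mem_polarPerp.1 hx' z (Submodule.mem_sup_left hz)
          rwa [polar_add_right, ho' z hz b hb, add_zero] at this⟩
      have e2 : b ∈ E ⊓ polarPerp Q E := ⟨hb, mem_polarPerp.2 fun z hz => by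
          have := mem_polarPerp.1 hx' z (Submodule.mem_sup_right hz)
          rwa [polar_add_right, polar_comm Q z a, ho' a ha z hz, zero_add] at this⟩
      rw [h1, Submodule.mem_bot] at e1
      rw [hE, Submodule.mem_bot] at e2
      simp [e1, e2]
    · have h4 := Submodule.finrank_sup_add_finrank_inf_eq (Submodule.span F ({e, f} : Set V)) E
      rw [(hdis.mono_right hEC).eq_bot, finrank_bot, h2, hEd] at h4
      omega
    · rw [sgn_sup h1 hE ho' (h2 ▸ even_two) (hEd ▸ even_two_mul k), sgn_plus h3, hEs, one_mul]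

/-- Odd characteristic: every class occurs properly inside a non-degenerate space. -/
theorem exists_nd_isometric (h2 : (2 : F) ≠ 0) {D : Submodule F V} (hD : D ⊓ polarPerp Q D = ⊥)
    {W : Type v} [AddCommGroup W] [Module F W] [FiniteDimensional F W] {R : QuadraticForm F W}
    (hR : (polarBilin R).Nondegenerate) (h : Module.finrank F W < Module.finrank F D) :
    ∃ g : W →ₗ[F] V, Function.Injective g ∧ LinearMap.range g ≤ D ∧ ∀ w, Q (g w) = R w := by
  rcases Nat.eq_zero_or_pos (Module.finrank F W) with h0 | hpos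
  · haveI : Subsingleton W := Module.finrank_zero_iff.1 h0
    exact ⟨0, fun a b _ => Subsingleton.elim a b, by simp, fun w => by simp [Subsingleton.elim w 0]⟩
  obtain ⟨k, hk⟩ : ∃ k, Module.finrank F W = k + 1 := ⟨_, (Nat.succ_pred_eq_of_pos hpos).symm⟩
  obtain ⟨o, c, hc, ho⟩ := exists_orth_basis_ones h2 hR hk
  obtain ⟨a, ha, hab⟩ := exists_orth_ones h2 k (Q.comp D.subtype) (nondeg_comp hD) (by omega)
  have hp : ∀ x y : D, polar (Q.comp D.subtype) x y = polar Q (x : V) (y : V) := polar_comp Q D
  set A := Submodule.span F (Set.range fun i => (a i : V))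
  have hA : A ⊓ polarPerp Q A = ⊥ := by
    rw [eq_bot_iff]
    rintro x ⟨hx, hx'⟩
    obtain ⟨l, rfl⟩ := (Submodule.mem_span_range_iff_exists_fun F).1 hx
    refine (Submodule.mem_bot F).2 (Finset.sum_eq_zero fun i _ => ?_)
    have h1 := mem_polarPerp.1 hx' (a i : V) (Submodule.subset_span ⟨i, rfl⟩)
    rw [← polarBilin_apply_apply, map_sum, Finset.sum_eq_single i (fun j _ hj => by
      rw [map_smul, polarBilin_apply_apply, ← hp, hab i j (Ne.symm hj), smul_zero]) (by simp),
      map_smul, polarBilin_apply_apply, polar_self', show Q (a i : V) = 1 from ha i, smul_eq_mul, mul_one] at h1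
    rw [(mul_eq_zero.1 h1).resolve_right h2, zero_smul]
  obtain ⟨hC, -, hsup, hoC, hfr⟩ := exists_orth_compl hD
    (Submodule.span_le.2 (by rintro _ ⟨i, rfl⟩; exact (a i).2) : A ≤ D) hA
  have hAd : Module.finrank F ↥(Submodule.span F (Set.range fun i => (a i : V))) ≤ k := (finrank_range_le_card _).trans (by simp)
  obtain ⟨⟨v, hv⟩, hv1⟩ := exists_represents (nondeg_comp hC) (by omega) c
  have hv1' : Q v = c := hv1
  let fam : Fin (k + 1) → V := Fin.snoc (fun i => (a i : V)) v
  have hfam : ∀ i, fam i ∈ D := fun i => by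
    induction i using Fin.lastCases with
    | last => simp [fam]; exact hv.1
    | cast i => simp [fam]
  let g := o.constr F fam
  have hgo : ∀ i, g (o i) = fam i := fun i => o.constr_basis F fam i
  have e1 : ∀ i j, polar R (o i) (o j) = _ := fun i j => congrFun (congrFun ho i) j
  have hgram : ∀ i j, polar Q (g (o i)) (g (o j)) = polar R (o i) (o j) := fun i j => by
    rw [hgo, hgo, e1]
    induction i using Fin.lastCases <;> induction j using Fin.lastCases
    · simp [fam, polar_self', hv1']
    · rename_i j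
      simp only [fam, Fin.snoc_last, Fin.snoc_castSucc]
      rw [Matrix.diagonal_apply_ne _ (Fin.castSucc_lt_last j).ne', polar_comm,
        hoC _ (Submodule.subset_span ⟨j, rfl⟩) v hv]
    · rename_i i
      simp only [fam, Fin.snoc_last, Fin.snoc_castSucc]
      rw [Matrix.diagonal_apply_ne _ (Fin.castSucc_lt_last i).ne, hoC _ (Submodule.subset_span ⟨i, rfl⟩) v hv]
    · rename_i i j
      simp only [fam, Fin.snoc_castSucc]
      by_cases hij : i = j
      · subst hij
        rw [Matrix.diagonal_apply_eq, Fin.snoc_castSucc, polar_self', show Q (a i : V) = 1 from ha i, mul_one]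
      · rw [Matrix.diagonal_apply_ne _ (fun h => hij (Fin.castSucc_injective _ h)), ← hp, hab i j hij]
  have hQg := preserves_of_basis R Q o g (fun i => mul_left_cancel₀ h2 (by
    rw [← polar_self', ← polar_self', hgram])) hgram
  refine ⟨g, (injective_iff_map_eq_zero g).2 fun x hx => hR.1 x fun y => ?_, ?_, hQg⟩
  · simp only [polarBilin_apply_apply, polar, ← hQg, map_add, hx, zero_add, map_zero, QuadraticMap.map_zero]
    ring
  · rw [Module.Basis.constr_range]
    exact Submodule.span_le.2 (by rintro _ ⟨i, rfl⟩; exact hfam i)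

end CfsgLib.OrthPrime
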