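import Cfsg.Agent.Lib.OrthPrime.Struct
import Cfsg.Agent.Lib.OrthPrime.Sub

/-! Models of isometries of odd prime order prime to the characteristic. -/

set_option autoImplicit false

namespace CfsgLib.OrthPrime

open QuadraticMap Polynomial CfsgLib.Geometry CfsgLib.OrthMax CfsgLib.PrimeOrderSp CfsgLib.KnownB.PrimeOrder

universe u

variable {F : Type u} [Field F] [Fintype F] [DecidableEq F] {r : ℕ} [Fact r.Prime]

theorem orderOf_card_pos (hr : (r : F) ≠ 0) : 0 < orderOf ((Fintype.card F : ℕ) : ZMod r) := by
  have hqr : ((Fintype.card F : ℕ) : ZMod r) ≠ 0 := fun h0 => by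
    rw [ZMod.natCast_eq_zero_iff] at h0
    obtain ⟨p, hp⟩ := CharP.exists F
    obtain ⟨n, hp', hq⟩ := FiniteField.card F p
    rw [hq] at h0
    exact hr ((CharP.cast_eq_zero_iff F p r).2
      (((Nat.prime_dvd_prime_iff_eq (Fact.out : r.Prime) hp').1 ((Fact.out : r.Prime).dvd_of_dvd_pow h0)).symm ▸ dvd_rfl))
  exact orderOf_pos_iff.2 ((isOfFinOrder_iff_pow_eq_one).2
    ⟨r - 1, by have := (Fact.out : r.Prime).two_le; omega, ZMod.pow_card_sub_one_eq_one hqr⟩)

theorem card_factors_pos (hr : (r : F) ≠ 0) : 0 < (factors F r).card := by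
  rw [Nat.pos_iff_ne_zero]
  intro h0
  have := card_factors (F := F) (r := r) hr
  rw [h0, zero_mul] at this
  have := (Fact.out : r.Prime).two_le
  omega

/-- A model for odd multiplicative order. -/
theorem exists_model_odd (hr : (r : F) ≠ 0) (N : ℕ) :
    ∃ (M : Type u) (_ : AddCommGroup M) (_ : Module F M) (_ : FiniteDimensional F M) (R : QuadraticForm F M)
      (g : Module.End F M), (polarBilin R).Nondegenerate ∧
      Module.finrank F M = N * (2 * orderOf ((Fintype.card F : ℕ) : ZMod r)) ∧
      (∀ v, R (g v) = R v) ∧ g ^ r = 1 ∧ (∀ v, g v = v → v = 0) := by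
  classical
  have hr0 : r ≠ 0 := (Fact.out : r.Prime).ne_zero
  obtain ⟨P, hP⟩ : (factors F r).Nonempty := Finset.card_pos.1 (card_factors_pos hr)
  obtain ⟨hirr, hm, hd, hne⟩ := (mem_factors hr0).1 hP
  haveI := Fact.mk hirr
  haveI : Module.Finite F (AdjoinRoot P) := (AdjoinRoot.powerBasis' hm).finite
  have hdeg : Module.finrank F (AdjoinRoot P) = orderOf ((Fintype.card F : ℕ) : ZMod r) := by
    rw [(AdjoinRoot.powerBasis' hm).finrank, AdjoinRoot.powerBasis'_dim, natDegree_eq_orderOf hr hirr hm hd hne]
  let L := AdjoinRoot P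
  let M := (Fin N → L) × (Fin N → L)
  let β : LinearMap.BilinMap F M F :=
    LinearMap.mk₂ F (fun u v => ∑ k, Algebra.trace F L (u.1 k * v.2 k))
      (fun a b v => by
        rw [← Finset.sum_add_distrib]
        exact Finset.sum_congr rfl fun k _ => by rw [← map_add, ← add_mul]; rfl)
      (fun c a v => by
        rw [Finset.smul_sum]
        exact Finset.sum_congr rfl fun k _ => by rw [← map_smul, ← smul_mul_assoc]; rfl)
      (fun u a b => by
        rw [← Finset.sum_add_distrib]
        exact Finset.sum_congr rfl fun k _ => by rw [← map_add, ← mul_add]; rfl)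
      (fun c u a => by
        rw [Finset.smul_sum]
        exact Finset.sum_congr rfl fun k _ => by rw [← map_smul, ← mul_smul_comm]; rfl)
  have hβ : ∀ u v : M, β u v = ∑ k, Algebra.trace F L (u.1 k * v.2 k) := fun _ _ => rfl
  let R : QuadraticForm F M := LinearMap.BilinMap.toQuadraticMap β
  have hp : ∀ u v, polar R u v = β u v + β v u := fun u v => LinearMap.BilinMap.polar_toQuadraticMap (B := β) u v
  let g : Module.End F M := LinearMap.prodMap
    (LinearMap.pi fun k => (LinearMap.mulLeft F (AdjoinRoot.root P)).comp (LinearMap.proj k))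
    (LinearMap.pi fun k => (LinearMap.mulLeft F (AdjoinRoot.root P)⁻¹).comp (LinearMap.proj k))
  have hg : ∀ u, g u = (fun k => AdjoinRoot.root P * u.1 k, fun k => (AdjoinRoot.root P)⁻¹ * u.2 k) := fun _ => rfl
  have hroot := root_pow_eq_one hr0 hP
  have hω : AdjoinRoot.root P ≠ 0 := fun h0 => by rw [h0, zero_pow hr0] at hroot; exact zero_ne_one hroot
  have hnd : ∀ u : M, (∀ v, polar R u v = 0) → u = 0 := fun u hu => Prod.ext
    (funext fun k => by
      by_contra h0
      obtain ⟨b, hb⟩ := trace_exists (F := F) h0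
      refine hb ?_
      have := hu (0, Pi.single k b)
      rw [hp, hβ, hβ, Finset.sum_eq_single k (fun j _ hj => by simp [Pi.single_eq_of_ne hj]) (by simp),
        Finset.sum_eq_zero (fun j _ => by simp), add_zero] at this
      simpa using this)
    (funext fun k => by
      by_contra h0
      obtain ⟨b, hb⟩ := trace_exists (F := F) h0
      refine hb ?_
      have := hu (Pi.single k b, 0)
      rw [hp, hβ, hβ, Finset.sum_eq_zero (fun j _ => by simp), zero_add,
        Finset.sum_eq_single k (fun j _ hj => by simp [Pi.single_eq_of_ne hj]) (by simp)] at this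
      simpa [mul_comm b] using this)
  refine ⟨M, inferInstance, inferInstance, inferInstance, R, g, ⟨hnd, fun v hv => hnd v fun u =>
    (polar_comm (⇑R) v u).trans (hv u)⟩, ?_, fun u => ?_, ?_, fun u hu => ?_⟩
  · simp only [M, Module.finrank_prod, Module.finrank_pi_fintype, L, hdeg, Finset.sum_const, Finset.card_univ,
      Fintype.card_fin, smul_eq_mul]
    ring
  · show β (g u) (g u) = β u u
    rw [hβ, hβ, hg]
    refine Finset.sum_congr rfl fun k _ => congrArg _ ?_
    change AdjoinRoot.root P * u.1 k * ((AdjoinRoot.root P)⁻¹ * u.2 k) = u.1 k * u.2 k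
    linear_combination (u.1 k * u.2 k) * mul_inv_cancel₀ hω
  · have hk : ∀ m : ℕ, ∀ u, (g ^ m) u =
        (fun k => AdjoinRoot.root P ^ m * u.1 k, fun k => (AdjoinRoot.root P)⁻¹ ^ m * u.2 k) := fun m => by
      induction m with
      | zero => intro u; simp
      | succ m ih => intro u; rw [pow_succ', Module.End.mul_apply, ih, hg]; simp [pow_succ', mul_assoc]
    exact LinearMap.ext fun u => by simp [hk, hroot]
  · rw [hg] at hu
    have h1 := congrArg Prod.fst hu
    have h2 := congrArg Prod.snd hu
    refine Prod.ext (funext fun k => ?_) (funext fun k => ?_)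
    · by_contra h0
      exact root_ne_one hr0 hP ((mul_eq_right₀ h0).1 (congrFun h1 k))
    · by_contra h0
      exact root_ne_one hr0 hP (inv_eq_one.1 ((mul_eq_right₀ h0).1 (congrFun h2 k)))

/-- A model for even multiplicative order, with few totally singular invariant subspaces. -/
theorem exists_model_even (hr : (r : F) ≠ 0) (hr2 : r ≠ 2) (N : ℕ) {i : ℕ}
    (hi : orderOf ((Fintype.card F : ℕ) : ZMod r) = i) (hev : Even i) :
    ∃ (M : Type u) (_ : AddCommGroup M) (_ : Module F M) (_ : FiniteDimensional F M) (R : QuadraticForm F M)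
      (g : Module.End F M), (polarBilin R).Nondegenerate ∧ Module.finrank F M = N * i ∧
      (∀ v, R (g v) = R v) ∧ g ^ r = 1 ∧ (∀ v, g v = v → v = 0) ∧
      ∀ W : Submodule F M, Inv g W → (∀ w ∈ W, R w = 0) →
        Module.finrank F W ≤ ((N - (r - 1) / i + 1) / 2) * i := by
  classical
  have hr0 : r ≠ 0 := (Fact.out : r.Prime).ne_zero
  obtain ⟨j, hj'⟩ := hev
  have hord : orderOf ((Fintype.card F : ℕ) : ZMod r) = 2 * j := by omega
  have hj : 0 < j := by have := orderOf_card_pos (F := F) hr; omega
  have hpos := card_factors_pos (F := F) hr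
  have ht : (r - 1) / i = (factors F r).card := by
    rw [← card_factors (F := F) hr, hi, Nat.mul_div_cancel _ (by omega)]
  let t := (factors F r).card
  let en := (factors F r).equivFin.symm
  let P : Fin N → F[X] := fun k => if h : (k : ℕ) < t then (en ⟨k, h⟩ : F[X]) else (en ⟨0, hpos⟩ : F[X])
  have hP : ∀ k, P k ∈ factors F r := fun k => by
    simp only [P]; split_ifs <;> exact Subtype.coe_prop _
  haveI : ∀ k, Fact (Irreducible (P k)) := fun k => ⟨((mem_factors hr0).1 (hP k)).1⟩
  haveI : ∀ k, Module.Finite F (AdjoinRoot (P k)) := fun k =>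
    (AdjoinRoot.powerBasis' (monic_factor hr0 (hP k))).finite
  have hdeg : ∀ k, Module.finrank F (AdjoinRoot (P k)) = i := fun k => by
    obtain ⟨hirr, hm, hd, hne⟩ := (mem_factors hr0).1 (hP k)
    rw [(AdjoinRoot.powerBasis' hm).finrank, AdjoinRoot.powerBasis'_dim, natDegree_eq_orderOf hr hirr hm hd hne,
      hi]
  choose bar hbar using fun k => exists_isConj (F := F) hr hj hord (hP k)
  choose τ hτ hττ using fun k => exists_algEquiv (monic_factor hr0 (hP k)) (hbar k)
  have hroot := fun k => root_pow_eq_one hr0 (hP k)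
  have hγ : ∀ k, ∃ γ : AdjoinRoot (P k), γ + τ k γ = 1 := fun k => by
    set ω := AdjoinRoot.root (P k)
    have h1 : τ k ω * ω = 1 := by rw [hτ]; exact (hbar k).root
    have h0 : ω + τ k ω ≠ 0 := fun h0 => by
      have hω2 : ω ^ 2 = -1 := by linear_combination ω * h0 - h1
      have hω4 : ω ^ 4 = 1 := by linear_combination (ω ^ 2 - 1) * hω2
      refine root_ne_one hr0 (hP k) (orderOf_eq_one_iff.1 (Nat.eq_one_of_dvd_coprimes ?_
        (orderOf_dvd_of_pow_eq_one hω4) (orderOf_dvd_of_pow_eq_one (hroot k))))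
      exact Nat.Coprime.pow_left 2 ((Nat.coprime_primes Nat.prime_two (Fact.out : r.Prime)).2 (Ne.symm hr2))
    refine ⟨ω / (ω + τ k ω), ?_⟩
    rw [map_div₀, map_add, hττ, add_comm (τ k ω) ω, ← add_div, div_self h0]
  choose γ hγ using hγ
  let M := ∀ k, AdjoinRoot (P k)
  let β : LinearMap.BilinMap F M F :=
    LinearMap.mk₂ F (fun u v => ∑ k, Algebra.trace F (AdjoinRoot (P k)) (γ k * (u k * τ k (v k))))
      (fun a b v => by
        rw [← Finset.sum_add_distrib]
        exact Finset.sum_congr rfl fun k _ => by rw [← map_add, ← mul_add, ← add_mul]; rfl)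
      (fun c a v => by
        rw [Finset.smul_sum]
        exact Finset.sum_congr rfl fun k _ => by rw [← map_smul, ← mul_smul_comm, ← smul_mul_assoc]; rfl)
      (fun u a b => by
        rw [← Finset.sum_add_distrib]
        exact Finset.sum_congr rfl fun k _ => by rw [← map_add, ← mul_add, ← mul_add, ← map_add (τ k)]; rfl)
      (fun c u a => by
        rw [Finset.smul_sum]
        exact Finset.sum_congr rfl fun k _ => by
          rw [← map_smul, ← mul_smul_comm, ← mul_smul_comm, ← map_smul (τ k)]; rfl)
  have hβ : ∀ u v : M, β u v = ∑ k, Algebra.trace F (AdjoinRoot (P k)) (γ k * (u k * τ k (v k))) := fun _ _ => rfl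
  let R : QuadraticForm F M := LinearMap.BilinMap.toQuadraticMap β
  have hp : ∀ u v, polar R u v = ∑ k, Algebra.trace F (AdjoinRoot (P k)) (u k * τ k (v k)) := fun u v => by
    rw [show polar R u v = β u v + β v u from LinearMap.BilinMap.polar_toQuadraticMap (B := β) u v, hβ, hβ,
      ← Finset.sum_add_distrib]
    refine Finset.sum_congr rfl fun k _ => ?_
    rw [← Algebra.trace_eq_of_algEquiv (τ k) (γ k * (v k * τ k (u k))), map_mul (τ k), map_mul (τ k), hττ,
      ← map_add]
    congr 1
    linear_combination (u k * τ k (v k)) * hγ k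
  let g : Module.End F M :=
    LinearMap.pi fun k => (LinearMap.mulLeft F (AdjoinRoot.root (P k))).comp (LinearMap.proj k)
  have hg : ∀ u k, g u k = AdjoinRoot.root (P k) * u k := fun _ _ => rfl
  have haeval : ∀ (S : F[X]) u k, Polynomial.aeval g S u k = AdjoinRoot.mk (P k) S * u k := by
    intro S
    induction S using Polynomial.induction_on with
    | C c => intro u k; simp [Module.algebraMap_end_apply, Algebra.smul_def]; rfl
    | add a b ha hb =>
      intro u k
      rw [map_add, LinearMap.add_apply, map_add, add_mul]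
      exact congrArg₂ (· + ·) (ha u k) (hb u k)
    | monomial m c ih =>
      intro u k
      rw [pow_succ, ← mul_assoc, map_mul (Polynomial.aeval g), aeval_X, Module.End.mul_apply, ih, hg,
        map_mul (AdjoinRoot.mk (P k)) _ X, AdjoinRoot.mk_X, mul_assoc]
  have hnd : ∀ u : M, (∀ v, polar R u v = 0) → u = 0 := fun u hu => funext fun k => by
    by_contra h0
    obtain ⟨b, hb⟩ := trace_exists (F := F) h0
    refine hb ?_
    have := hu (Pi.single k (τ k b))
    rw [hp, Finset.sum_eq_single k (fun l _ hl => by rw [Pi.single_eq_of_ne hl, map_zero, mul_zero, map_zero])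
      (by simp), Pi.single_eq_same, hττ] at this
    exact this
  have hR : (polarBilin R).Nondegenerate :=
    ⟨hnd, fun v hv => hnd v fun u => (polar_comm (⇑R) v u).trans (hv u)⟩
  have hiso : ∀ u, R (g u) = R u := fun u => by
    show β (g u) (g u) = β u u
    rw [hβ, hβ]
    refine Finset.sum_congr rfl fun k _ => congrArg _ ?_
    rw [hg, map_mul, hτ k (AdjoinRoot.root (P k)),
      show γ k * (AdjoinRoot.root (P k) * u k * (bar k (AdjoinRoot.root (P k)) * τ k (u k))) =
        (bar k (AdjoinRoot.root (P k)) * AdjoinRoot.root (P k)) * (γ k * (u k * τ k (u k))) by ring,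
      (hbar k).root, one_mul]
  have hgr : g ^ r = 1 := LinearMap.ext fun u => funext fun k => by
    rw [show g ^ r = Polynomial.aeval g (X ^ r : F[X]) by simp, haeval, map_pow, AdjoinRoot.mk_X, hroot k,
      one_mul, Module.End.one_apply]
  refine ⟨M, inferInstance, inferInstance, inferInstance, R, g, hR, ?_, hiso, hgr, fun u hu => funext fun k => ?_,
    fun W hW hW0 => ?_⟩
  · simp only [M]
    rw [Module.finrank_pi_fintype, Finset.sum_congr rfl fun k _ => hdeg k, Finset.sum_const, Finset.card_univ,
      Fintype.card_fin, smul_eq_mul]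
  · by_contra h0
    exact root_ne_one hr0 (hP k) ((mul_eq_right₀ h0).1 (congrFun hu k))
  refine (finrank_le_sum hW (factors F r) (fun S hS => ((mem_factors hr0).1 hS).1)
    (fun S hS => monic_factor hr0 hS) fun v _ => funext fun k => by
      rw [haeval, AdjoinRoot.mk_eq_zero.2 (Finset.dvd_prod_of_mem (fun S => S) (hP k)), zero_mul,
        Pi.zero_apply]).trans ?_
  have hpart : ∀ S ∈ factors F r, Module.finrank F (W ⊓ LinearMap.ker (Polynomial.aeval g S) : Submodule F M) ≤
      (Finset.univ.filter fun k => P k = S).card / 2 * i := by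
    intro S hS
    obtain ⟨hSi, hSm, hSd, hSne⟩ := (mem_factors hr0).1 hS
    set K := LinearMap.ker (Polynomial.aeval g S) with hK
    have hKsupp : ∀ u ∈ K, ∀ k, P k ≠ S → u k = 0 := fun u hu k hk => by
      have h := congrFun (LinearMap.mem_ker.1 hu) k
      rw [haeval, Pi.zero_apply, mul_eq_zero] at h
      refine h.resolve_left fun h0 => hk ?_
      exact Polynomial.eq_of_monic_of_associated (monic_factor hr0 (hP k)) hSm
        (((mem_factors hr0).1 (hP k)).1.associated_of_dvd hSi (AdjoinRoot.mk_eq_zero.1 h0))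
    have hh := isHerm_polar hR
    have hKnd : Nondeg (σ := RingHom.id F) (polarBilin R) K := fun u hu hu' => funext fun k => by
      by_cases hk : P k = S
      · by_contra h0
        obtain ⟨b, hb⟩ := trace_exists (F := F) h0
        refine hb ?_
        have := hu' (Pi.single k (τ k b)) (LinearMap.mem_ker.2 (funext fun l => by
          rw [haeval]
          by_cases hl : l = k
          · subst hl; rw [← hk, AdjoinRoot.mk_self, zero_mul, Pi.zero_apply]
          · rw [Pi.single_eq_of_ne hl, mul_zero, Pi.zero_apply]))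
        rw [polarBilin_apply_apply, hp, Finset.sum_eq_single k
          (fun l _ hl => by rw [Pi.single_eq_of_ne hl, map_zero, mul_zero, map_zero]) (by simp),
          Pi.single_eq_same, hττ] at this
        exact this
      · exact hKsupp u hu k hk
    have hKdim : Module.finrank F K ≤ (Finset.univ.filter fun k => P k = S).card * i := by
      let ρ : K →ₗ[F] ∀ k : {k // k ∈ Finset.univ.filter fun k => P k = S}, AdjoinRoot (P k.1) :=
        (LinearMap.pi fun k => LinearMap.proj k.1).comp K.subtype
      have hρ : Function.Injective ρ := (injective_iff_map_eq_zero ρ).2 fun u hu => Subtype.ext (funext fun k => by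
        by_cases hk : P k = S
        · exact congrFun hu ⟨k, by simp [hk]⟩
        · exact hKsupp _ u.2 k hk)
      refine (LinearMap.finrank_le_finrank_of_injective hρ).trans_eq ?_
      rw [Module.finrank_pi_fintype, Finset.sum_congr rfl fun k _ => hdeg k.1, Finset.sum_const,
        Finset.card_univ, Fintype.card_coe, smul_eq_mul]
    have h2 := two_mul_ti_le hh hKnd (inf_le_right : W ⊓ K ≤ K)
      (fun u hu v hv => polar_eq_zero_of_singular hW0 hu.1 hv.1)
    have hKinv : Inv g K := fun v hv => by
      rw [hK, LinearMap.mem_ker, ← Module.End.mul_apply, show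
        Polynomial.aeval g S * g = Polynomial.aeval g (X * S) by rw [mul_comm X, map_mul, aeval_X],
        map_mul, Module.End.mul_apply, LinearMap.mem_ker.1 hv, map_zero]
    obtain ⟨c, hc⟩ : i ∣ Module.finrank F (W ⊓ K : Submodule F M) :=
      finrank_dvd (isSemisimple_of_pow hr hgr) (S := {S})
        ⟨fun T hT => by rwa [Finset.mem_singleton.1 hT],
          fun T hT => by rw [Finset.mem_singleton.1 hT, natDegree_eq_orderOf hr hSi hSm hSd hSne, hi],
          hW.inf hKinv, fun v hv => by rw [Finset.prod_singleton]; exact hv.2⟩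
    rw [hc, mul_comm]
    refine Nat.mul_le_mul_right _ ((Nat.le_div_iff_mul_le two_pos).2 ?_)
    have h3 := h2.trans hKdim
    rw [hc, show 2 * (i * c) = c * 2 * i by ring] at h3
    exact Nat.le_of_mul_le_mul_right h3 (by omega)
  refine (Finset.sum_le_sum hpart).trans ?_
  rw [← Finset.sum_mul, ht]
  refine Nat.mul_le_mul_right _ ?_
  have hsmall : ∀ S ∈ factors F r, S ≠ (en ⟨0, hpos⟩ : F[X]) →
      (Finset.univ.filter fun k => P k = S).card / 2 = 0 := fun S _ hne => by
    refine Nat.div_eq_of_lt (Nat.lt_succ_of_le (Finset.card_le_one.2 fun a ha b hb => ?_))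
    simp only [Finset.mem_filter, Finset.mem_univ, true_and, P] at ha hb
    split_ifs at ha with h1
    · split_ifs at hb with h2
      · have := en.injective (Subtype.ext (ha.trans hb.symm))
        exact Fin.ext (by simpa using this)
      · exact absurd hb.symm hne
    · exact absurd ha.symm hne
  rw [Finset.sum_eq_single_of_mem _ (Subtype.coe_prop (en ⟨0, hpos⟩)) hsmall]
  refine Nat.div_le_div_right ?_
  have hsub : (Finset.univ.filter fun k => P k = (en ⟨0, hpos⟩ : F[X])) ⊆
      Finset.univ.filter fun k : Fin N => (k : ℕ) = 0 ∨ t ≤ (k : ℕ) := by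
    intro k hk
    simp only [Finset.mem_filter, Finset.mem_univ, true_and, P] at hk ⊢
    split_ifs at hk with h1
    · have := en.injective (Subtype.ext hk)
      exact Or.inl (by simpa [Fin.ext_iff] using this)
    · exact Or.inr (not_lt.1 h1)
  refine ((Finset.card_le_card hsub).trans ?_)
  have hmap := Finset.card_le_card_of_injOn
    (t := insert 0 (Finset.Ico t N)) (s := Finset.univ.filter fun k : Fin N => (k : ℕ) = 0 ∨ t ≤ (k : ℕ))
    Fin.val (fun k hk => by
      have := k.2
      simp only [Finset.coe_filter, Finset.mem_univ, true_and, Set.mem_ofPred_eq] at hk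
      simp only [Finset.coe_insert, Finset.coe_Ico, Set.mem_insert_iff, Set.mem_Ico]
      omega) Fin.val_injective.injOn
  refine hmap.trans ((Finset.card_insert_le _ _).trans ?_)
  rw [Nat.card_Ico]

/-- An isometry with prescribed moved space. -/
theorem exists_isom {V : Type*} [AddCommGroup V] [Module F V] [FiniteDimensional F V] {Q : QuadraticForm F V}
    (hQ : (polarBilin Q).Nondegenerate) (hr : (r : F) ≠ 0) (hr2 : r ≠ 2) {i N : ℕ}
    (hi : orderOf ((Fintype.card F : ℕ) : ZMod r) = i) (hN : 0 < N) {D : Submodule F V}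
    (hD : D ⊓ polarPerp Q D = ⊥) (hd : Module.finrank F D = N * (unit i * i))
    (hs : sgn Q D = (-1) ^ (N * unit i)) :
    ∃ f : Module.End F V, (∀ v, Q (f v) = Q v) ∧ f ^ r = 1 ∧ f ≠ 1 ∧ movSp f = D ∧
      (Even i → ∀ W ≤ D, Inv f W → (∀ w ∈ W, Q w = 0) →
        Module.finrank F W ≤ ((N - (r - 1) / i + 1) / 2) * i) := by
  classical
  have hipos : 0 < i := hi ▸ orderOf_card_pos (F := F) hr
  have hu : 0 < unit i := by unfold unit; split_ifs <;> norm_num
  obtain ⟨M, _, _, _, R, g, hR, hMd, hgiso, hgr, hfree, hbound⟩ :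
      ∃ (M : Type u) (_ : AddCommGroup M) (_ : Module F M) (_ : FiniteDimensional F M) (R : QuadraticForm F M)
        (g : Module.End F M), (polarBilin R).Nondegenerate ∧ Module.finrank F M = N * (unit i * i) ∧
        (∀ v, R (g v) = R v) ∧ g ^ r = 1 ∧ (∀ v, g v = v → v = 0) ∧
        (Even i → ∀ W : Submodule F M, Inv g W → (∀ w ∈ W, R w = 0) →
          Module.finrank F W ≤ ((N - (r - 1) / i + 1) / 2) * i) := by
    by_cases hev : Even i
    · obtain ⟨M, a, b, c, R, g, h1, h2, h3, h4, h5, h6⟩ := exists_model_even hr hr2 N hi hev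
      exact ⟨M, a, b, c, R, g, h1, by rw [h2, unit, if_pos hev, one_mul], h3, h4, h5, fun _ => h6⟩
    · obtain ⟨M, a, b, c, R, g, h1, h2, h3, h4, h5⟩ := exists_model_odd (F := F) hr N
      exact ⟨M, a, b, c, R, g, h1, by rw [h2, hi, unit, if_neg hev], h3, h4, h5, fun h => absurd h hev⟩
  haveI : Finite M := Module.finite_of_finite F
  have hmov : movSp g = ⊤ := by
    have h1 : fixSp g = ⊥ := (Submodule.eq_bot_iff _).2 fun v hv => hfree v (mem_fixSp.1 hv)
    have h2 := (isCompl_fix_mov hr hgr).sup_eq_top
    rwa [h1, bot_sup_eq] at h2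
  have hMs : sgn R ⊤ = (-1) ^ (N * unit i) := by
    obtain ⟨N', hN', hs', -⟩ := struct hR hgiso hr hr2 hgr (D := (⊤ : Submodule F M)) (by rw [hmov])
      (fun v _ => trivial) (nondeg_iff.1 fun u _ hu' => hR.1 u fun v => hu' v trivial)
    rw [hi] at hN' hs'
    rw [finrank_top, hMd] at hN'
    rw [hs', Nat.eq_of_mul_eq_mul_right (by positivity) hN']
  obtain ⟨k, hk⟩ : Even (N * (unit i * i)) := by
    by_cases hev : Even i
    · exact (hev.mul_left _).mul_left _
    · rw [unit, if_neg hev]; exact (even_two_mul i).mul_left _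
  obtain ⟨e, he⟩ := exists_isometry (nondeg_comp hD) hR (k := k) (by rw [hd]; omega) (by rw [hMd]; omega)
    (by rw [sgn_comp, hs, hMs])
  set C := polarPerp Q D
  have hc : IsCompl D C := by
    refine ⟨disjoint_iff.2 hD, codisjoint_iff.2 ?_⟩
    refine Submodule.eq_top_of_finrank_eq ?_
    have h1 := Submodule.finrank_sup_add_finrank_inf_eq D C
    have h2 : Module.finrank F C + Module.finrank F D = Module.finrank F V := finrank_polarPerp hQ D
    rw [hD, finrank_bot] at h1
    omega
  let P := Submodule.prodEquivOfIsCompl D C hc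
  let f : Module.End F V := P.toLinearMap ∘ₗ
    (LinearMap.prodMap (e.symm.toLinearMap ∘ₗ g ∘ₗ e.toLinearMap) LinearMap.id) ∘ₗ P.symm.toLinearMap
  have hf : ∀ (a : D) (b : C), f ((a : V) + b) = (e.symm (g (e a)) : V) + b := fun a b => by
    have hP : P (a, b) = (a : V) + b := by simp [P]
    rw [← hP]
    simp [f, P]
  have hdec : ∀ v : V, ∃ (a : D) (b : C), (a : V) + b = v := fun v =>
    ⟨(P.symm v).1, (P.symm v).2, by have := P.apply_symm_apply v; simpa [P] using this⟩
  have hpow : ∀ (m : ℕ) (a : D) (b : C), (f ^ m) ((a : V) + b) = (e.symm ((g ^ m) (e a)) : V) + b := fun m => by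
    induction m with
    | zero => intro a b; simp
    | succ m ih =>
      intro a b
      rw [pow_succ', Module.End.mul_apply, ih, hf, e.apply_symm_apply, pow_succ', Module.End.mul_apply]
  have hfD : ∀ a : D, f (a : V) = (e.symm (g (e a)) : V) := fun a => by simpa using hf a 0
  refine ⟨f, fun v => ?_, LinearMap.ext fun v => ?_, fun h1 => ?_, le_antisymm ?_ fun v hv => ?_, fun hev W hWD hW hW0 => ?_⟩
  · obtain ⟨a, b, rfl⟩ := hdec v
    have hb : ∀ x : D, polar Q (x : V) (b : V) = 0 := fun x => mem_polarPerp.1 b.2 x x.2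
    have h1 : Q (e.symm (g (e a)) : V) = Q (a : V) := by
      have h2 := he (e.symm (g (e a)))
      rw [e.apply_symm_apply, hgiso, he] at h2
      exact h2.symm
    rw [hf, CfsgLib.Geometry.map_add', CfsgLib.Geometry.map_add', hb, hb, h1]
  · obtain ⟨a, b, rfl⟩ := hdec v
    rw [hpow, hgr, Module.End.one_apply, e.symm_apply_apply, Module.End.one_apply]
  · have hne : (⊤ : Submodule F M) ≠ ⊥ := fun h => by
      have := congrArg (fun S : Submodule F M => Module.finrank F S) h
      simp only [finrank_top, finrank_bot, hMd] at this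
      exact (Nat.mul_pos hN (Nat.mul_pos hu hipos)).ne' this
    obtain ⟨m, -, hm⟩ := Submodule.exists_mem_ne_zero_of_ne_bot hne
    refine hm (hfree m ?_)
    have h2 := hfD (e.symm m)
    rw [h1, Module.End.one_apply, e.apply_symm_apply] at h2
    exact (e.symm.injective (Subtype.ext h2)).symm
  · rintro _ ⟨v, rfl⟩
    obtain ⟨a, b, rfl⟩ := hdec v
    rw [LinearMap.sub_apply, Module.End.one_apply, hf, add_sub_add_right_eq_sub]
    exact D.sub_mem (Subtype.coe_prop _) a.2
  · obtain ⟨m, hm⟩ : e ⟨v, hv⟩ ∈ movSp g := hmov ▸ trivial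
    refine ⟨(e.symm m : V), ?_⟩
    rw [LinearMap.sub_apply, Module.End.one_apply, hfD, e.apply_symm_apply, ← AddSubgroupClass.coe_sub, ← map_sub]
    rw [LinearMap.sub_apply, Module.End.one_apply] at hm
    rw [hm, e.symm_apply_apply]
  · set W' := (W.comap D.subtype).map e.toLinearMap
    have hdim : Module.finrank F W' = Module.finrank F W := by
      rw [LinearEquiv.finrank_map_eq, (Submodule.comapSubtypeEquivOfLe hWD).finrank_eq]
    rw [← hdim]
    refine hbound hev W' ?_ ?_
    · rintro _ ⟨a, ha, rfl⟩
      refine ⟨e.symm (g (e a)), ?_, e.apply_symm_apply _⟩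
      show ((e.symm (g (e a)) : D) : V) ∈ W
      rw [← hfD]
      exact hW _ ha
    · rintro _ ⟨a, ha, rfl⟩
      exact (he a).trans (hW0 _ ha)

end CfsgLib.OrthPrime
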