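import Cfsg.Agent.Lib.OrthPrime.CharTwo

/-! Invariant non-degenerate subspaces of involutions in characteristic two. -/

set_option autoImplicit false

namespace CfsgLib.OrthPrime

open QuadraticMap CfsgLib.Geometry CfsgLib.OrthMax CfsgLib.PrimeOrderSp

universe u v

variable {F : Type u} [Field F] {V : Type v} [AddCommGroup V] [Module F V]
variable {Q : QuadraticForm F V} {f : Module.End F V}

theorem mov_facts (hf : ∀ v, Q (f v) = Q v) (hn2 : (f - 1) ^ 2 = 0) :
    (∀ x, (f - 1) ((f - 1) x) = 0) ∧ (∀ x y, polar Q ((f - 1) x) ((f - 1) y) = 0) ∧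
      (∀ x y, polar Q ((f - 1) x) y = -polar Q x ((f - 1) y)) := by
  have h0 : ∀ x, (f - 1) ((f - 1) x) = 0 := fun x => by
    rw [← Module.End.mul_apply, ← pow_two, hn2, LinearMap.zero_apply]
  have h1 : ∀ x y, polar Q ((f - 1) x) ((f - 1) y) = 0 := fun x y =>
    polar_range_ker hf ⟨x, rfl⟩ (LinearMap.mem_ker.2 (h0 y))
  refine ⟨h0, h1, fun x y => ?_⟩
  have h := mov_adjoint hf x y
  rwa [apply_eq_add_sub f y, polar_add_right, h1, add_zero] at h

/-- A subspace with non-degenerate moved pairing gives an invariant non-degenerate space of twice the dimension. -/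
theorem pair_space [FiniteDimensional F V] (hf : ∀ v, Q (f v) = Q v) (hn2 : (f - 1) ^ 2 = 0) {Y : Submodule F V}
    (hY : ∀ y ∈ Y, (∀ z ∈ Y, polar Q ((f - 1) y) z = 0) → y = 0) :
    Inv f (Y ⊔ Y.map (f - 1)) ∧ (Y ⊔ Y.map (f - 1)) ⊓ polarPerp Q (Y ⊔ Y.map (f - 1)) = ⊥ ∧
      Module.finrank F (Y ⊔ Y.map (f - 1) : Submodule F V) = 2 * Module.finrank F Y := by
  obtain ⟨h0, h1, h2'⟩ := mov_facts hf hn2
  have hinv : Inv f (Y ⊔ Y.map (f - 1)) := by
    intro x hx
    obtain ⟨y, hy, _, ⟨y', hy', rfl⟩, rfl⟩ := Submodule.mem_sup.1 hx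
    rw [apply_eq_add_sub f (y + (f - 1) y'), map_add, h0, add_zero, add_assoc, ← map_add]
    exact Submodule.add_mem _ (Submodule.mem_sup_left hy)
      (Submodule.mem_sup_right ⟨_, Y.add_mem hy' hy, rfl⟩)
  have key : ∀ y ∈ Y, ∀ y' ∈ Y, (∀ z ∈ Y ⊔ Y.map (f - 1), polar Q z (y + (f - 1) y') = 0) → y = 0 ∧ y' = 0 := by
    intro y hy y' hy' h
    have hy0 : y = 0 := hY y hy fun z hz => by
      have e := h _ (Submodule.mem_sup_right ⟨z, hz, rfl⟩)
      rw [polar_add_right, h1, add_zero, h2', neg_eq_zero] at e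
      rw [polar_comm]
      exact e
    subst hy0
    refine ⟨rfl, hY y' hy' fun z hz => ?_⟩
    have e := h z (Submodule.mem_sup_left hz)
    rw [zero_add] at e
    rw [polar_comm]
    exact e
  refine ⟨hinv, ?_, ?_⟩
  · rw [eq_bot_iff]
    rintro x ⟨hx, hx'⟩
    obtain ⟨y, hy, _, ⟨y', hy', rfl⟩, rfl⟩ := Submodule.mem_sup.1 hx
    obtain ⟨rfl, rfl⟩ := key y hy y' hy' (mem_polarPerp.1 hx')
    simp
  · have hker : Y ⊓ LinearMap.ker (f - 1) = ⊥ := by
      rw [eq_bot_iff]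
      rintro y ⟨hy, hy'⟩
      exact (Submodule.mem_bot F).2 (hY y hy fun z _ => by
        rw [LinearMap.mem_ker.1 hy', polar_zero_left])
    have hdis : Y ⊓ Y.map (f - 1) = ⊥ := le_bot_iff.1 fun x hx => by
      obtain ⟨hx, y', -, rfl⟩ := hx
      exact hker.le ⟨hx, LinearMap.mem_ker.2 (h0 y')⟩
    have h4 := Submodule.finrank_sup_add_finrank_inf_eq Y (Y.map (f - 1))
    have h5 := finrank_map_add_ker (f - 1) Y
    rw [hker, finrank_bot] at h5
    rw [hdis, finrank_bot] at h4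
    omega

theorem inv_perp (hf : ∀ v, Q (f v) = Q v) (hn2 : (f - 1) ^ 2 = 0) {D P : Submodule F V}
    (hD : Inv f D) (hP : Inv f P) : Inv f (D ⊓ polarPerp Q P) := fun x hx => ⟨hD x hx.1, mem_polarPerp.2 fun z hz => by
  obtain ⟨h0, h1, h2'⟩ := mov_facts hf hn2
  rw [apply_eq_add_sub f x, polar_add_right, mem_polarPerp.1 hx.2 z hz, zero_add, ← neg_eq_zero, ← h2']
  exact mem_polarPerp.1 hx.2 _ (inv_sub_one hP z hz)⟩

variable [FiniteDimensional F V]

theorem span_line_pairing {u : V} (hu : polar Q ((f - 1) u) u ≠ 0) :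
    ∀ y ∈ Submodule.span F {u}, (∀ z ∈ Submodule.span F {u}, polar Q ((f - 1) y) z = 0) → y = 0 := by
  intro y hy h
  obtain ⟨c, rfl⟩ := Submodule.mem_span_singleton.1 hy
  have e := h u (Submodule.mem_span_singleton_self u)
  rw [map_smul, polar_smul_left'] at e
  rw [(mul_eq_zero.1 e).resolve_right hu, zero_smul]

/-- The plane spanned by `u` and its displacement. -/
theorem plane_of_vec (hf : ∀ v, Q (f v) = Q v) (hn2 : (f - 1) ^ 2 = 0) {u : V}
    (hu : polar Q ((f - 1) u) u ≠ 0) {D : Submodule F V} (hi : Inv f D) (huD : u ∈ D) :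
    Submodule.span F ({u, (f - 1) u} : Set V) ≤ D ∧ Inv f (Submodule.span F ({u, (f - 1) u} : Set V)) ∧
      Submodule.span F ({u, (f - 1) u} : Set V) ⊓ polarPerp Q (Submodule.span F ({u, (f - 1) u} : Set V)) = ⊥ ∧
      Module.finrank F (Submodule.span F ({u, (f - 1) u} : Set V)) = 2 := by
  obtain ⟨h1, h2, h3⟩ := pair_space hf hn2 (span_line_pairing hu)
  have e : Submodule.span F ({u, (f - 1) u} : Set V) =
      Submodule.span F {u} ⊔ (Submodule.span F {u}).map (f - 1) := by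
    rw [Submodule.map_span, Set.image_singleton, ← Submodule.span_union, Set.singleton_union]
  rw [finrank_span_singleton (fun h => hu (by rw [h, map_zero, polar_zero_left])), mul_one] at h3
  refine ⟨Submodule.span_le.2 ?_, e ▸ h1, e ▸ h2, e ▸ h3⟩
  rintro x (rfl | rfl)
  exacts [huD, inv_sub_one hi _ huD]

/-- A pairing vector whose complement is again of that kind or is fixed. -/
theorem exists_good_vec (hf : ∀ v, Q (f v) = Q v) (hn2 : (f - 1) ^ 2 = 0) {D : Submodule F V}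
    (hi : Inv f D) (hD : D ⊓ polarPerp Q D = ⊥) (hc : ∃ u ∈ D, polar Q ((f - 1) u) u ≠ 0) :
    ∃ u ∈ D, polar Q ((f - 1) u) u ≠ 0 ∧
      ((∃ v ∈ D ⊓ polarPerp Q (Submodule.span F ({u, (f - 1) u} : Set V)), polar Q ((f - 1) v) v ≠ 0) ∨
        ∀ v ∈ D ⊓ polarPerp Q (Submodule.span F ({u, (f - 1) u} : Set V)), (f - 1) v = 0) := by
  obtain ⟨h0, h1, h2'⟩ := mov_facts hf hn2
  obtain ⟨u, hu, hcu⟩ := hc
  obtain ⟨hPD, hPi, hP, -⟩ := plane_of_vec hf hn2 hcu hi hu
  obtain ⟨hC, -, -, -, -⟩ := exists_orth_compl hD hPD hP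
  set C := D ⊓ polarPerp Q (Submodule.span F ({u, (f - 1) u} : Set V))
  by_cases hgood : ∃ v ∈ C, polar Q ((f - 1) v) v ≠ 0
  · exact ⟨u, hu, hcu, Or.inl hgood⟩
  push Not at hgood
  by_cases hzero : ∀ v ∈ C, (f - 1) v = 0
  · exact ⟨u, hu, hcu, Or.inr hzero⟩
  push Not at hzero
  obtain ⟨w, hw, hnw⟩ := hzero
  have hCi : Inv f C := inv_perp hf hn2 hi hPi
  obtain ⟨z, hz, hg⟩ : ∃ z ∈ C, polar Q ((f - 1) w) z ≠ 0 := by
    by_contra h
    push Not at h
    exact hnw ((Submodule.mem_bot F).1 (hC ▸ ⟨inv_sub_one hCi w hw, mem_polarPerp.2 fun z hz => by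
      rw [polar_comm]; exact h z hz⟩))
  have huP : u ∈ Submodule.span F ({u, (f - 1) u} : Set V) := Submodule.subset_span (by simp)
  have hnuP : (f - 1) u ∈ Submodule.span F ({u, (f - 1) u} : Set V) := Submodule.subset_span (by simp)
  have o1 : ∀ c ∈ C, polar Q ((f - 1) u) c = 0 := fun c hc => mem_polarPerp.1 hc.2 _ hnuP
  have o2 : ∀ c ∈ C, polar Q ((f - 1) c) u = 0 := fun c hc => by
    rw [h2', polar_comm, o1 c hc, neg_zero]
  set c := polar Q ((f - 1) u) u
  set g := polar Q ((f - 1) w) z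
  have hww : polar Q ((f - 1) w) w = 0 := hgood w hw
  have hcu' : polar Q ((f - 1) (u + w)) (u + w) = c := by
    rw [map_add, polar_add_left, polar_add_right, polar_add_right, o1 w hw, o2 w hw, hww]
    ring
  have hu'0 : polar Q ((f - 1) (u + w)) (u + w) ≠ 0 := hcu'.symm ▸ hcu
  refine ⟨u + w, D.add_mem hu hw.1, hu'0, Or.inl ?_⟩
  set x := g • u - c • z
  set b := -polar Q (u + w) x / polar Q (u + w) ((f - 1) (u + w))
  have hne : polar Q (u + w) ((f - 1) (u + w)) ≠ 0 := by rw [polar_comm]; exact hu'0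
  have hxD : x ∈ D := D.sub_mem (D.smul_mem _ hu) (D.smul_mem _ hz.1)
  have hnux : polar Q ((f - 1) (u + w)) x = 0 := by
    simp only [x, map_add, polar_add_left, polar_sub_right, polar_smul_right', o1 z hz, o2 w hw]
    ring
  have hxx : polar Q ((f - 1) x) x = g * g * c := by
    simp only [x, map_sub, map_smul, polar_sub_left, polar_smul_left', polar_sub_right, polar_smul_right',
      o1 z hz, o2 z hz, hgood z hz]
    ring
  refine ⟨x + b • (f - 1) (u + w), ⟨D.add_mem hxD (D.smul_mem _ (inv_sub_one hi _ (D.add_mem hu hw.1))),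
    mem_polarPerp.2 fun y hy => ?_⟩, ?_⟩
  · obtain ⟨s, t, rfl⟩ := Submodule.mem_span_pair.1 hy
    rw [polar_add_left, polar_smul_left', polar_smul_left', polar_add_right Q (u + w) x,
      polar_add_right Q ((f - 1) (u + w)) x, polar_smul_right', polar_smul_right', hnux, h1]
    simp only [b]
    rw [div_mul_cancel₀ _ hne]
    ring
  · rw [map_add, map_smul, h0, smul_zero, add_zero, polar_add_right, polar_smul_right', h1, mul_zero, add_zero,
      hxx]
    exact mul_ne_zero (mul_ne_zero hg hg) hcu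

variable [Fintype F] [DecidableEq F] [CharP F 2]

omit [FiniteDimensional F V] [Fintype F] [DecidableEq F] in
theorem map_mov (hf : ∀ v, Q (f v) = Q v) (u : V) : Q ((f - 1) u) = polar Q ((f - 1) u) u := by
  have h := hf u
  rw [apply_eq_add_sub f u, CfsgLib.Geometry.map_add', polar_comm] at h
  have h2 : (2 : F) = 0 := CharTwo.two_eq_zero
  linear_combination h - polar Q ((f - 1) u) u * h2

/-- Planes of both types. -/
theorem exists_plane_two (hf : ∀ v, Q (f v) = Q v) (hn2 : (f - 1) ^ 2 = 0) {D : Submodule F V}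
    (hi : Inv f D) (hD : D ⊓ polarPerp Q D = ⊥) (hd : 4 ≤ Module.finrank F D)
    (hc : ∃ u ∈ D, polar Q ((f - 1) u) u ≠ 0) {s : ℤ} (hs : s = 1 ∨ s = -1) :
    ∃ W ≤ D, Inv f W ∧ W ⊓ polarPerp Q W = ⊥ ∧ Module.finrank F W = 2 ∧ sgn Q W = s := by
  obtain ⟨h0, h1, h2'⟩ := mov_facts hf hn2
  have h2 : (2 : F) = 0 := CharTwo.two_eq_zero
  obtain ⟨u, hu, hcu, hcase⟩ := exists_good_vec hf hn2 hi hD hc
  obtain ⟨hPD, hPi, hP, hPd⟩ := plane_of_vec hf hn2 hcu hi hu
  obtain ⟨hC, -, -, -, hCd⟩ := exists_orth_compl hD hPD hP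
  set C := D ⊓ polarPerp Q (Submodule.span F ({u, (f - 1) u} : Set V))
  have huP : u ∈ Submodule.span F ({u, (f - 1) u} : Set V) := Submodule.subset_span (by simp)
  have hnuP : (f - 1) u ∈ Submodule.span F ({u, (f - 1) u} : Set V) := Submodule.subset_span (by simp)
  obtain ⟨z, hzD, hzk, hzu, hQz⟩ : ∃ z ∈ D, (f - 1) z = 0 ∧ polar Q u z = 0 ∧ Q z ≠ 0 := by
    rcases hcase with ⟨v, hv, hcv⟩ | hzero
    · refine ⟨(f - 1) v, inv_sub_one hi v hv.1, h0 v, ?_, ?_⟩
      · rw [← neg_eq_zero, ← h2']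
        exact mem_polarPerp.1 hv.2 _ hnuP
      · rw [map_mov hf]; exact hcv
    · obtain ⟨z, hz, hQz⟩ : ∃ z ∈ C, Q z ≠ 0 := by
        by_contra hh
        push Not at hh
        have := two_mul_singular_le hC le_rfl hh
        omega
      exact ⟨z, hz.1, hzero z hz, mem_polarPerp.1 hz.2 u huP, hQz⟩
  set c := polar Q ((f - 1) u) u
  have hval : ∀ a : F, ∃ u' ∈ D, Q u' = a ∧ polar Q ((f - 1) u') u' = c := fun a => by
    obtain ⟨t, ht⟩ := FiniteField.isSquare_of_char_two (ringChar.eq F 2) ((a - Q u) / Q z)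
    refine ⟨u + t • z, D.add_mem hu (D.smul_mem _ hzD), ?_, ?_⟩
    · rw [CfsgLib.Geometry.map_add', CfsgLib.Geometry.map_smul', polar_smul_right', hzu, ← ht,
        div_mul_cancel₀ _ hQz]
      ring
    · have hnz : polar Q ((f - 1) u) z = 0 := by rw [h2', hzk, polar_zero_right, neg_zero]
      rw [map_add, map_smul, hzk, smul_zero, add_zero, polar_add_right, polar_smul_right', hnz, mul_zero, add_zero]
  rcases hs with rfl | rfl
  · obtain ⟨u', hu', hQu', hcu'⟩ := hval 0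
    obtain ⟨a, b, e, d⟩ := plane_of_vec hf hn2 (hcu'.symm ▸ hcu) hi hu'
    refine ⟨_, a, b, e, d, sgn_plus ⟨Submodule.span F {u'}, Submodule.span_mono (by simp), ?_, ?_⟩⟩
    · intro x hx
      obtain ⟨t, rfl⟩ := Submodule.mem_span_singleton.1 hx
      rw [CfsgLib.Geometry.map_smul', hQu', mul_zero]
    · rw [finrank_span_singleton (fun h => hcu (by rw [← hcu', h, map_zero, polar_zero_left])), d]
  · obtain ⟨β, hβ⟩ : ∃ β : F, ∀ t : F, t * t + t ≠ β := by
      by_contra hh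
      push Not at hh
      have hinj : Function.Injective fun t : F => t * t + t := Finite.injective_iff_surjective.2 hh
      exact zero_ne_one (hinj (show (0 : F) * 0 + 0 = 1 * 1 + 1 by linear_combination -h2))
    obtain ⟨u', hu', hQu', hcu'⟩ := hval (c * β)
    obtain ⟨a, b, e, d⟩ := plane_of_vec hf hn2 (hcu'.symm ▸ hcu) hi hu'
    refine ⟨_, a, b, e, d, sgn_minus ?_⟩
    rintro ⟨U, hU, hU0, hUd⟩
    obtain ⟨x, hx, hxne⟩ := Submodule.exists_mem_ne_zero_of_ne_bot (p := U) (fun h => by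
      rw [h, finrank_bot, d] at hUd; omega)
    obtain ⟨s, t, rfl⟩ := Submodule.mem_span_pair.1 (hU hx)
    have hQ0 := hU0 _ hx
    rw [CfsgLib.Geometry.map_add', CfsgLib.Geometry.map_smul', CfsgLib.Geometry.map_smul', polar_smul_left',
      polar_smul_right', polar_comm, hcu', hQu', map_mov hf, hcu'] at hQ0
    have hQ' : s * s * β + s * t + t * t = 0 :=
      (mul_eq_zero.1 (show c * (s * s * β + s * t + t * t) = 0 by linear_combination hQ0)).resolve_left hcu
    by_cases hs0 : s = 0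
    · subst hs0
      have ht0 : t = 0 := by
        have : t * t = 0 := by linear_combination hQ'
        exact mul_self_eq_zero.1 this
      simp [ht0] at hxne
    · refine hβ (t / s) ?_
      field_simp
      linear_combination hQ' - s ^ 2 * β * h2

/-- A non-alternating involution fixes subspaces of every type. -/
theorem exists_nd_nonalt (hf : ∀ v, Q (f v) = Q v) (hn2 : (f - 1) ^ 2 = 0) :
    ∀ (h : ℕ) (D : Submodule F V), Inv f D → D ⊓ polarPerp Q D = ⊥ → 1 ≤ h →
      2 * h < Module.finrank F D → Even (Module.finrank F D) →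
      ((∃ u ∈ D, polar Q ((f - 1) u) u ≠ 0) ∨ ∀ u ∈ D, (f - 1) u = 0) →
      ∀ s : ℤ, (s = 1 ∨ s = -1) →
      ∃ W ≤ D, Inv f W ∧ W ⊓ polarPerp Q W = ⊥ ∧ Module.finrank F W = 2 * h ∧ sgn Q W = s := by
  intro h
  induction h with
  | zero => intro D _ _ h1; omega
  | succ h ih =>
    intro D hi hD _ hlt hev hcase s hs
    rcases hcase with hc | hzero
    swap
    · obtain ⟨W, hW, hWn, hWd, hWs⟩ := exists_nd_dim hD (k := h + 1) hs (fun h0 => absurd h0 (Nat.succ_ne_zero h))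
        (Or.inl hlt)
      refine ⟨W, hW, fun x hx => ?_, hWn, hWd, hWs⟩
      rwa [apply_eq_add_sub f x, hzero x (hW hx), add_zero]
    obtain ⟨j, hj⟩ := hev
    rcases Nat.eq_zero_or_pos h with rfl | hh
    · exact exists_plane_two hf hn2 hi hD (by omega) hc hs
    obtain ⟨u, hu, hcu, hcase'⟩ := exists_good_vec hf hn2 hi hD hc
    obtain ⟨hPD, hPi, hP, hPd⟩ := plane_of_vec hf hn2 hcu hi hu
    obtain ⟨hC, -, -, hoC, hCd⟩ := exists_orth_compl hD hPD hP
    have hmul : ∀ σ : ℤ, (σ = 1 ∨ σ = -1) → (s * σ = 1 ∨ s * σ = -1) := by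
      intro σ hσ; rcases hs with h | h <;> rcases hσ with h' | h' <;> simp [h, h']
    obtain ⟨W, hW, hWi, hWn, hWd, hWs⟩ := ih _ (inv_perp hf hn2 hi hPi) hC hh (by omega) ⟨j - 1, by omega⟩ hcase'
      _ (hmul _ (sgn_cases (Q := Q) (Submodule.span F ({u, (f - 1) u} : Set V))))
    have ho : ∀ a ∈ Submodule.span F ({u, (f - 1) u} : Set V), ∀ b ∈ W, polar Q a b = 0 :=
      fun a ha b hb => hoC a ha b (hW hb)
    obtain ⟨hn, hd⟩ := nondeg_sup hP hWn ho
    refine ⟨_ ⊔ W, sup_le hPD (hW.trans inf_le_left), Inv.sup hPi hWi, hn, ?_, ?_⟩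
    · have h4 := Submodule.finrank_sup_add_finrank_inf_eq (Submodule.span F ({u, (f - 1) u} : Set V)) W
      rw [hd.eq_bot, finrank_bot, hPd, hWd] at h4
      omega
    · rw [sgn_sup hP hWn ho (hPd ▸ even_two) (hWd ▸ even_two_mul h), hWs,
        mul_comm s, ← mul_assoc, sgn_sq, one_mul]

/-- An alternating involution: a moved plus piece and a fixed piece. -/
theorem exists_nd_alt (hQ : (polarBilin Q).Nondegenerate) (hf : ∀ v, Q (f v) = Q v) (hn2 : (f - 1) ^ 2 = 0)
    (halt : ∀ u, polar Q ((f - 1) u) u = 0) {k d : ℕ} (hn : Module.finrank F V = 2 * d)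
    (hk : Module.finrank F (LinearMap.range (f - 1)) = k) :
    k ≤ d ∧ (k = d → sgn Q ⊤ = 1) ∧ ∀ (y z : ℕ) (s : ℤ), Even y → y ≤ k → (s = 1 ∨ s = -1) → (z = 0 → s = 1) →
      (z + k < d ∨ (z + k = d ∧ s = sgn Q ⊤)) →
      ∃ W : Submodule F V, Inv f W ∧ W ⊓ polarPerp Q W = ⊥ ∧ Module.finrank F W = 2 * (y + z) ∧ sgn Q W = s := by
  obtain ⟨h0, h1, h2'⟩ := mov_facts hf hn2
  set n := f - 1 with hndef
  obtain ⟨C, hC⟩ := Submodule.exists_isCompl (LinearMap.ker n)
  let α : LinearMap.BilinForm F V := (polarBilin Q).compl₁₂ n LinearMap.id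
  have hCpair : ∀ y ∈ C, (∀ z ∈ C, polar Q (n y) z = 0) → y = 0 := fun y hy h => by
    refine Submodule.disjoint_def.1 hC.disjoint y (LinearMap.mem_ker.2 (hQ.1 (n y) fun z => ?_)) hy
    obtain ⟨a, ha, b, hb, rfl⟩ := Submodule.mem_sup.1 (hC.sup_eq_top.symm ▸ (Submodule.mem_top : z ∈ (⊤ : Submodule F V)))
    rw [polarBilin_apply_apply, polar_add_right, h2', LinearMap.mem_ker.1 ha, polar_zero_right, neg_zero, zero_add,
      h b hb]
  have hCd : Module.finrank F C = k := by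
    have e1 := Submodule.finrank_add_eq_of_isCompl hC
    have e2 := LinearMap.finrank_range_add_finrank_ker n
    omega
  obtain ⟨hV'i, hV', hV'd⟩ := pair_space hf hn2 hCpair
  set V' := C ⊔ C.map n
  have htop : (⊤ : Submodule F V) ⊓ polarPerp Q ⊤ = ⊥ :=
    nondeg_iff.1 fun u _ hu' => hQ.1 u fun v => hu' v trivial
  obtain ⟨hX, hdis, hsup, hoX, hXd⟩ := exists_orth_compl htop le_top hV'
  rw [finrank_top, hn, hV'd, hCd] at hXd
  set X := ⊤ ⊓ polarPerp Q V'
  have hplus : ∀ Y ≤ C, (∀ y ∈ Y, (∀ z ∈ Y, polar Q (n y) z = 0) → y = 0) → Plus Q (Y ⊔ Y.map n) := by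
    intro Y hYC hY
    have hker : Y ⊓ LinearMap.ker n = ⊥ := by
      rw [eq_bot_iff]
      rintro y ⟨hy, hy'⟩
      exact (Submodule.mem_bot F).2 (hY y hy fun z _ => by rw [LinearMap.mem_ker.1 hy', polar_zero_left])
    have h5 := finrank_map_add_ker n Y
    rw [hker, finrank_bot, add_zero] at h5
    refine ⟨Y.map n, le_sup_right, ?_, by rw [(pair_space hf hn2 hY).2.2, h5]⟩
    rintro _ ⟨u, -, rfl⟩
    rw [hndef, map_mov hf]
    exact halt u
  have hsgn : sgn Q ⊤ = sgn Q X := by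
    have e := sgn_sup hV' hX hoX (hV'd ▸ even_two_mul _) ⟨d - k, by omega⟩
    rw [hsup, sgn_plus (hplus C le_rfl hCpair), one_mul] at e
    exact e
  refine ⟨by omega, fun hkd => ?_, fun y z s hy hyk hs hz0 hz => ?_⟩
  · rw [hsgn, Submodule.finrank_eq_zero.1 (show Module.finrank F X = 0 by omega), sgn_bot]
  obtain ⟨m, b, hb1, hb2, hb3⟩ := exists_sympBasis_of_nondeg (B := α) (fun u => halt u) C hCpair
  obtain ⟨t, ht⟩ := hy
  have hmk : k = m + m := by
    rw [← hCd, Module.finrank_eq_card_basis b, Fintype.card_sum, Fintype.card_fin]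
  let e : Fin t ⊕ Fin t → Fin m ⊕ Fin m := Sum.map (Fin.castLE (by omega)) (Fin.castLE (by omega))
  have he : Function.Injective e := Function.Injective.sumMap (Fin.castLE_injective _) (Fin.castLE_injective _)
  have hg : LinearIndependent F fun i => (b (e i) : V) :=
    (b.linearIndependent.comp e he).map' C.subtype C.ker_subtype
  set Y := Submodule.span F (Set.range fun i => (b (e i) : V))
  have hYC : Y ≤ C := Submodule.span_le.2 (by rintro _ ⟨i, rfl⟩; exact Subtype.coe_prop _)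
  have hYd : Module.finrank F Y = y := by
    rw [finrank_span_eq_card hg, Fintype.card_sum, Fintype.card_fin, ht]
  have hcomm : ∀ a c : V, polar Q (n a) c = polar Q (n c) a := fun a c => by
    rw [h2', polar_comm]
    linear_combination (-(polar Q (n c) a)) * (CharTwo.two_eq_zero : (2 : F) = 0)
  have g1 : ∀ i j : Fin m, polar Q (n (b (Sum.inl i) : V)) (b (Sum.inr j) : V) = if i = j then 1 else 0 := hb1
  have g2 : ∀ i j : Fin m, polar Q (n (b (Sum.inl i) : V)) (b (Sum.inl j) : V) = 0 := hb2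
  have g3 : ∀ i j : Fin m, polar Q (n (b (Sum.inr i) : V)) (b (Sum.inr j) : V) = 0 := hb3
  have hYpair : ∀ x ∈ Y, (∀ x' ∈ Y, polar Q (n x) x' = 0) → x = 0 := by
    intro x hx hxx
    obtain ⟨c, rfl⟩ := (Submodule.mem_span_range_iff_exists_fun F).1 hx
    refine Finset.sum_eq_zero fun i _ => ?_
    suffices c i = 0 by rw [this, zero_smul]
    have hco : ∀ j, ∑ i, c i * polar Q (n (b (e i) : V)) (b (e j) : V) = 0 := fun j => by
      have h3 := hxx (b (e j) : V) (Submodule.subset_span ⟨j, rfl⟩)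
      rw [← polarBilin_apply_apply, map_sum, map_sum, LinearMap.sum_apply] at h3
      simpa [polarBilin_apply_apply] using h3
    rcases i with i | i
    · have h4 := hco (Sum.inr i)
      simpa [Fintype.sum_sum_type, e, g1, g3] using h4
    · have h4 := hco (Sum.inl i)
      simpa [Fintype.sum_sum_type, e, g1, g2, hcomm (b (Sum.inr _) : V), Fin.castLE_inj] using h4
  obtain ⟨hW₁i, hW₁, hW₁d⟩ := pair_space hf hn2 hYpair
  have hW₁V : Y ⊔ Y.map n ≤ V' := sup_le_sup hYC (Submodule.map_mono hYC)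
  obtain ⟨E, hEX, hE, hEd, hEs⟩ := exists_nd_dim hX (k := z) hs hz0 (by
    rcases hz with h | ⟨h, h'⟩
    · exact Or.inl (by omega)
    · exact Or.inr ⟨by omega, h'.trans hsgn⟩)
  have ho : ∀ a ∈ Y ⊔ Y.map n, ∀ b ∈ E, polar Q a b = 0 := fun a ha b hb => hoX a (hW₁V ha) b (hEX hb)
  obtain ⟨hn', hd'⟩ := nondeg_sup hW₁ hE ho
  refine ⟨(Y ⊔ Y.map n) ⊔ E, Inv.sup hW₁i fun x hx => ?_, hn', ?_, ?_⟩
  · have hnx : n x = 0 := hQ.1 (n x) fun w => by
      obtain ⟨a, ha, b, hb, rfl⟩ := Submodule.mem_sup.1 (hsup.symm ▸ (Submodule.mem_top : w ∈ (⊤ : Submodule F V)))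
      have e1 : polar Q (n x) a = 0 := by
        rw [h2', polar_comm, hoX _ (inv_sub_one hV'i a ha) x (hEX hx), neg_zero]
      have e2 : polar Q (n x) b = 0 := by
        obtain ⟨c₁, hc₁, c₂, hc₂, hcc⟩ := Submodule.mem_sup.1 (hC.sup_eq_top.symm ▸ (Submodule.mem_top : x ∈ (⊤ : Submodule F V)))
        rw [← hcc, map_add, LinearMap.mem_ker.1 hc₁, zero_add]
        exact hoX _ (Submodule.mem_sup_right ⟨c₂, hc₂, rfl⟩) b hb
      rw [polarBilin_apply_apply, polar_add_right, e1, e2, add_zero]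
    rw [apply_eq_add_sub f x, ← hndef, hnx, add_zero]
    exact hx
  · have h4 := Submodule.finrank_sup_add_finrank_inf_eq (Y ⊔ Y.map n) E
    rw [hd'.eq_bot, finrank_bot, hW₁d, hYd, hEd] at h4
    omega
  · rw [sgn_sup hW₁ hE ho (hW₁d ▸ even_two_mul _) (hEd ▸ even_two_mul z), sgn_plus (hplus Y hYC hYpair), one_mul, hEs]

end CfsgLib.OrthPrime
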