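import Cfsg.Agent.Lib.OrthPrime.UnipModel

/-! Elements of order `p` fixing no member of a class of non-degenerate subspaces. -/

set_option autoImplicit false

namespace CfsgLib.OrthPrime

open QuadraticMap CfsgLib.Geometry CfsgLib.OrthMax CfsgLib.PrimeOrderSp

universe u v

variable {F : Type u} [Field F] {V : Type v} [AddCommGroup V] [Module F V] [FiniteDimensional F V]
variable {Q : QuadraticForm F V} {f : Module.End F V}

theorem ker_eq_perp_range (hQ : (polarBilin Q).Nondegenerate) (hf : ∀ v, Q (f v) = Q v) :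
    LinearMap.ker (f - 1) = polarPerp Q (LinearMap.range (f - 1)) := by
  refine le_antisymm (fun z hz => mem_polarPerp.2 fun y hy => polar_range_ker hf hy hz) fun z hz => ?_
  have htop : (⊤ : Submodule F V) ⊓ polarPerp Q ⊤ = ⊥ :=
    nondeg_iff.1 fun u _ hu' => hQ.1 u fun v => hu' v trivial
  exact (perp_range_iff (W := ⊤) hf (fun v _ => Submodule.mem_top) htop Submodule.mem_top).1
    fun u _ => mem_polarPerp.1 hz _ ⟨u, rfl⟩

theorem finrank_ker_sub_one (hQ : (polarBilin Q).Nondegenerate) (hf : ∀ v, Q (f v) = Q v) :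
    Module.finrank F (LinearMap.ker (f - 1)) + Module.finrank F (LinearMap.range (f - 1)) = Module.finrank F V := by
  rw [ker_eq_perp_range hQ hf]
  exact finrank_polarPerp hQ _

omit [FiniteDimensional F V] in
/-- A twist is injective when `f + 1` is, e.g. for unipotent `f` in odd characteristic. -/
theorem add_one_inj (h2 : (2 : F) ≠ 0) (hn : (f - 1) ^ 3 = 0) (w : V) (h : f w + w = 0) : w = 0 := by
  have h1 : (f - 1) w = (-2 : F) • w := by
    rw [LinearMap.sub_apply, Module.End.one_apply, eq_neg_of_add_eq_zero_left h]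
    module
  have h3 : ((f - 1) ^ (3 : ℕ) : Module.End F V) w = ((-2 : F) * ((-2) * (-2))) • w := by
    simp only [pow_succ, pow_zero, one_mul, Module.End.mul_apply, h1, map_smul, smul_smul]
  rw [hn, LinearMap.zero_apply] at h3
  exact (smul_eq_zero.1 h3.symm).resolve_left (by simp [h2])

/-- Parity of the rank on an invariant non-degenerate subspace. -/
theorem even_rank_unip (hf : ∀ v, Q (f v) = Q v) (hn : (f - 1) ^ 3 = 0)
    (hcase : (2 : F) ≠ 0 ∨ ∀ u, Q ((f - 1) u) = 0) {W : Submodule F V} (hi : Inv f W)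
    (hW : W ⊓ polarPerp Q W = ⊥) : Even (Module.finrank F (W.map (f - 1))) := by
  rcases hcase with h2 | hts
  · exact even_rank hf hi hW (f + 1) (fun w hw => W.add_mem (hi w hw) hw)
      (fun w _ h => add_one_inj h2 hn w h) (fun u _ => mov_alt_two hf u)
  · exact even_rank hf hi hW 1 (fun w hw => hw) (fun w _ h => h) (fun u _ => mov_alt_ts hf hts u)

/-- When the moved space is totally singular: dimensions, and plus type without a fixed remainder. -/
theorem ts_mov_dims (hQ : (polarBilin Q).Nondegenerate) (hf : ∀ v, Q (f v) = Q v)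
    (hts : ∀ u, Q ((f - 1) u) = 0) {W : Submodule F V} (hi : Inv f W) (hW : W ⊓ polarPerp Q W = ⊥) :
    ∃ r x, Module.finrank F (W.map (f - 1)) = r ∧ Even r ∧ Module.finrank F W = 2 * r + x ∧
      x + 2 * Module.finrank F (LinearMap.range (f - 1)) ≤ Module.finrank F V ∧
      (x = 0 → Plus Q W) := by
  have hrk : LinearMap.range (f - 1) ≤ LinearMap.ker (f - 1) := by
    rw [ker_eq_perp_range hQ hf]
    intro z hz
    refine mem_polarPerp.2 fun y hy => polar_eq_zero_of_singular (W := LinearMap.range (f - 1)) ?_ hy hz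
    rintro _ ⟨u, rfl⟩
    exact hts u
  obtain ⟨x, h1, -, h3, -⟩ := nd_dims hf hi hW
  have h0 : (W.map (f - 1)).map (f - 1) = ⊥ := by
    rw [eq_bot_iff]
    rintro _ ⟨z, ⟨u, -, rfl⟩, rfl⟩
    exact (Submodule.mem_bot F).2 (LinearMap.mem_ker.1 (hrk ⟨u, rfl⟩))
  rw [h0, finrank_bot, add_zero] at h1
  rw [inf_eq_right.2 hrk] at h3
  have hk := finrank_ker_sub_one hQ hf
  have hn : (f - 1) ^ 3 = 0 := LinearMap.ext fun z => by
    rw [pow_succ', pow_two, Module.End.mul_apply, Module.End.mul_apply,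
      LinearMap.mem_ker.1 (hrk ⟨z, rfl⟩), map_zero, LinearMap.zero_apply]
  refine ⟨_, x, rfl, even_rank_unip hf hn (Or.inr hts) hi hW, h1, by omega, fun hx => ?_⟩
  refine ⟨W.map (f - 1), Submodule.map_le_iff_le_comap.2 (inv_sub_one hi), ?_, by omega⟩
  rintro _ ⟨u, -, rfl⟩
  exact hts u

/-- A remainder filling the whole fixed quotient of plus type keeps the subspace of plus type. -/
theorem plus_of_full_fix (hQ : (polarBilin Q).Nondegenerate) (hf : ∀ v, Q (f v) = Q v) {U : Submodule F V}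
    (hU : ∀ u ∈ U, Q u = 0) (hRU : LinearMap.range (f - 1) ≤ U)
    (hUd : Module.finrank F (LinearMap.range (f - 1)) < Module.finrank F U) {W : Submodule F V} (hi : Inv f W)
    (hW : W ⊓ polarPerp Q W = ⊥) (hdim : Module.finrank F W + 2 * Module.finrank F (LinearMap.range (f - 1)) =
      2 * Module.finrank F (W.map (f - 1)) + Module.finrank F V)
    (hd2 : Module.finrank F W ≤ 2 * Module.finrank F (W.map (f - 1)) + 2) : Plus Q W := by
  set n := f - 1
  have hk : LinearMap.ker n = polarPerp Q (LinearMap.range n) := ker_eq_perp_range hQ hf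
  have hUk : U ≤ LinearMap.ker n := hk ▸ fun z hz => mem_polarPerp.2 fun y hy =>
    polar_eq_zero_of_singular hU (hRU hy) hz
  have hrk : LinearMap.range n ≤ LinearMap.ker n := hRU.trans hUk
  have hts : ∀ u, Q (n u) = 0 := fun u => hU _ (hRU ⟨u, rfl⟩)
  have hKR : LinearMap.ker n ≤ (W ⊓ LinearMap.ker n) ⊔ LinearMap.range n := by
    refine (Submodule.eq_of_le_of_finrank_le (sup_le inf_le_right hrk) ?_).ge
    have h4 := Submodule.finrank_sup_add_finrank_inf_eq (W ⊓ LinearMap.ker n) (LinearMap.range n)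
    have h5 : Module.finrank F (W ⊓ LinearMap.ker n ⊓ LinearMap.range n : Submodule F V) ≤
        Module.finrank F (W.map n) := by
      refine Submodule.finrank_mono ?_
      rw [← inf_range_eq hf hi hW]
      exact fun z hz => ⟨hz.1.1, hz.2⟩
    have h6 := finrank_map_add_ker n W
    have h7 : Module.finrank F (LinearMap.ker n) + Module.finrank F (LinearMap.range n) = Module.finrank F V :=
      finrank_ker_sub_one hQ hf
    omega
  obtain ⟨z, hz, hzR⟩ := SetLike.exists_of_lt (lt_of_le_of_ne hRU fun h => by rw [h] at hUd; omega)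
  obtain ⟨k, hkK, ρ, hρ, hkρ⟩ := Submodule.mem_sup.1 (hKR (hUk hz))
  have hQk : Q k = 0 := by
    have h1 : polar Q k ρ = 0 := (polar_comm (⇑Q) k ρ).trans (polar_range_ker hf hρ hkK.2)
    have h2 := hU z hz
    rw [← hkρ, CfsgLib.Geometry.map_add', h1, hU ρ (hRU hρ), add_zero, add_zero] at h2
    exact h2
  have hknot : k ∉ W.map n := fun h => hzR (by
    rw [← hkρ]
    exact Submodule.add_mem _ (LinearMap.map_le_range h) hρ)
  have hk0 : k ≠ 0 := fun h => hknot (h ▸ Submodule.zero_mem _)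
  have hUW : W.map n ⊔ Submodule.span F {k} ≤ W := sup_le
    (Submodule.map_le_iff_le_comap.2 (inv_sub_one hi)) ((Submodule.span_singleton_le_iff_mem _ _).2 hkK.1)
  have hsing : ∀ u ∈ W.map n ⊔ Submodule.span F {k}, Q u = 0 := by
    intro u hu
    obtain ⟨a, ⟨t, -, rfl⟩, b, hb, rfl⟩ := Submodule.mem_sup.1 hu
    obtain ⟨c, rfl⟩ := Submodule.mem_span_singleton.1 hb
    rw [CfsgLib.Geometry.map_add', hts, CfsgLib.Geometry.map_smul', hQk,
      polar_range_ker hf ⟨t, rfl⟩ (Submodule.smul_mem _ c hkK.2)]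
    ring
  have hd : Module.finrank F (W.map n ⊔ Submodule.span F {k} : Submodule F V) = Module.finrank F (W.map n) + 1 := by
    have h4 := Submodule.finrank_sup_add_finrank_inf_eq (W.map n) (Submodule.span F {k})
    have h5 : W.map n ⊓ Submodule.span F {k} = ⊥ := (Submodule.disjoint_span_singleton' hk0).2 hknot |>.eq_bot
    rw [h5, finrank_bot, finrank_span_singleton hk0] at h4
    omega
  refine ⟨_, hUW, hsing, ?_⟩
  have h8 := two_mul_singular_le hW hUW hsing
  omega

/-- With cube zero, rank of the square at most two and a fixed part inside the moved one. -/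
theorem cube_dims (h2 : (2 : F) ≠ 0) (hf : ∀ v, Q (f v) = Q v) (hn : (f - 1) ^ 3 = 0) {x₀ s : ℕ}
    (hx : Module.finrank F (LinearMap.ker (f - 1)) ≤
      Module.finrank F (LinearMap.ker (f - 1) ⊓ LinearMap.range (f - 1) : Submodule F V) + x₀)
    (hs : Module.finrank F (LinearMap.range ((f - 1) * (f - 1))) ≤ s) {W : Submodule F V} (hi : Inv f W)
    (hW : W ⊓ polarPerp Q W = ⊥) :
    ∃ r r₂ x, Module.finrank F (W.map (f - 1)) = r ∧ Even r ∧ Module.finrank F W + r₂ = 2 * r + x ∧ r₂ ≤ s ∧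
      x ≤ x₀ ∧ Module.finrank F (W.map (f - 1) ⊓ LinearMap.ker (f - 1) : Submodule F V) + r₂ = r ∧
      Module.finrank F (W.map (f - 1) ⊓ LinearMap.ker (f - 1) : Submodule F V) + x =
        Module.finrank F (W ⊓ LinearMap.ker (f - 1) : Submodule F V) := by
  obtain ⟨x, h1, h2', h3, h4⟩ := nd_dims hf hi hW
  have h5 := finrank_map_add_ker (f - 1) (W.map (f - 1))
  exact ⟨_, _, x, rfl, even_rank_unip hf hn (Or.inl h2) hi hW, h1, h2'.trans hs, by omega, by omega, h4⟩

omit [FiniteDimensional F V] in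
theorem sing_map_inf_ker (h2 : (2 : F) ≠ 0) (hf : ∀ v, Q (f v) = Q v) (W : Submodule F V) :
    ∀ u ∈ W.map (f - 1) ⊓ LinearMap.ker (f - 1), Q u = 0 := fun u hu => by
  have h := polar_range_ker hf (LinearMap.map_le_range hu.1) hu.2
  rw [polar_self'] at h
  exact (mul_eq_zero.1 h).resolve_left h2

theorem plus_of_dims (h2 : (2 : F) ≠ 0) (hf : ∀ v, Q (f v) = Q v) {W : Submodule F V} (hi : Inv f W)
    (h : 2 * Module.finrank F (W.map (f - 1) ⊓ LinearMap.ker (f - 1) : Submodule F V) = Module.finrank F W) :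
    Plus Q W :=
  ⟨_, inf_le_left.trans (Submodule.map_le_iff_le_comap.2 (inv_sub_one hi)), sing_map_inf_ker h2 hf W, h⟩

/-- Isometric odd-dimensional spaces have the same class. -/
theorem class_eq (h2 : (2 : F) ≠ 0) {W W₀ : Submodule F V} (hW₀ : W₀ ⊓ polarPerp Q W₀ = ⊥)
    (e : W ≃ₗ[F] W₀) (he : ∀ w : W, Q (e w : V) = Q (w : V)) {h : ℕ} (hd : Module.finrank F W₀ = 2 * h + 1)
    {U : Submodule F V} (hUW : U ≤ W) (hU : ∀ u ∈ U, Q u = 0) (hUd : Module.finrank F U = h)
    {v : V} (hv : v ∈ W) (hvU : ∀ u ∈ U, polar Q u v = 0)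
    {U₀ : Submodule F V} (hUW₀ : U₀ ≤ W₀) (hU₀ : ∀ u ∈ U₀, Q u = 0) (hU₀d : Module.finrank F U₀ = h)
    {v₀ : V} (hv₀ : v₀ ∈ W₀) (hv₀U : ∀ u ∈ U₀, polar Q u v₀ = 0) (hQv₀ : Q v₀ ≠ 0) :
    ∃ t : F, Q v = t * t * Q v₀ := by
  classical
  set R := Q.comp W₀.subtype
  have hR := nondeg_comp hW₀
  let U₁ : Submodule F W₀ := (U.comap W.subtype).map e.toLinearMap
  let U₂ : Submodule F W₀ := U₀.comap W₀.subtype
  have hU₁ : ∀ z ∈ U₁, R z = 0 := by
    rintro _ ⟨x, hx, rfl⟩
    exact (he x).trans (hU _ hx)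
  have hU₁d : Module.finrank F U₁ = h := by
    rw [(Submodule.equivMapOfInjective _ e.injective _).symm.finrank_eq,
      (Submodule.comapSubtypeEquivOfLe hUW).finrank_eq, hUd]
  have hU₂d : Module.finrank F U₂ = h := (Submodule.comapSubtypeEquivOfLe hUW₀).finrank_eq.trans hU₀d
  let φ : U₁ →ₗ[F] W₀ := U₂.subtype ∘ₗ (LinearEquiv.ofFinrankEq U₁ U₂ (hU₁d.trans hU₂d.symm)).toLinearMap
  obtain ⟨g, hg, hgφ⟩ := quad_witt hR U₁ φ (U₂.subtype_injective.comp (LinearEquiv.injective _))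
    fun x => (hU₀ _ (Subtype.coe_prop ((LinearEquiv.ofFinrankEq U₁ U₂ (hU₁d.trans hU₂d.symm)) x))).trans
      (hU₁ _ x.2).symm
  set z := g (e ⟨v, hv⟩)
  have hRz : R z = Q v := (mem_orth.1 hg _).trans (he _)
  have hzU : z ∈ polarPerp R U₂ := mem_polarPerp.2 fun y hy => by
    obtain ⟨x, hx⟩ := (LinearEquiv.ofFinrankEq U₁ U₂ (hU₁d.trans hU₂d.symm)).surjective ⟨y, hy⟩
    have hy' : g (x : W₀) = y := (hgφ x).trans (congrArg Subtype.val hx)
    obtain ⟨x', hx', hxe⟩ := x.2
    have hpp : ∀ a b : W, polar R (g (e a)) (g (e b)) = polar Q (a : V) (b : V) := fun a b => by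
      have h1 : ∀ c : W, R (g (e c)) = Q (c : V) := fun c => (mem_orth.1 hg _).trans (he c)
      simp only [polar, ← map_add, h1]
      rfl
    rw [← hy', ← hxe]
    exact (hpp x' ⟨v, hv⟩).trans (hvU _ hx')
  have hle : U₂ ⊔ Submodule.span F {(⟨v₀, hv₀⟩ : W₀)} ≤ polarPerp R U₂ := sup_le
    (fun a ha => mem_polarPerp.2 fun b hb => polar_eq_zero_of_singular (Q := R) (fun c hc => hU₀ _ hc) hb ha)
    ((Submodule.span_singleton_le_iff_mem _ _).2 (mem_polarPerp.2 fun y hy =>
      (polar_comp Q W₀ y ⟨v₀, hv₀⟩).trans (hv₀U _ hy)))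
  have hne : (⟨v₀, hv₀⟩ : W₀) ≠ 0 := fun h0 => hQv₀ (by
    rw [show v₀ = 0 from congrArg Subtype.val h0, QuadraticMap.map_zero])
  have heq := Submodule.eq_of_le_of_finrank_le hle (by
    have h4 := Submodule.finrank_sup_add_finrank_inf_eq U₂ (Submodule.span F {(⟨v₀, hv₀⟩ : W₀)})
    have h5 : U₂ ⊓ Submodule.span F {(⟨v₀, hv₀⟩ : W₀)} = ⊥ :=
      ((Submodule.disjoint_span_singleton' hne).2 fun h0 => hQv₀ (hU₀ _ h0)).eq_bot
    rw [h5, finrank_bot, finrank_span_singleton hne] at h4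
    have h6 : Module.finrank F (polarPerp R U₂) + Module.finrank F U₂ = Module.finrank F W₀ :=
      finrank_polarPerp hR U₂
    rw [hU₂d] at h6 h4
    omega)
  rw [← heq] at hzU
  obtain ⟨a, ha, b, hb, hab⟩ := Submodule.mem_sup.1 hzU
  obtain ⟨t, rfl⟩ := Submodule.mem_span_singleton.1 hb
  refine ⟨t, hRz.symm.trans ?_⟩
  rw [← hab, CfsgLib.Geometry.map_add', CfsgLib.Geometry.map_smul', polar_smul_right',
    show polar R a (⟨v₀, hv₀⟩ : W₀) = 0 from (polar_comp Q W₀ a ⟨v₀, hv₀⟩).trans (hv₀U _ ha),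
    show R a = 0 from hU₀ _ ha]
  simp [R]

/-- Every odd-dimensional non-degenerate space has such a decomposition. -/
theorem exists_class_vec [Finite F] {W : Submodule F V} (hW : W ⊓ polarPerp Q W = ⊥) {h : ℕ}
    (hd : Module.finrank F W = 2 * h + 1) :
    ∃ U ≤ W, (∀ u ∈ U, Q u = 0) ∧ Module.finrank F U = h ∧ ∃ v ∈ W, (∀ u ∈ U, polar Q u v = 0) ∧ Q v ≠ 0 := by
  obtain ⟨U, hUW, hU, hUd⟩ := exists_ts_dim hW (a := h) (Or.inl (by omega))
  obtain ⟨v, hv, hQv⟩ := exists_anisotropic_perp (nondeg_comp hW) (U := U.comap W.subtype)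
    (by rw [(Submodule.comapSubtypeEquivOfLe hUW).finrank_eq, hUd, hd]; omega)
  exact ⟨U, hUW, hU, hUd, v, v.2, fun u hu => (polar_comp Q W ⟨u, hUW hu⟩ v).symm.trans
    (mem_polarPerp.1 hv _ hu), hQv⟩

end CfsgLib.OrthPrime
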