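import Cfsg.Agent.Lib.OrthPrime.NDTwo
import Cfsg.Agent.Lib.OrthPrime.UnipND
import Mathlib.Algebra.CharP.Algebra
import Mathlib.Algebra.CharP.Lemmas

/-! Conversions for the statements on non-degenerate subspaces. -/

set_option autoImplicit false

namespace CfsgLib.OrthPrime

open QuadraticMap CfsgLib.Geometry CfsgLib.OrthMax CfsgLib.PrimeOrderSp

section Conv

variable {F : Type*} [Field F] {ι : Type} [Fintype ι] {Q : QuadraticForm F (ι → F)}

theorem nondegOn_iff (W : Submodule F (ι → F)) :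
    Cfsg.Geo.IsNondegenerateOn (polar ⇑Q) W ↔ W ⊓ polarPerp Q W = ⊥ := by
  constructor
  · intro h
    rw [eq_bot_iff]
    rintro x ⟨hx, hx'⟩
    by_contra hne
    obtain ⟨⟨y, hy, hne'⟩, -⟩ := h x hx hne
    exact hne' (mem_polarPerp.1 hx' y hy)
  · intro h w hw hw0
    have : ∃ x ∈ W, polar Q x w ≠ 0 := by
      by_contra hc
      push Not at hc
      exact hw0 ((Submodule.mem_bot F).1 (h ▸ ⟨hw, mem_polarPerp.2 hc⟩))
    obtain ⟨x, hx, hne⟩ := this
    exact ⟨⟨x, hx, hne⟩, x, hx, by rwa [polar_comm]⟩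

theorem plusTypeOn_iff (W : Submodule F (ι → F)) : Cfsg.Geo.IsPlusTypeOn ⇑Q W ↔ sgn Q W = 1 :=
  (show Cfsg.Geo.IsPlusTypeOn ⇑Q W ↔ Plus Q W from Iff.rfl).trans plus_iff_sgn

theorem not_plusTypeOn_iff (W : Submodule F (ι → F)) : ¬ Cfsg.Geo.IsPlusTypeOn ⇑Q W ↔ sgn Q W = -1 := by
  rw [plusTypeOn_iff]
  rcases sgn_cases (Q := Q) W with h | h <;> simp [h]

theorem isometricFor_iff (W W₀ : Submodule F (ι → F)) :
    Cfsg.Geo.AreIsometricFor ⇑Q W W₀ ↔ InOrbit Q W₀ W :=
  ⟨fun h => InOrbit.symm h, fun h => InOrbit.symm h⟩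

theorem exists_class {s : ℤ} [Fintype F] [DecidableEq F] (hQ : (polarBilin Q).Nondegenerate) (hs : s = 1 ∨ s = -1)
    {m : ℕ} (hm : Even m) (hm0 : 0 < m) (hmn : m < Fintype.card ι) :
    ∃ W₀ : Submodule F (ι → F), W₀ ⊓ polarPerp Q W₀ = ⊥ ∧ Module.finrank F W₀ = m ∧ sgn Q W₀ = s ∧
      ∀ W : Submodule F (ι → F), (Module.finrank F W = m ∧ W ⊓ polarPerp Q W = ⊥ ∧ sgn Q W = s) ↔ InOrbit Q W₀ W := by
  obtain ⟨k, hk⟩ := hm
  have htop : (⊤ : Submodule F (ι → F)) ⊓ polarPerp Q ⊤ = ⊥ :=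
    nondeg_iff.1 fun u _ hu' => hQ.1 u fun v => hu' v trivial
  obtain ⟨W₀, -, hW₀, hW₀d, hW₀s⟩ := exists_nd_dim htop (k := k) hs (fun h => by omega)
    (Or.inl (by rw [finrank_top, Module.finrank_fintype_fun_eq_card]; omega))
  refine ⟨W₀, hW₀, by omega, hW₀s, fun W => ⟨fun ⟨h1, h2, h3⟩ =>
    exists_isometry_sub hW₀ h2 hW₀d (by omega) (hW₀s.trans h3.symm),
    fun h => ⟨h.finrank_eq.trans (by omega), h.nondeg hW₀, h.sgn_eq.trans hW₀s⟩⟩⟩

end Conv

theorem unit_even {i : ℕ} (h : Even i) : unit i = 1 := if_pos h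

theorem unit_odd {i : ℕ} (h : Odd i) : unit i = 2 := if_neg (Nat.not_even_iff_odd.2 h)

theorem pow_unit_odd {i : ℕ} (h : Odd i) (j : ℕ) : ((-1 : ℤ) ^ (j * unit i)) = 1 := by
  rw [unit_odd h, mul_comm, pow_mul, neg_one_sq, one_pow]

theorem div_sum {n m i : ℕ} (hi : 0 < i) (h : m % i = n % i) :
    (n + m - 2 * (n % i)) / i = n / i + m / i := by
  have h1 := Nat.div_add_mod n i
  have h2 := Nat.div_add_mod m i
  rw [show n + m - 2 * (n % i) = i * (n / i + m / i) by rw [mul_add]; omega, Nat.mul_div_cancel_left _ hi]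

theorem neg_one_pow_eq_one' (j : ℕ) : ((-1 : ℤ) ^ j = 1) ↔ Even j := neg_one_pow_eq_one_iff_even (by norm_num)

theorem neg_one_pow_eq_neg_one' (j : ℕ) : ((-1 : ℤ) ^ j = -1) ↔ Odd j :=
  neg_one_pow_eq_neg_one_iff_odd (by norm_num)

section Char

variable {F : Type*} [Field F] {V : Type*} [AddCommGroup V] [Module F V]

theorem pow_char_eq_one {p : ℕ} [Fact p.Prime] [CharP F p] {f : Module.End F V} {k : ℕ} (hk : k ≤ p)
    (hf : (f - 1) ^ k = 0) : f ^ p = 1 := by
  rcases subsingleton_or_nontrivial V with h | h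
  · exact LinearMap.ext fun v => Subsingleton.elim _ _
  haveI : CharP (Module.End F V) p := charP_of_injective_algebraMap (algebraMap F (Module.End F V)).injective p
  have h1 := add_pow_char_of_commute (R := Module.End F V) (x := f - 1) (y := 1) (p := p) (Commute.one_right _)
  rwa [sub_add_cancel, one_pow, pow_eq_zero_of_le hk hf, zero_add] at h1

theorem ne_one_of_range {f : Module.End F V} (h : Module.finrank F (LinearMap.range (f - 1)) ≠ 0) : f ≠ 1 := fun e => by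
  rw [e, sub_self, LinearMap.range_zero, finrank_bot] at h
  exact h rfl

end Char

section Elements

universe v

variable {F : Type*} [Field F] [Fintype F] {V : Type v} [AddCommGroup V] [Module F V] [FiniteDimensional F V]
variable {Q : QuadraticForm F V}

/-- An element of order `p` fixing no elliptic subspace of odd-dimensional space. -/
theorem exists_p_odd_space {p : ℕ} [Fact p.Prime] [CharP F p] (hQ : (polarBilin Q).Nondegenerate)
    (h2 : (2 : F) ≠ 0) {d : ℕ} (hd : 2 ≤ d) (hn : Module.finrank F V = 2 * d + 1) :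
    ∃ f : Module.End F V, (∀ v, Q (f v) = Q v) ∧ f ^ p = 1 ∧ f ≠ 1 ∧
      ∀ W : Submodule F V, Inv f W → W ⊓ polarPerp Q W = ⊥ → Even (Module.finrank F W) → Plus Q W := by
  have hp : 3 ≤ p := by
    have hp2 : p ≠ 2 := fun h => by
      subst h
      exact h2 (by simpa using CharP.cast_eq_zero F 2)
    have := (Fact.out : p.Prime).two_le
    omega
  have htop : (⊤ : Submodule F V) ⊓ polarPerp Q ⊤ = ⊥ :=
    nondeg_iff.1 fun u _ hu' => hQ.1 u fun v => hu' v trivial
  obtain ⟨U, -, hU, hUd⟩ := exists_ts_dim htop (a := d) (Or.inl (by rw [finrank_top]; omega))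
  rcases Nat.even_or_odd d with ⟨j, hj⟩ | ⟨j, hj⟩
  · obtain ⟨f, hf, hn3, -, hr, -, -, hrU, -⟩ := exists_unip hQ (j := j) (s := 0) hU (by omega) Fin.elim0
      (fun _ _ k => k.elim0) (fun k => k.elim0) fun k => k.elim0
    refine ⟨f, hf, pow_char_eq_one hp hn3, ne_one_of_range (by omega), fun W hi hW he => ?_⟩
    rw [Set.range_eq_empty, Submodule.span_empty, sup_bot_eq] at hrU
    obtain ⟨r, x, -, -, h1, h3, h4⟩ := ts_mov_dims hQ hf (fun u => hU _ (hrU ⟨u, rfl⟩)) hi hW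
    rw [h1, Nat.even_add] at he
    obtain ⟨y, hy⟩ := he.1 (even_two_mul r)
    exact h4 (by omega)
  · obtain ⟨w, hw, hQw⟩ := exists_anisotropic_perp hQ (U := U) (by omega)
    obtain ⟨f, hf, hn3, -, hr, hr2, hk, -, -⟩ := exists_unip hQ (j := j) (s := 1) hU (by omega) (fun _ => w)
      (fun u hu _ => mem_polarPerp.1 hw u hu) (fun k l h => absurd (Subsingleton.elim k l) h)
      fun _ => mul_ne_zero h2 hQw
    refine ⟨f, hf, pow_char_eq_one hp hn3, ne_one_of_range (by omega), fun W hi hW he => ?_⟩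
    have hker := finrank_ker_sub_one hQ hf
    obtain ⟨r, r₂, x, -, hre, h1, h2', h3, h4, -⟩ := cube_dims h2 hf hn3 (x₀ := 0) (s := 1) (by omega) hr2 hi hW
    refine plus_of_dims h2 hf hi ?_
    obtain ⟨a, ha⟩ := he
    omega

end Elements

end CfsgLib.OrthPrime
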