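import Cfsg.Agent.Lib.OrthPrime.NDGlue

/-! Elements of order `p` fixing no non-degenerate subspace of a given odd dimension and class. -/

set_option autoImplicit false

namespace CfsgLib.OrthPrime

open QuadraticMap CfsgLib.Geometry CfsgLib.OrthMax CfsgLib.PrimeOrderSp

universe v

variable {F : Type*} [Field F] [Fintype F] {V : Type v} [AddCommGroup V] [Module F V] [FiniteDimensional F V]
variable {Q : QuadraticForm F V} {p : ℕ} [Fact p.Prime] [CharP F p]

theorem three_le_char (h2 : (2 : F) ≠ 0) : 3 ≤ p := by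
  have hp2 : p ≠ 2 := fun h => by
    subst h
    exact h2 (by simpa using CharP.cast_eq_zero F 2)
  have := (Fact.out : p.Prime).two_le
  omega

theorem exists_p_plus_even (hQ : (polarBilin Q).Nondegenerate) (h2 : (2 : F) ≠ 0) {d : ℕ} (hd : 2 ≤ d)
    (hev : Even d) (hn : Module.finrank F V = 2 * d) (hs : sgn Q ⊤ = 1) :
    ∃ f : Module.End F V, (∀ v, Q (f v) = Q v) ∧ f ^ p = 1 ∧ f ≠ 1 ∧
      ∀ W : Submodule F V, Inv f W → W ⊓ polarPerp Q W = ⊥ → Even (Module.finrank F W) := by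
  have htop : (⊤ : Submodule F V) ⊓ polarPerp Q ⊤ = ⊥ :=
    nondeg_iff.1 fun u _ hu' => hQ.1 u fun v => hu' v trivial
  obtain ⟨j, hj⟩ := hev
  obtain ⟨U, -, hU, hUd⟩ := exists_ts_dim htop (a := d)
    (Or.inr ⟨by rw [finrank_top, hn], plus_iff_sgn.2 hs⟩)
  obtain ⟨f, hf, hn3, -, hr, -, -, hrU, -⟩ := exists_unip hQ (j := j) (s := 0) hU (by omega) Fin.elim0
    (fun _ _ k => k.elim0) (fun k => k.elim0) fun k => k.elim0
  refine ⟨f, hf, pow_char_eq_one (three_le_char h2) hn3, ne_one_of_range (by omega), fun W hi hW => ?_⟩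
  rw [Set.range_eq_empty, Submodule.span_empty, sup_bot_eq] at hrU
  obtain ⟨r, x, -, -, h1, h3, -⟩ := ts_mov_dims hQ hf (fun u => hU _ (hrU ⟨u, rfl⟩)) hi hW
  exact ⟨r, by omega⟩

theorem exists_p_half_odd (hQ : (polarBilin Q).Nondegenerate) (h2 : (2 : F) ≠ 0) {d : ℕ} (hd : 3 ≤ d)
    (hodd : Odd d) (hn : Module.finrank F V = 2 * d) {m : ℕ} (hm : Odd m) :
    ∃ f : Module.End F V, (∀ v, Q (f v) = Q v) ∧ f ^ p = 1 ∧ f ≠ 1 ∧
      ∀ W : Submodule F V, Inv f W → W ⊓ polarPerp Q W = ⊥ → Module.finrank F W ≠ m := by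
  have htop : (⊤ : Submodule F V) ⊓ polarPerp Q ⊤ = ⊥ :=
    nondeg_iff.1 fun u _ hu' => hQ.1 u fun v => hu' v trivial
  obtain ⟨j, hj⟩ := hodd
  obtain ⟨o, ho⟩ := hm
  obtain ⟨U, -, hU, hUd⟩ := exists_ts_dim htop (a := d - 1) (Or.inl (by rw [finrank_top]; omega))
  rcases Nat.even_or_odd o with ⟨a, ha⟩ | ⟨a, ha⟩
  · obtain ⟨w₁, hw₁, hQw₁⟩ := exists_anisotropic_perp hQ (U := U) (by omega)
    obtain ⟨w₂, hw₂, hw12, hQw₂⟩ := exists_anisotropic_perp_two hQ h2 (U := U) (by omega) hw₁ hQw₁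
    have hw : ∀ k, ![w₁, w₂] k ∈ polarPerp Q U := by intro k; fin_cases k <;> simpa
    obtain ⟨f, hf, hn3, -, hr, hr2, hk, -, -⟩ := exists_unip hQ (j := j - 1) (s := 2) hU (by omega) ![w₁, w₂]
      (fun u hu k => mem_polarPerp.1 (hw k) u hu)
      (fun k l h => by fin_cases k <;> fin_cases l <;> simp_all [polar_comm Q w₂ w₁])
      (fun k => by fin_cases k <;> simp [h2, hQw₁, hQw₂])
    refine ⟨f, hf, pow_char_eq_one (three_le_char h2) hn3, ne_one_of_range (by omega), fun W hi hW hWm => ?_⟩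
    have hker := finrank_ker_sub_one hQ hf
    obtain ⟨r, r₂, x, -, ⟨b, hb⟩, h1, h2', h3, -, -⟩ := cube_dims h2 hf hn3 (x₀ := 0) (s := 2) (by omega) hr2 hi hW
    omega
  · obtain ⟨f, hf, hn3, -, hr, -, -, hrU, -⟩ := exists_unip hQ (j := j) (s := 0) hU (by omega) Fin.elim0
      (fun _ _ k => k.elim0) (fun k => k.elim0) fun k => k.elim0
    refine ⟨f, hf, pow_char_eq_one (three_le_char h2) hn3, ne_one_of_range (by omega), fun W hi hW hWm => ?_⟩
    rw [Set.range_eq_empty, Submodule.span_empty, sup_bot_eq] at hrU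
    obtain ⟨r, x, -, ⟨b, hb⟩, h1, h3, -⟩ := ts_mov_dims hQ hf (fun u => hU _ (hrU ⟨u, rfl⟩)) hi hW
    omega

theorem exists_p_class (hQ : (polarBilin Q).Nondegenerate) (h2 : (2 : F) ≠ 0) {d : ℕ} (hd : 2 ≤ d)
    (hev : Even d) (hn : Module.finrank F V = 2 * d) {W₀ : Submodule F V} (hW₀ : W₀ ⊓ polarPerp Q W₀ = ⊥)
    {h : ℕ} (hW₀d : Module.finrank F W₀ = 2 * h + 1) :
    ∃ f : Module.End F V, (∀ v, Q (f v) = Q v) ∧ f ^ p = 1 ∧ f ≠ 1 ∧
      ∀ W : Submodule F V, InOrbit Q W₀ W → ¬ Inv f W := by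
  classical
  obtain ⟨U₀, hU₀W, hU₀, hU₀d, v₀, hv₀, hv₀U, hQv₀⟩ := exists_class_vec hW₀ hW₀d
  obtain ⟨ν, hν⟩ := FiniteField.exists_nonsquare (F := F) (fun h => h2 (by
    haveI := ringChar.of_eq h
    exact CharTwo.two_eq_zero))
  have hν0 : ν ≠ 0 := fun h => hν (h ▸ IsSquare.zero)
  obtain ⟨u₁, hu₁⟩ := exists_represents hQ (by omega) (ν * Q v₀)
  have hQu₁ : Q u₁ ≠ 0 := hu₁ ▸ mul_ne_zero hν0 hQv₀
  have htop : (⊤ : Submodule F V) ⊓ polarPerp Q ⊤ = ⊥ :=
    nondeg_iff.1 fun u _ hu' => hQ.1 u fun v => hu' v trivial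
  set L := Submodule.span F {u₁}
  have hL : L ⊓ polarPerp Q L = ⊥ := by
    rw [eq_bot_iff]
    rintro x ⟨hx, hx'⟩
    obtain ⟨c, rfl⟩ := Submodule.mem_span_singleton.1 hx
    have e1 := mem_polarPerp.1 hx' u₁ (Submodule.mem_span_singleton_self _)
    rw [polar_smul_right', polar_self'] at e1
    rw [(mul_eq_zero.1 e1).resolve_right (mul_ne_zero h2 hQu₁), zero_smul]
    exact Submodule.zero_mem _
  have hLd : Module.finrank F L = 1 := finrank_span_singleton fun h => hQu₁ (by rw [h, QuadraticMap.map_zero])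
  obtain ⟨hC, -, -, hoC, hCd⟩ := exists_orth_compl htop le_top hL
  rw [hLd, finrank_top, hn] at hCd
  obtain ⟨U, hUC, hU, hUd⟩ := exists_ts_dim hC (a := d - 1) (Or.inl (by omega))
  have hu₁U : u₁ ∈ polarPerp Q U := mem_polarPerp.2 fun u hu =>
    (polar_comm (⇑Q) u u₁).trans (hoC u₁ (Submodule.mem_span_singleton_self _) u (hUC hu))
  obtain ⟨u₂, hu₂U, hu12, hQu₂⟩ := exists_anisotropic_perp_two hQ h2 (U := U) (by omega) hu₁U hQu₁
  obtain ⟨j, hj⟩ := hev
  -- which vector enters the long root element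
  set w := if Even h then u₂ else u₁ with hwdef
  have hwU : w ∈ polarPerp Q U := by rw [hwdef]; split_ifs <;> assumption
  have hQw : Q w ≠ 0 := by rw [hwdef]; split_ifs <;> assumption
  obtain ⟨f, hf, hn3, -, hr, hr2, hk, hrU, hkU⟩ := exists_unip hQ (j := j - 1) (s := 1) hU (by omega) (fun _ => w)
    (fun u hu _ => mem_polarPerp.1 hwU u hu) (fun k l h => absurd (Subsingleton.elim k l) h)
    fun _ => mul_ne_zero h2 hQw
  refine ⟨f, hf, pow_char_eq_one (three_le_char h2) hn3, ne_one_of_range (by omega), fun W hWo hi => ?_⟩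
  obtain ⟨e, he⟩ := hWo.symm
  have hW := hWo.nondeg hW₀
  have hWd := hWo.finrank_eq.trans hW₀d
  have hker := finrank_ker_sub_one hQ hf
  obtain ⟨r, r₂, x, hrd, ⟨b, hb⟩, h1, h2', h3, h4, h5⟩ := cube_dims h2 hf hn3 (x₀ := 1) (s := 1) (by omega) hr2 hi hW
  rw [Set.range_const] at hrU hkU
  have hsq : ∀ v, ∀ t : F, Q v = t * t * Q u₁ → Q v ≠ 0 → ∀ s : F, Q v ≠ s * s * Q v₀ := by
    intro v t ht hv s hs
    have ht0 : t ≠ 0 := fun h => hv (by rw [ht, h]; ring)
    refine hν ⟨s / t, ?_⟩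
    rw [hs, hu₁] at ht
    field_simp
    have := mul_right_cancel₀ hQv₀ (show s * s * Q v₀ = t * t * ν * Q v₀ by rw [ht]; ring)
    linear_combination -this
  have hnW : W.map (f - 1) ≤ W := Submodule.map_le_iff_le_comap.2 (inv_sub_one hi)
  set U' := W.map (f - 1) ⊓ LinearMap.ker (f - 1)
  have hU' : ∀ u ∈ U', Q u = 0 := sing_map_inf_ker h2 hf W
  have hU'W : U' ≤ W := inf_le_left.trans hnW
  rcases Nat.even_or_odd h with hhe | hho
  · -- a fixed vector gives the class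
    obtain ⟨a, ha⟩ := hhe
    have hx1 : x = 1 := by omega
    have hU'd : Module.finrank F U' = h := by omega
    obtain ⟨v, hv, hQv⟩ : ∃ v ∈ W ⊓ LinearMap.ker (f - 1), Q v ≠ 0 := by
      by_contra hc
      push Not at hc
      have := two_mul_singular_le hW (inf_le_left : W ⊓ LinearMap.ker (f - 1) ≤ W) hc
      omega
    obtain ⟨s, hs⟩ := class_eq h2 hW₀ e he hW₀d hU'W hU' hU'd hv.1
      (fun u hu => polar_range_ker hf (LinearMap.map_le_range hu.1) hv.2) hU₀W hU₀ hU₀d hv₀ hv₀U hQv₀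
    rw [hwdef, if_pos (show Even h from ⟨a, ha⟩)] at hkU
    have hz := hkU hv.2
    set c := polar Q u₁ v / (2 * Q u₁)
    have hzU : ∀ u ∈ U, polar Q u v = 0 := fun u hu => mem_polarPerp.1 hz u (Submodule.mem_sup_left hu)
    have hz' : v - c • u₁ ∈ polarPerp Q (U ⊔ Submodule.span F {u₁} ⊔ Submodule.span F {u₂}) :=
      mem_polarPerp.2 fun y hy => by
        obtain ⟨y₁, hy₁, y₂, hy₂, rfl⟩ := Submodule.mem_sup.1 hy
        obtain ⟨u, hu, y₃, hy₃, rfl⟩ := Submodule.mem_sup.1 hy₁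
        obtain ⟨c₁, rfl⟩ := Submodule.mem_span_singleton.1 hy₃
        obtain ⟨c₂, rfl⟩ := Submodule.mem_span_singleton.1 hy₂
        simp only [polar_add_left, polar_smul_left', polar_sub_right, polar_smul_right', hzU u hu,
          mem_polarPerp.1 hu₁U u hu, polar_self', div_mul_cancel₀ _ (mul_ne_zero h2 hQu₁), c,
          mem_polarPerp.1 hz u₂ (Submodule.mem_sup_right (Submodule.mem_span_singleton_self _)),
          polar_comm Q u₂ u₁, hu12]
        field_simp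
        ring
    have hT : U ⊔ Submodule.span F {u₁} ⊔ Submodule.span F {u₂} = polarPerp Q U := by
      refine Submodule.eq_of_le_of_finrank_le (sup_le (sup_le (fun z hz => mem_polarPerp.2 fun y hy =>
        polar_eq_zero_of_singular hU hy hz) ((Submodule.span_singleton_le_iff_mem _ _).2 hu₁U))
        ((Submodule.span_singleton_le_iff_mem _ _).2 hu₂U)) ?_
      have hne₁ : u₁ ≠ 0 := fun h => hQu₁ (by rw [h, QuadraticMap.map_zero])
      have hne₂ : u₂ ≠ 0 := fun h => hQu₂ (by rw [h, QuadraticMap.map_zero])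
      have hnot₁ : u₁ ∉ U := fun h => hQu₁ (hU _ h)
      have hnot₂ : u₂ ∉ U ⊔ Submodule.span F {u₁} := fun h => by
        obtain ⟨u, hu, y, hy, hyu⟩ := Submodule.mem_sup.1 h
        obtain ⟨c₁, rfl⟩ := Submodule.mem_span_singleton.1 hy
        have e1 : polar Q (u + c₁ • u₁) u₂ = 0 := by
          rw [polar_add_left, polar_smul_left', mem_polarPerp.1 hu₂U u hu, hu12]; ring
        rw [hyu, polar_self'] at e1
        exact mul_ne_zero h2 hQu₂ e1
      have e1 := Submodule.finrank_sup_add_finrank_inf_eq (U ⊔ Submodule.span F {u₁}) (Submodule.span F {u₂})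
      rw [((Submodule.disjoint_span_singleton' hne₂).2 hnot₂).eq_bot, finrank_bot, finrank_span_singleton hne₂] at e1
      have e2 := Submodule.finrank_sup_add_finrank_inf_eq U (Submodule.span F {u₁})
      rw [((Submodule.disjoint_span_singleton' hne₁).2 hnot₁).eq_bot, finrank_bot, finrank_span_singleton hne₁] at e2
      have e3 := finrank_polarPerp hQ U
      omega
    rw [hT, polarPerp_polarPerp hQ] at hz'
    refine hsq v c ?_ hQv s hs
    have e1 := hU _ hz'
    have e2 : polar Q (v - c • u₁) u₁ = 0 := mem_polarPerp.1 hu₁U _ hz'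
    conv_lhs => rw [← sub_add_cancel v (c • u₁)]
    rw [CfsgLib.Geometry.map_add', e1, CfsgLib.Geometry.map_smul', polar_smul_right', e2]
    ring
  · -- a moved vector gives the class
    obtain ⟨a, ha⟩ := hho
    have hU'd : Module.finrank F U' = h := by omega
    obtain ⟨v, hv, hQv⟩ : ∃ v ∈ W.map (f - 1), Q v ≠ 0 := by
      by_contra hc
      push Not at hc
      have := two_mul_singular_le hW hnW hc
      omega
    obtain ⟨s, hs⟩ := class_eq h2 hW₀ e he hW₀d hU'W hU' hU'd (hnW hv)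
      (fun u hu => (polar_comm (⇑Q) u v).trans (polar_range_ker hf (LinearMap.map_le_range hv) hu.2))
      hU₀W hU₀ hU₀d hv₀ hv₀U hQv₀
    rw [hwdef, if_neg (show ¬ Even h by rw [Nat.even_iff]; omega)] at hrU
    obtain ⟨u, hu, y, hy, hyv⟩ := Submodule.mem_sup.1 (hrU (LinearMap.map_le_range hv))
    obtain ⟨c, rfl⟩ := Submodule.mem_span_singleton.1 hy
    refine hsq v c ?_ hQv s hs
    rw [← hyv, CfsgLib.Geometry.map_add', hU u hu, CfsgLib.Geometry.map_smul', polar_smul_right',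
      mem_polarPerp.1 hu₁U u hu]
    ring

end CfsgLib.OrthPrime
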