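import Cfsg.Agent.Lib.OrthPrime.NDCharTwo
import Cfsg.Agent.Lib.OrthPrime.UnipClass

/-! Even-dimensional classes: the elements used in the statements. -/

set_option autoImplicit false

namespace CfsgLib.OrthPrime

open QuadraticMap CfsgLib.Geometry CfsgLib.OrthMax CfsgLib.PrimeOrderSp

theorem exists_sub_dim {F V : Type*} [Field F] [AddCommGroup V] [Module F V] [FiniteDimensional F V]
    {U : Submodule F V} {a : ℕ} (h : a ≤ Module.finrank F U) : ∃ U' ≤ U, Module.finrank F U' = a := by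
  let b := Module.finBasis F U
  have hg : LinearIndependent F fun k : Fin a => (b (Fin.castLE h k) : V) :=
    (b.linearIndependent.map' U.subtype U.ker_subtype).comp _ (Fin.castLE_injective _)
  exact ⟨_, Submodule.span_le.2 (by rintro _ ⟨k, rfl⟩; exact Subtype.coe_prop _),
    (finrank_span_eq_card hg).trans (Fintype.card_fin a)⟩

universe v

variable {F : Type*} [Field F] {V : Type v} [AddCommGroup V] [Module F V] [FiniteDimensional F V]
variable {Q : QuadraticForm F V}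

theorem plus_no_elliptic (hQ : (polarBilin Q).Nondegenerate) {d : ℕ} (hn : Module.finrank F V = 2 * d)
    {f : Module.End F V} (hf : ∀ v, Q (f v) = Q v) {U : Submodule F V} (hU : ∀ u ∈ U, Q u = 0)
    (hUd : Module.finrank F U = d) (hrU : LinearMap.range (f - 1) ≤ U)
    (hr : d ≤ Module.finrank F (LinearMap.range (f - 1)) + 1) {W : Submodule F V} (hi : Inv f W)
    (hW : W ⊓ polarPerp Q W = ⊥) (he : Even (Module.finrank F W)) :
    Plus Q W ∧ (Module.finrank F (LinearMap.range (f - 1)) = d → Module.finrank F W % 4 = 0) := by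
  obtain ⟨r, x, hrd, ⟨b, hb⟩, h1, h3, h4⟩ := ts_mov_dims hQ hf (fun u => hU _ (hrU ⟨u, rfl⟩)) hi hW
  refine ⟨?_, fun h => by omega⟩
  obtain ⟨a, ha⟩ := he
  rcases Nat.eq_zero_or_pos x with hx | hx
  · exact h4 hx
  · exact plus_of_full_fix hQ hf hU hrU (by omega) hi hW (by omega) (by omega)

/-- An element of order `p` fixing no elliptic subspace of a hyperbolic space. -/
theorem exists_p_no_elliptic [Fintype F] {p : ℕ} [Fact p.Prime] [CharP F p] (hQ : (polarBilin Q).Nondegenerate)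
    {d : ℕ} (hd : 2 ≤ d) (hn : Module.finrank F V = 2 * d) (hs : sgn Q ⊤ = 1) :
    ∃ f : Module.End F V, (∀ v, Q (f v) = Q v) ∧ f ^ p = 1 ∧ f ≠ 1 ∧
      Even (Module.finrank F (LinearMap.range (f - 1))) ∧
      ∀ W : Submodule F V, Inv f W → W ⊓ polarPerp Q W = ⊥ → Even (Module.finrank F W) →
        Plus Q W ∧ (Even d → Module.finrank F W % 4 = 0) := by
  have htop : (⊤ : Submodule F V) ⊓ polarPerp Q ⊤ = ⊥ :=
    nondeg_iff.1 fun u _ hu' => hQ.1 u fun v => hu' v trivial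
  obtain ⟨U, -, hU, hUd⟩ := exists_ts_dim htop (a := d) (Or.inr ⟨by rw [finrank_top, hn], plus_iff_sgn.2 hs⟩)
  obtain ⟨U', hU', hU'd⟩ := exists_sub_dim (U := U) (a := 2 * (d / 2)) (by omega)
  obtain ⟨f, hf, -, hn2, hr, -, -, hrU, -⟩ := exists_unip hQ (j := d / 2) (s := 0) (fun u hu => hU u (hU' hu))
    (by omega) Fin.elim0 (fun _ _ k => k.elim0) (fun k => k.elim0) fun k => k.elim0
  rw [Set.range_eq_empty, Submodule.span_empty, sup_bot_eq] at hrU
  refine ⟨f, hf, pow_char_eq_one (Fact.out : p.Prime).two_le (hn2 rfl), ne_one_of_range (by omega),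
    ⟨d / 2, by omega⟩, fun W hi hW he => ?_⟩
  obtain ⟨h1, h2⟩ := plus_no_elliptic hQ hn hf hU hUd (hrU.trans hU') (by omega) hi hW he
  exact ⟨h1, fun ⟨a, ha⟩ => h2 (by omega)⟩

/-- An element of order two fixing no elliptic subspace of dimension divisible by four. -/
theorem exists_two_no_elliptic [Fintype F] [CharP F 2] (hQ : (polarBilin Q).Nondegenerate) {d : ℕ} (hd : 3 ≤ d)
    (hodd : Odd d) (hn : Module.finrank F V = 2 * d) :
    ∃ f : Module.End F V, (∀ v, Q (f v) = Q v) ∧ f ^ 2 = 1 ∧ f ≠ 1 ∧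
      Even (Module.finrank F (LinearMap.range (f - 1))) ∧
      ∀ W : Submodule F V, Inv f W → W ⊓ polarPerp Q W = ⊥ → Module.finrank F W % 4 = 0 → Plus Q W := by
  haveI : Fact (Nat.Prime 2) := ⟨Nat.prime_two⟩
  have htop : (⊤ : Submodule F V) ⊓ polarPerp Q ⊤ = ⊥ :=
    nondeg_iff.1 fun u _ hu' => hQ.1 u fun v => hu' v trivial
  obtain ⟨j, hj⟩ := hodd
  obtain ⟨U, -, hU, hUd⟩ := exists_ts_dim htop (a := 2 * j) (Or.inl (by rw [finrank_top]; omega))
  obtain ⟨f, hf, -, hn2, hr, -, -, hrU, -⟩ := exists_unip hQ (j := j) (s := 0) hU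
    (by omega) Fin.elim0 (fun _ _ k => k.elim0) (fun k => k.elim0) fun k => k.elim0
  rw [Set.range_eq_empty, Submodule.span_empty, sup_bot_eq] at hrU
  refine ⟨f, hf, pow_char_eq_one le_rfl (hn2 rfl), ne_one_of_range (by omega), ⟨j, by omega⟩, fun W hi hW h4 => ?_⟩
  obtain ⟨r, x, -, ⟨b, hb⟩, h1, h3, hp⟩ := ts_mov_dims hQ hf (fun u => hU _ (hrU ⟨u, rfl⟩)) hi hW
  exact hp (by omega)

universe u

variable {K : Type u} [Field K] [Fintype K] [CharP K 2] {ι : Type} [Fintype ι] [DecidableEq ι]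
variable {R : QuadraticForm K (ι → K)}

/-- Failure in `Ω`, from an involutory isometry of even rank. -/
theorem two_counter (hR : (polarBilin R).Nondegenerate) (hn : 5 ≤ Fintype.card ι) {f : Module.End K (ι → K)}
    (hf : ∀ v, R (f v) = R v) (hff : f ^ 2 = 1) (hf1 : f ≠ 1)
    (hev : Even (Module.finrank K (LinearMap.range (f - 1))))
    {P : Submodule K (ι → K) → Prop}
    (H : ∀ x : GL ι K, x ∈ Cfsg.Geo.omegaGL ⇑R →
      (∃ z : K, ((x ^ 2 : GL ι K) : Matrix ι ι K) = z • (1 : Matrix ι ι K)) →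
      (∀ z : K, (x : Matrix ι ι K) ≠ z • (1 : Matrix ι ι K)) →
      ∃ W, P W ∧ W.map (Matrix.toLin' (x : Matrix ι ι K)) ≤ W) : ∃ W, P W ∧ Inv f W := by
  have h2 : (2 : K) = 0 := CharTwo.two_eq_zero
  obtain ⟨x, hx, hxf⟩ := (two_mem_omega_iff hR hn h2 hf hff).2 hev
  obtain ⟨W, hW, hWi⟩ := H x hx ⟨1, Matrix.toLin'.injective (by
    rw [toLin'_pow, hxf, hff, one_smul, Matrix.toLin'_one, Module.End.one_eq_id])⟩ fun z hz => by
      have hfz : f = z • 1 := by rw [← hxf, hz, map_smul, Matrix.toLin'_one, Module.End.one_eq_id]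
      haveI : Nonempty ι := Fintype.card_pos_iff.1 (by omega)
      obtain ⟨k⟩ := ‹Nonempty ι›
      rw [hfz] at hff
      have h1 := congrFun (LinearMap.congr_fun hff (Pi.single k 1)) k
      rw [smul_pow, one_pow, LinearMap.smul_apply, Module.End.one_apply, Pi.smul_apply, Pi.single_eq_same,
        smul_eq_mul, mul_one] at h1
      refine hf1 ?_
      rw [hfz, show z = 1 from CharTwo.sq_injective (show z ^ 2 = (1 : K) ^ 2 by rw [one_pow, h1]), one_smul]
  rw [hxf, Submodule.map_le_iff_le_comap] at hWi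
  exact ⟨W, hW, fun v hv => hWi hv⟩

/-- Sufficient arithmetic for every element of order two to fix a member of the class. -/
theorem two_fix_nd (hR : (polarBilin R).Nondegenerate) {d h : ℕ} (hd : 3 ≤ d) (hn : Fintype.card ι = 2 * d)
    (h1 : 1 ≤ h) (hhd : h < d) {s : ℤ} (hs : s = 1 ∨ s = -1)
    (hcond : ∀ k, Even k → k ≤ d → (k = d → sgn R ⊤ = 1) → ∃ y z, Even y ∧ y ≤ k ∧ (z = 0 → s = 1) ∧
      (z + k < d ∨ (z + k = d ∧ s = sgn R ⊤)) ∧ y + z = h)
    (x : GL ι K) (hx : x ∈ Cfsg.Geo.omegaGL ⇑R)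
    (hz : ∃ z : K, ((x ^ 2 : GL ι K) : Matrix ι ι K) = z • (1 : Matrix ι ι K)) :
    ∃ W : Submodule K (ι → K), (Module.finrank K W = 2 * h ∧ W ⊓ polarPerp R W = ⊥ ∧ sgn R W = s) ∧
      W.map (Matrix.toLin' (x : Matrix ι ι K)) ≤ W := by
  classical
  obtain ⟨z, hz⟩ := hz
  have h2 : (2 : K) = 0 := CharTwo.two_eq_zero
  have hff := two_scalar_sq hR (by omega) h2 hx hz
  have hev := (two_mem_omega_iff hR (by omega) h2 (omega_preserves hx) hff).1 ⟨x, hx, rfl⟩
  have hf := omega_preserves hx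
  set f := Matrix.toLin' (x : Matrix ι ι K)
  have hn2 := sq_sub_one_eq_zero h2 hff
  have hfr : Module.finrank K (ι → K) = 2 * d := by rw [Module.finrank_fintype_fun_eq_card, hn]
  by_cases hc : ∃ u, polar R ((f - 1) u) u ≠ 0
  · obtain ⟨u, hu⟩ := hc
    obtain ⟨W, -, hWi, hW, hWd, hWs⟩ := exists_nd_nonalt hf hn2 h ⊤ (fun _ _ => Submodule.mem_top)
      (nondeg_iff.1 fun u _ hu' => hR.1 u fun v => hu' v trivial) h1 (by rw [finrank_top]; omega)
      (by rw [finrank_top, hfr]; exact even_two_mul d) (Or.inl ⟨u, Submodule.mem_top, hu⟩) s hs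
    exact ⟨W, ⟨hWd, hW, hWs⟩, Submodule.map_le_iff_le_comap.2 fun v hv => hWi v hv⟩
  push Not at hc
  obtain ⟨hkd, hks, hW⟩ := exists_nd_alt hR hf hn2 hc hfr rfl
  obtain ⟨y, z', hy, hyk, hz0, hzc, hyz⟩ := hcond _ hev hkd hks
  obtain ⟨W, hWi, hWn, hWd, hWs⟩ := hW y z' s hy hyk hs hz0 hzc
  exact ⟨W, ⟨by omega, hWn, hWs⟩, Submodule.map_le_iff_le_comap.2 fun v hv => hWi v hv⟩

end CfsgLib.OrthPrime
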