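import Cfsg.Agent.Lib.OrthPrime.TSEven
import Cfsg.Agent.Lib.OrthPrime.NDApp
import Cfsg.Agent.Lib.OrthPrime.UnipND

/-! Elements of order two modulo scalars and non-degenerate subspaces, odd characteristic. -/

set_option autoImplicit false

namespace CfsgLib.OrthPrime

open QuadraticMap CfsgLib.Geometry CfsgLib.OrthMax CfsgLib.PrimeOrderSp

universe u

variable {F : Type u} [Field F] [Fintype F] {V : Type u} [AddCommGroup V] [Module F V] [FiniteDimensional F V]
variable {Q : QuadraticForm F V}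

omit [Fintype F] in
theorem inj_of_isometry {W : Type u} [AddCommGroup W] [Module F W] {R : QuadraticForm F W}
    (hR : (polarBilin R).Nondegenerate) (g : W →ₗ[F] V) (hg : ∀ w, Q (g w) = R w) : Function.Injective g :=
  (injective_iff_map_eq_zero g).2 fun x hx => hR.1 x fun y => by
    simp only [polarBilin_apply_apply, polar, ← hg, map_add, hx, zero_add, map_zero, QuadraticMap.map_zero]
    ring

omit [Fintype F] in
/-- Embedding a space piece by piece into orthogonal subspaces. -/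
theorem exists_two_part {W₀ A₀ B₀ P P' : Submodule F V} (hW₀ : W₀ ⊓ polarPerp Q W₀ = ⊥)
    (hAB : A₀ ⊔ B₀ = W₀) (hdis : Disjoint A₀ B₀) (hoAB : ∀ a ∈ A₀, ∀ b ∈ B₀, polar Q a b = 0)
    (hoP : ∀ a ∈ P, ∀ b ∈ P', polar Q a b = 0)
    (g : A₀ →ₗ[F] V) (hg : ∀ a : A₀, Q (g a) = Q (a : V)) (hgP : ∀ a, g a ∈ P)
    (g' : B₀ →ₗ[F] V) (hg' : ∀ b : B₀, Q (g' b) = Q (b : V)) (hgP' : ∀ b, g' b ∈ P') :
    ∃ W, InOrbit Q W₀ W ∧ ∀ w ∈ W, ∃ a ∈ W ⊓ P, ∃ b ∈ W ⊓ P', w = a + b := by
  let A₁ : Submodule F W₀ := A₀.comap W₀.subtype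
  let B₁ : Submodule F W₀ := B₀.comap W₀.subtype
  have hA : A₀ ≤ W₀ := hAB ▸ le_sup_left
  have hB : B₀ ≤ W₀ := hAB ▸ le_sup_right
  have hc : IsCompl A₁ B₁ := by
    refine ⟨disjoint_iff.2 (eq_bot_iff.2 fun x hx => Subtype.ext
      (Submodule.disjoint_def.1 hdis _ hx.1 hx.2)), codisjoint_iff.2 (eq_top_iff.2 fun x _ => ?_)⟩
    obtain ⟨p, hp, q, hq, hpq⟩ := Submodule.mem_sup.1 (hAB.symm ▸ x.2 : (x : V) ∈ A₀ ⊔ B₀)
    exact Submodule.mem_sup.2 ⟨⟨p, hA hp⟩, hp, ⟨q, hB hq⟩, hq, Subtype.ext hpq⟩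
  let φ : W₀ →ₗ[F] V := LinearMap.coprod
    (g ∘ₗ (Submodule.comapSubtypeEquivOfLe hA).toLinearMap)
    (g' ∘ₗ (Submodule.comapSubtypeEquivOfLe hB).toLinearMap) ∘ₗ
    (Submodule.prodEquivOfIsCompl A₁ B₁ hc).symm.toLinearMap
  have hφ : ∀ (p : A₁) (q : B₁), φ ((p : W₀) + q) =
      g (Submodule.comapSubtypeEquivOfLe hA p) + g' (Submodule.comapSubtypeEquivOfLe hB q) := by
    intro p q
    have hP : Submodule.prodEquivOfIsCompl A₁ B₁ hc (p, q) = (p : W₀) + q := by simp
    have hP' : (Submodule.prodEquivOfIsCompl A₁ B₁ hc).symm ((p : W₀) + q) = (p, q) :=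
      (LinearEquiv.symm_apply_eq _).2 hP.symm
    simp only [φ, LinearMap.comp_apply, LinearEquiv.coe_coe, hP', LinearMap.coprod_apply]
  have hdec : ∀ x : W₀, ∃ (p : A₁) (q : B₁), (p : W₀) + q = x := fun x =>
    ⟨((Submodule.prodEquivOfIsCompl A₁ B₁ hc).symm x).1, ((Submodule.prodEquivOfIsCompl A₁ B₁ hc).symm x).2,
      by have := (Submodule.prodEquivOfIsCompl A₁ B₁ hc).apply_symm_apply x; simpa using this⟩
  have hφQ : ∀ x : W₀, Q (φ x) = Q (x : V) := fun x => by
    obtain ⟨p, q, rfl⟩ := hdec x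
    rw [hφ, Submodule.coe_add, CfsgLib.Geometry.map_add', CfsgLib.Geometry.map_add', hg, hg',
      hoP _ (hgP _) _ (hgP' _), show polar Q (((p : W₀) : V)) (((q : W₀) : V)) = 0 from hoAB _ p.2 _ q.2]
    rfl
  have hinj : Function.Injective φ := inj_of_isometry (nondeg_comp hW₀) φ hφQ
  refine ⟨LinearMap.range φ, ⟨LinearEquiv.ofInjective φ hinj, hφQ⟩, ?_⟩
  rintro _ ⟨x, rfl⟩
  obtain ⟨p, q, rfl⟩ := hdec x
  refine ⟨φ (p : W₀), ⟨⟨_, rfl⟩, ?_⟩, φ (q : W₀), ⟨⟨_, rfl⟩, ?_⟩, by rw [map_add]⟩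
  · have h1 := hφ p 0
    rw [ZeroMemClass.coe_zero, add_zero, map_zero, map_zero, add_zero] at h1
    exact h1 ▸ hgP _
  · have h1 := hφ 0 q
    rw [ZeroMemClass.coe_zero, zero_add, map_zero, map_zero, zero_add] at h1
    exact h1 ▸ hgP' _

/-- An involution fixes a member of every class. -/
theorem invol_fix_class (hQ : (polarBilin Q).Nondegenerate) (h2 : (2 : F) ≠ 0) {f : Module.End F V}
    (hf : ∀ v, Q (f v) = Q v) (hff : f ^ 2 = 1) (hn : 3 ≤ Module.finrank F V) {W₀ : Submodule F V}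
    (hW₀ : W₀ ⊓ polarPerp Q W₀ = ⊥) (hlt : Module.finrank F W₀ < Module.finrank F V) :
    ∃ W, InOrbit Q W₀ W ∧ Inv f W := by
  obtain ⟨hx, hy, hsum, ho, -⟩ := invol_facts hQ h2 hf hff
  have ho' : ∀ a ∈ movSp f, ∀ b ∈ fixSp f, polar Q a b = 0 := fun a ha b hb =>
    (polar_comm (⇑Q) a b).trans (ho b hb a ha)
  have hfin : ∀ W : Submodule F V,
      (∀ w ∈ W, ∃ a ∈ W ⊓ fixSp f, ∃ b ∈ W ⊓ movSp f, w = a + b) → Inv f W := by
    intro W h w hw
    obtain ⟨a, ha, b, hb, rfl⟩ := h w hw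
    rw [map_add, mem_fixSp.1 ha.2, apply_mov hff hb.2]
    exact W.add_mem ha.1 (W.neg_mem hb.1)
  have hswap : ∀ W : Submodule F V,
      (∀ w ∈ W, ∃ a ∈ W ⊓ movSp f, ∃ b ∈ W ⊓ fixSp f, w = a + b) → Inv f W := fun W h =>
    hfin W fun w hw => by
      obtain ⟨a, ha, b, hb, rfl⟩ := h w hw
      exact ⟨b, hb, a, ha, add_comm _ _⟩
  -- one piece equal to the smaller eigenspace
  have piece : ∀ P P' : Submodule F V, P ⊓ polarPerp Q P = ⊥ → P' ⊓ polarPerp Q P' = ⊥ →
      (∀ a ∈ P, ∀ b ∈ P', polar Q a b = 0) → Module.finrank F P < Module.finrank F W₀ →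
      Module.finrank F W₀ < Module.finrank F P + Module.finrank F P' →
      ∃ W, InOrbit Q W₀ W ∧ ∀ w ∈ W, ∃ a ∈ W ⊓ P, ∃ b ∈ W ⊓ P', w = a + b := by
    intro P P' hP hP' hoP hPW hlt'
    obtain ⟨g₀, hg₀i, hg₀r, hg₀⟩ := exists_nd_isometric h2 hW₀ (nondeg_comp hP) hPW
    have hAn : LinearMap.range g₀ ⊓ polarPerp Q (LinearMap.range g₀) = ⊥ := by
      rw [eq_bot_iff]
      rintro _ ⟨⟨x, rfl⟩, hx'⟩
      have : x = 0 := (nondeg_comp hP).1 x fun y => by
        have h1 := mem_polarPerp.1 hx' (g₀ y) ⟨y, rfl⟩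
        rw [polar_comm] at h1
        rw [polarBilin_apply_apply, ← h1]
        simp only [polar, ← map_add, hg₀]
      rw [this, map_zero]
      exact Submodule.zero_mem _
    obtain ⟨hC, hdis, hsup, hoC, hCd⟩ := exists_orth_compl hW₀ hg₀r hAn
    rw [LinearMap.finrank_range_of_inj hg₀i] at hCd
    obtain ⟨g', -, hg'r, hg'⟩ := exists_nd_isometric h2 hP' (nondeg_comp hC) (by omega)
    let e := LinearEquiv.ofInjective g₀ hg₀i
    exact exists_two_part hW₀ hsup hdis hoC hoP (P.subtype ∘ₗ e.symm.toLinearMap) (fun a => by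
      obtain ⟨x, rfl⟩ := e.surjective a
      rw [LinearMap.comp_apply, LinearEquiv.coe_coe, e.symm_apply_apply]
      exact (hg₀ x).symm) (fun a => Subtype.coe_prop _) g' hg' fun b => hg'r ⟨b, rfl⟩
  rcases lt_or_ge (Module.finrank F W₀) (Module.finrank F (fixSp f)) with h1 | h1
  · obtain ⟨g, hgi, hgr, hg⟩ := exists_nd_isometric h2 hx (nondeg_comp hW₀) h1
    refine ⟨LinearMap.range g, ⟨LinearEquiv.ofInjective g hgi, hg⟩, fun w hw => ?_⟩
    rwa [mem_fixSp.1 (hgr hw)]
  rcases lt_or_ge (Module.finrank F W₀) (Module.finrank F (movSp f)) with h1' | h1'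
  · obtain ⟨g, hgi, hgr, hg⟩ := exists_nd_isometric h2 hy (nondeg_comp hW₀) h1'
    refine ⟨LinearMap.range g, ⟨LinearEquiv.ofInjective g hgi, hg⟩, fun w hw => ?_⟩
    rw [apply_mov hff (hgr hw)]
    exact Submodule.neg_mem _ hw
  rcases h1.lt_or_eq with h3 | h3
  · obtain ⟨W, hW, hWi⟩ := piece _ _ hx hy ho h3 (by omega)
    exact ⟨W, hW, hfin W hWi⟩
  rcases h1'.lt_or_eq with h4 | h4
  · obtain ⟨W, hW, hWi⟩ := piece _ _ hy hx ho' h4 (by omega)
    exact ⟨W, hW, hswap W hWi⟩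
  -- both eigenspaces have the dimension of the class: split off a line
  obtain ⟨v, hv, hQv⟩ := exists_anisotropic_perp (nondeg_comp hW₀) (U := ⊥) (by rw [finrank_bot]; omega)
  have hQv' : Q (v : V) ≠ 0 := hQv
  set L := Submodule.span F {(v : V)}
  have hL : L ⊓ polarPerp Q L = ⊥ := by
    rw [eq_bot_iff]
    rintro x ⟨hx, hx'⟩
    obtain ⟨c, rfl⟩ := Submodule.mem_span_singleton.1 hx
    have e1 := mem_polarPerp.1 hx' (v : V) (Submodule.mem_span_singleton_self _)
    rw [polar_smul_right', polar_self'] at e1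
    rw [(mul_eq_zero.1 e1).resolve_right (mul_ne_zero h2 hQv'), zero_smul]
    exact Submodule.zero_mem _
  have hLW : L ≤ W₀ := (Submodule.span_singleton_le_iff_mem _ _).2 v.2
  have hLd : Module.finrank F L = 1 := finrank_span_singleton fun h => hQv' (by rw [h, QuadraticMap.map_zero])
  obtain ⟨hC, hdis, hsup, hoC, hCd⟩ := exists_orth_compl hW₀ hLW hL
  obtain ⟨g, -, hgr, hg⟩ := exists_nd_isometric h2 hy (nondeg_comp hL) (by omega)
  obtain ⟨g', -, hg'r, hg'⟩ := exists_nd_isometric h2 hx (nondeg_comp hC) (by omega)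
  obtain ⟨W, hW, hWi⟩ := exists_two_part hW₀ hsup hdis hoC ho' g hg (fun a => hgr ⟨a, rfl⟩) g' hg'
    fun b => hg'r ⟨b, rfl⟩
  exact ⟨W, hW, hswap W hWi⟩

/-- Invariant non-degenerate subspaces of a square root of `-1`. -/
theorem exists_neg_sq_sub (h2 : (2 : F) ≠ 0) {f : Module.End F V} (hf : ∀ v, Q (f v) = Q v)
    (hff : ∀ v, f (f v) = -v) (h : ℕ) : ∀ D : Submodule F V, Inv f D → D ⊓ polarPerp Q D = ⊥ →
      2 * h ≤ Module.finrank F D + 1 →
      ∃ W ≤ D, Inv f W ∧ W ⊓ polarPerp Q W = ⊥ ∧ Module.finrank F W = 2 * h := by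
  induction h with
  | zero => exact fun D _ _ _ => ⟨⊥, bot_le, fun v hv => by
      rw [(Submodule.mem_bot F).1 hv, map_zero]; exact Submodule.zero_mem _, bot_inf_eq _, by simp⟩
  | succ h ih =>
    intro D hi hD hd
    obtain ⟨v, hv, hQv⟩ : ∃ v ∈ D, Q v ≠ 0 := by
      by_contra hc
      push Not at hc
      have hle : D ≤ D ⊓ polarPerp Q D := fun x hx =>
        ⟨hx, mem_polarPerp.2 fun y hy => polar_eq_zero_of_singular hc hy hx⟩
      rw [hD, le_bot_iff] at hle
      rw [hle, finrank_bot] at hd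
      omega
    have hvv : polar Q v v ≠ 0 := by rw [polar_self']; exact mul_ne_zero h2 hQv
    have hp : ∀ a b, polar Q (f a) (f b) = polar Q a b := fun a b => by simp only [polar, ← map_add, hf]
    have hvw : polar Q v (f v) = 0 := by
      have h1 := hp v (f v)
      rw [hff, polar_neg_right, polar_comm Q (f v) v] at h1
      exact (mul_eq_zero.1 (show (2 : F) * polar Q v (f v) = 0 by linear_combination -h1)).resolve_left h2
    have hww : polar Q (f v) (f v) = polar Q v v := hp v v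
    set E := Submodule.span F ({v, f v} : Set V)
    have hco : ∀ a b : F, polar Q v (a • v + b • f v) = a * polar Q v v ∧
        polar Q (f v) (a • v + b • f v) = b * polar Q v v := fun a b => by
      simp only [polar_add_right, polar_smul_right', hvw, hww, polar_comm Q (f v) v]
      constructor <;> ring
    have hE : E ⊓ polarPerp Q E = ⊥ := by
      rw [eq_bot_iff]
      rintro x ⟨hx, hx'⟩
      obtain ⟨a, b, rfl⟩ := Submodule.mem_span_pair.1 hx
      have h1 := mem_polarPerp.1 hx' v (Submodule.subset_span (by simp))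
      have h1' := mem_polarPerp.1 hx' (f v) (Submodule.subset_span (by simp))
      rw [(hco a b).1] at h1
      rw [(hco a b).2] at h1'
      simp [(mul_eq_zero.1 h1).resolve_right hvv, (mul_eq_zero.1 h1').resolve_right hvv]
    have hli : LinearIndependent F ![v, f v] := LinearIndependent.pair_iff.2 fun a b hab => by
      have h1 := hco a b
      rw [hab, polar_zero_right, polar_zero_right] at h1
      exact ⟨(mul_eq_zero.1 h1.1.symm).resolve_right hvv, (mul_eq_zero.1 h1.2.symm).resolve_right hvv⟩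
    have hEd : Module.finrank F E = 2 := by
      have h1 := finrank_span_eq_card hli
      rw [Matrix.range_cons_cons_empty, Fintype.card_fin] at h1
      exact h1
    have hED : E ≤ D := Submodule.span_le.2 (by rintro x (rfl | rfl); exacts [hv, hi v hv])
    have hEi : Inv f E := fun x hx => by
      obtain ⟨a, b, rfl⟩ := Submodule.mem_span_pair.1 hx
      rw [map_add, map_smul, map_smul, hff]
      exact Submodule.mem_span_pair.2 ⟨-b, a, by module⟩
    obtain ⟨hC, hdis, -, ho, hCd⟩ := exists_orth_compl hD hED hE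
    have hCi : Inv f (D ⊓ polarPerp Q E) := fun x hx => ⟨hi x hx.1, mem_polarPerp.2 fun z hz => by
      have h1 := hp (f z) x
      rw [hff, polar_neg_left, mem_polarPerp.1 hx.2 _ (hEi z hz), neg_eq_zero] at h1
      exact h1⟩
    obtain ⟨W, hWle, hWi, hW, hWd⟩ := ih _ hCi hC (by omega)
    have ho' : ∀ a ∈ E, ∀ b ∈ W, polar Q a b = 0 := fun a ha b hb => ho a ha b (hWle hb)
    obtain ⟨hn, hd'⟩ := nondeg_sup hE hW ho'
    refine ⟨E ⊔ W, sup_le hED (hWle.trans inf_le_left), Inv.sup hEi hWi, hn, ?_⟩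
    have h4 := Submodule.finrank_sup_add_finrank_inf_eq E W
    rw [hd'.eq_bot, finrank_bot, hEd, hWd] at h4
    omega

theorem neg_sq_sgn (hQ : (polarBilin Q).Nondegenerate) (h2 : (2 : F) ≠ 0) {k : ℕ}
    (hn : Module.finrank F V = 2 * k) {f : Module.End F V} (hf : ∀ v, Q (f v) = Q v) (hff : ∀ v, f (f v) = -v) :
    sgn Q ⊤ = dSgn (Fintype.card F) k := by
  classical
  let e : V ≃ₗ[F] V := LinearEquiv.ofLinearMap f (-f)
    (LinearMap.ext fun v => by simp [hff]) (LinearMap.ext fun v => by simp [hff])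
  let g : orth Q := ⟨e, fun v => hf v⟩
  have htop : (⊤ : Submodule F V) ⊓ polarPerp Q ⊤ = ⊥ :=
    nondeg_iff.1 fun u _ hu' => hQ.1 u fun v => hu' v trivial
  exact (neg_sq_invariant hQ h2 (reflGroup_eq_orth_of_two_ne hQ h2) k ⊤ htop
    (by rw [finrank_top, hn]) g (fun v hv => by
      have : v = 0 := (Submodule.mem_bot F).1 (htop ▸ ⟨Submodule.mem_top, hv⟩)
      rw [this, map_zero]) (fun _ _ => Submodule.mem_top) (fun v _ => hff v)).2

/-- A square root of `-1` fixes a member of a class exactly when the class has the type it allows. -/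
theorem neg_sq_class (hQ : (polarBilin Q).Nondegenerate) (h2 : (2 : F) ≠ 0) {f : Module.End F V}
    (hf : ∀ v, Q (f v) = Q v) (hff : ∀ v, f (f v) = -v) {W₀ : Submodule F V}
    (hW₀ : W₀ ⊓ polarPerp Q W₀ = ⊥) :
    (∃ W, InOrbit Q W₀ W ∧ Inv f W) ↔
      (Even (Module.finrank F W₀) ∧ sgn Q W₀ = dSgn (Fintype.card F) (Module.finrank F W₀ / 2)) := by
  have key : ∀ W : Submodule F V, Inv f W → W ⊓ polarPerp Q W = ⊥ →
      Even (Module.finrank F W) ∧ sgn Q W = dSgn (Fintype.card F) (Module.finrank F W / 2) := by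
    intro W hi hW
    have hev : Even (Module.finrank F W) := by
      by_contra ho
      rw [Nat.not_even_iff] at ho
      obtain ⟨W', hle, -, -, hd⟩ := exists_neg_sq_sub h2 hf hff ((Module.finrank F W + 1) / 2) W hi hW (by omega)
      have := Submodule.finrank_mono hle
      omega
    refine ⟨hev, ?_⟩
    rw [← sgn_comp]
    refine neg_sq_sgn (nondeg_comp hW) h2 (by rw [Nat.two_mul_div_two_of_even hev]) (f := f.restrict hi)
      (fun v => hf v) fun v => Subtype.ext (hff v)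
  constructor
  · rintro ⟨W, hW, hi⟩
    have h := key W hi (hW.nondeg hW₀)
    rwa [hW.finrank_eq, hW.sgn_eq] at h
  · rintro ⟨hev, hs⟩
    have htop : (⊤ : Submodule F V) ⊓ polarPerp Q ⊤ = ⊥ :=
      nondeg_iff.1 fun u _ hu' => hQ.1 u fun v => hu' v trivial
    have hle := Submodule.finrank_le W₀
    have hd2 := Nat.two_mul_div_two_of_even hev
    obtain ⟨W, -, hWi, hW, hWd⟩ := exists_neg_sq_sub h2 hf hff (Module.finrank F W₀ / 2) ⊤
      (fun _ _ => Submodule.mem_top) htop (by rw [finrank_top]; omega)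
    obtain ⟨-, hWs⟩ := key W hWi hW
    rw [hWd, Nat.mul_div_cancel_left _ two_pos] at hWs
    exact ⟨W, exists_isometry_sub hW₀ hW hd2.symm hWd (hs.trans hWs.symm), hWi⟩

variable {ι : Type} [Fintype ι] [DecidableEq ι] {R : QuadraticForm F (ι → F)}

/-- Every element of `Ω` of order two modulo scalars fixes a member of the class exactly when this holds. -/
theorem nd_two (hR : (polarBilin R).Nondegenerate) (h2 : (2 : F) ≠ 0) {d : ℕ}
    (hn : Fintype.card ι = 2 * d) (hd : 2 ≤ d) {W₀ : Submodule F (ι → F)}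
    (hW₀ : W₀ ⊓ polarPerp R W₀ = ⊥) (hlt : Module.finrank F W₀ < 2 * d)
    (P : Submodule F (ι → F) → Prop) (hP : ∀ W, P W ↔ InOrbit R W₀ W) :
    (∀ x : GL ι F, x ∈ Cfsg.Geo.omegaGL ⇑R →
      (∃ z : F, ((x ^ 2 : GL ι F) : Matrix ι ι F) = z • (1 : Matrix ι ι F)) →
      (∀ z : F, (x : Matrix ι ι F) ≠ z • (1 : Matrix ι ι F)) →
      ∃ W : Submodule F (ι → F), P W ∧ W.map (Matrix.toLin' (x : Matrix ι ι F)) ≤ W) ↔
    (sgn R ⊤ = dSgn (Fintype.card F) d → (Even d ∨ (Fintype.card F % 8 ≠ 3 ∧ Fintype.card F % 8 ≠ 5)) →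
      Even (Module.finrank F W₀) ∧ sgn R W₀ = dSgn (Fintype.card F) (Module.finrank F W₀ / 2)) := by
  have hfr : Module.finrank F (ι → F) = 2 * d := by rw [Module.finrank_fintype_fun_eq_card, hn]
  constructor
  · intro H hs hΩ
    obtain ⟨f, hf, hff⟩ := exists_neg_sq hR h2 hn hs
    obtain ⟨x, hx, hxf⟩ := (neg_sq_iff hR h2 hn hf hff).2.2 hΩ
    obtain ⟨W, hW, hWi⟩ := H x hx ⟨-1, Matrix.toLin'.injective (by
      rw [toLin'_pow, hxf, map_smul, Matrix.toLin'_one]
      refine LinearMap.ext fun v => ?_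
      simp [pow_two, hff])⟩ fun z hz => by
        have hfz : f = z • 1 := by rw [← hxf, hz, map_smul, Matrix.toLin'_one, Module.End.one_eq_id]
        obtain ⟨v, -, hv⟩ := exists_anisotropic_perp hR (U := ⊥) (by rw [finrank_bot, hfr]; omega)
        have h1 := hf v
        have h3 : z * (z * R v) = -R v * 1 := by
          have h4 := hff v
          rw [hfz, LinearMap.smul_apply, LinearMap.smul_apply, Module.End.one_apply, Module.End.one_apply] at h4
          rw [hfz, LinearMap.smul_apply, Module.End.one_apply, CfsgLib.Geometry.map_smul'] at h1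
          have h5 : z * z = -1 := by
            have h6 := congrArg R h4
            by_contra hne
            refine hv ?_
            have h7 : (z * z + 1) • v = 0 := by rw [add_smul, one_smul, mul_smul, h4, neg_add_cancel]
            rw [(smul_eq_zero.1 h7).resolve_left (fun h => hne (eq_neg_of_add_eq_zero_left h)),
              QuadraticMap.map_zero]
          rw [← mul_assoc, h5]; ring
        rw [hfz, LinearMap.smul_apply, Module.End.one_apply, CfsgLib.Geometry.map_smul', mul_assoc, h3] at h1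
        exact hv ((mul_eq_zero.1 (show (2 : F) * R v = 0 by linear_combination -h1)).resolve_left h2)
    rw [hxf, Submodule.map_le_iff_le_comap] at hWi
    exact (neg_sq_class hR h2 hf hff hW₀).1 ⟨W, (hP W).1 hW, fun v hv => hWi hv⟩
  · rintro hneg x hx ⟨z, hz⟩ -
    have hf := omega_preserves hx
    set f := Matrix.toLin' (x : Matrix ι ι F) with hfdef
    rcases scalar_two_cases hR (by omega) hx hz with hff | hff
    · obtain ⟨W, hW, hWi⟩ := invol_fix_class hR h2 hf hff (by omega) hW₀ (by omega)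
      exact ⟨W, (hP W).2 hW, Submodule.map_le_iff_le_comap.2 fun v hv => hWi v hv⟩
    · obtain ⟨hs, hΩ⟩ := neg_sq_iff hR h2 hn hf hff
      obtain ⟨W, hW, hWi⟩ := (neg_sq_class hR h2 hf hff hW₀).2 (hneg hs (hΩ.1 ⟨x, hx, rfl⟩))
      exact ⟨W, (hP W).2 hW, Submodule.map_le_iff_le_comap.2 fun v hv => hWi v hv⟩

end CfsgLib.OrthPrime
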