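import Cfsg.Agent.Lib.OrthPrime.InvolTS
import Cfsg.Agent.Lib.PrimeOrderSp.InvolutionTI
import Mathlib.NumberTheory.LegendreSymbol.QuadraticChar.GaussSum

/-! Isometries with square `-1` in odd characteristic. -/

set_option autoImplicit false

namespace CfsgLib.OrthPrime

open QuadraticMap Polynomial CfsgLib.Geometry CfsgLib.OrthMax CfsgLib.PrimeOrderSp

universe u

variable {F : Type u} [Field F] [Fintype F] {V : Type u} [AddCommGroup V] [Module F V] [FiniteDimensional F V]
variable {Q : QuadraticForm F V}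

theorem dSgn_succ (hodd : Fintype.card F % 2 = 1) (k : ℕ) :
    dSgn (Fintype.card F) (k + 1) = dSgn (Fintype.card F) 1 * dSgn (Fintype.card F) k := by
  unfold dSgn
  by_cases h : Fintype.card F % 4 = 1
  · simp [h]
  · rcases Nat.even_or_odd k with hk | hk
    · have hk1 : ¬ Even (k + 1) := Nat.not_even_iff_odd.2 hk.add_one
      simp [h, hk, hk1]
    · have hk1 : Even (k + 1) := hk.add_one
      simp [h, hk1, Nat.not_even_iff_odd.2 hk]

/-- Spinor norm and type for an isometry that is a square root of `-1` on `D`. -/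
theorem neg_sq_invariant (hQ : (polarBilin Q).Nondegenerate) (h2 : (2 : F) ≠ 0) (hR : reflGroup Q = orth Q)
    (k : ℕ) : ∀ (D : Submodule F V), D ⊓ polarPerp Q D = ⊥ → Module.finrank F D = 2 * k → ∀ g : orth Q,
      (∀ v ∈ polarPerp Q D, (g : V ≃ₗ[F] V) v = v) → (∀ v ∈ D, (g : V ≃ₗ[F] V) v ∈ D) →
      (∀ v ∈ D, (g : V ≃ₗ[F] V) ((g : V ≃ₗ[F] V) v) = -v) →
      orthInvariant hQ hR g = (sqMk (pow_ne_zero k h2), 1) ∧ sgn Q D = dSgn (Fintype.card F) k := by
  classical
  induction k with
  | zero =>
    intro D hD hd g hfix _ _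
    have hb : D = ⊥ := Submodule.finrank_eq_zero.1 (by simpa using hd)
    have hg : g = 1 := Subtype.ext (LinearEquiv.ext fun v => hfix v (mem_polarPerp.2 fun w hw => by
      rw [hb, Submodule.mem_bot] at hw; rw [hw, polar_zero_left]))
    refine ⟨?_, by rw [hb, sgn_bot]; simp [dSgn]⟩
    rw [hg, map_one]
    exact Prod.ext ((sqMk_eq_one_iff _).2 (by simp)).symm rfl
  | succ k ih =>
    intro D hD hd g hfix hinv hsq
    obtain ⟨v, hv, hQv⟩ : ∃ v ∈ D, Q v ≠ 0 := by
      by_contra hc
      push Not at hc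
      have hle : D ≤ D ⊓ polarPerp Q D := fun x hx =>
        ⟨hx, mem_polarPerp.2 fun y hy => polar_eq_zero_of_singular hc hy hx⟩
      rw [hD, le_bot_iff] at hle
      rw [hle, finrank_bot] at hd
      omega
    set g₀ : V ≃ₗ[F] V := (g : V ≃ₗ[F] V)
    set w := g₀ v with hwdef
    have hw : w ∈ D := hinv v hv
    have hgw : g₀ w = -v := hsq v hv
    have hQw : Q w = Q v := mem_orth.1 g.2 v
    have hvw : polar Q v w = 0 := by
      have h := orth_polar g.2 v w
      rw [← hwdef, hgw, polar_neg_right, polar_comm Q w v] at h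
      exact (mul_eq_zero.1 (show (2 : F) * polar Q v w = 0 by linear_combination (-1 : F) * h)).resolve_left h2
    have hwv : polar Q w v = 0 := (polar_comm (⇑Q) w v).trans hvw
    have hQs : Q (v - w) = 2 * Q v := by rw [CfsgLib.Geometry.map_sub', hQw, hvw]; ring
    have hs0 : Q (v - w) ≠ 0 := hQs ▸ mul_ne_zero h2 hQv
    set E := Submodule.span F ({v, w} : Set V)
    have hED : E ≤ D := Submodule.span_le.2 (by rintro x (rfl | rfl); exacts [hv, hw])
    have hco : ∀ a b : F, polar Q v (a • v + b • w) = a * (2 * Q v) ∧ polar Q w (a • v + b • w) = b * (2 * Q v) :=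
      fun a b => by
        simp only [polar_add_right, polar_smul_right', polar_self', hvw, hwv, hQw]
        constructor <;> ring
    have hE : E ⊓ polarPerp Q E = ⊥ := by
      rw [eq_bot_iff]
      rintro x ⟨hx, hx'⟩
      obtain ⟨a, b, rfl⟩ := Submodule.mem_span_pair.1 hx
      have h1 := mem_polarPerp.1 hx' v (Submodule.subset_span (by simp))
      have h2' := mem_polarPerp.1 hx' w (Submodule.subset_span (by simp))
      rw [(hco a b).1] at h1
      rw [(hco a b).2] at h2'
      rw [(mul_eq_zero.1 h1).resolve_right (mul_ne_zero h2 hQv),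
        (mul_eq_zero.1 h2').resolve_right (mul_ne_zero h2 hQv)]
      simp
    have hli : LinearIndependent F ![v, w] := LinearIndependent.pair_iff.2 fun a b hab => by
      have h1 := hco a b
      rw [hab, polar_zero_right, polar_zero_right] at h1
      exact ⟨(mul_eq_zero.1 h1.1.symm).resolve_right (mul_ne_zero h2 hQv),
        (mul_eq_zero.1 h1.2.symm).resolve_right (mul_ne_zero h2 hQv)⟩
    have hEd : Module.finrank F E = 2 := by
      have h := finrank_span_eq_card hli
      rw [Matrix.range_cons_cons_empty, Fintype.card_fin] at h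
      exact h
    obtain ⟨hC, hdis, hsup, ho, hCd⟩ := exists_orth_compl hD hED hE
    set C := D ⊓ polarPerp Q E
    have hEgen : ∀ z, polar Q v z = 0 → polar Q w z = 0 → z ∈ polarPerp Q E := fun z h1 h1' =>
      mem_polarPerp.2 fun x hx => by
        obtain ⟨a, b, rfl⟩ := Submodule.mem_span_pair.1 hx
        rw [polar_add_left, polar_smul_left', polar_smul_left', h1, h1', mul_zero, mul_zero, add_zero]
    -- the rotation of the plane
    let h : orth Q := oRefl Q v hQv * oRefl Q (v - w) hs0
    have happ : ∀ z, (h : V ≃ₗ[F] V) z = refl Q v hQv (refl Q (v - w) hs0 z) := fun z => rfl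
    have hperp : ∀ z ∈ polarPerp Q E, (h : V ≃ₗ[F] V) z = z := fun z hz => by
      have h1 : polar Q z v = 0 := (polar_comm (⇑Q) z v).trans (mem_polarPerp.1 hz v (Submodule.subset_span (by simp)))
      have h1' : polar Q z w = 0 := (polar_comm (⇑Q) z w).trans (mem_polarPerp.1 hz w (Submodule.subset_span (by simp)))
      rw [happ, refl_eq_self Q _ hs0 (by rw [polar_sub_right, h1, h1', sub_zero]), refl_eq_self Q _ hQv h1]
    have hsw : refl Q (v - w) hs0 v = w := by
      have e : (2 * Q v)⁻¹ * polar Q v (v - w) = 1 := by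
        rw [polar_sub_right, polar_self', hvw, sub_zero, inv_mul_cancel₀ (mul_ne_zero h2 hQv)]
      rw [refl_apply, hQs, e, one_smul, sub_sub_cancel]
    have hsw' : refl Q (v - w) hs0 w = v := by
      have e : (2 * Q v)⁻¹ * polar Q w (v - w) = -1 := by
        rw [polar_sub_right, polar_self', hwv, hQw, zero_sub, mul_neg, inv_mul_cancel₀ (mul_ne_zero h2 hQv)]
      rw [refl_apply, hQs, e, neg_smul, one_smul, sub_neg_eq_add, add_sub_cancel]
    have hhv : (h : V ≃ₗ[F] V) v = w := by rw [happ, hsw, refl_eq_self Q v hQv hwv]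
    have hhw : (h : V ≃ₗ[F] V) w = -v := by rw [happ, hsw', refl_self]
    -- the rest
    have hgC : ∀ z ∈ C, g₀ z ∈ C := fun z hz => by
      refine ⟨hinv z hz.1, hEgen _ ?_ ?_⟩
      · have e := orth_polar g.2 w z
        rw [hgw, polar_neg_left, mem_polarPerp.1 hz.2 w (Submodule.subset_span (by simp)), neg_eq_zero] at e
        exact e
      · have e := orth_polar g.2 v z
        rw [mem_polarPerp.1 hz.2 v (Submodule.subset_span (by simp))] at e
        exact e
    let g' : orth Q := h⁻¹ * g
    have hg' : ∀ z, (g' : V ≃ₗ[F] V) z = (h : V ≃ₗ[F] V).symm (g₀ z) := fun z => rfl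
    have hg'C : ∀ z ∈ C, (g' : V ≃ₗ[F] V) z = g₀ z := fun z hz => by
      rw [hg', LinearEquiv.symm_apply_eq, hperp _ (hgC z hz).2]
    have hg'fix : ∀ z ∈ polarPerp Q C, (g' : V ≃ₗ[F] V) z = z := fun z hz => by
      rw [hg', LinearEquiv.symm_apply_eq]
      set a := polar Q v z / (2 * Q v)
      set b := polar Q w z / (2 * Q v)
      set y := z - (a • v + b • w) with hy
      have hyE : y ∈ polarPerp Q E := hEgen y
        (by rw [hy, polar_sub_right, (hco a b).1, div_mul_cancel₀ _ (mul_ne_zero h2 hQv), sub_self])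
        (by rw [hy, polar_sub_right, (hco a b).2, div_mul_cancel₀ _ (mul_ne_zero h2 hQv), sub_self])
      have hyD : y ∈ polarPerp Q D := mem_polarPerp.2 fun x hx => by
        rw [← hsup] at hx
        obtain ⟨p, hp, c, hc, rfl⟩ := Submodule.mem_sup.1 hx
        have hab : a • v + b • w ∈ E :=
          Submodule.mem_span_pair.2 ⟨a, b, rfl⟩
        rw [polar_add_left, mem_polarPerp.1 hyE p hp, hy, polar_sub_right, mem_polarPerp.1 hz c hc,
          polar_comm Q c, ho _ hab c hc]
        ring
      have e : z = a • v + b • w + y := by rw [hy]; abel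
      rw [e, map_add, map_add, map_smul, map_smul, map_add, map_add, map_smul, map_smul, hfix y hyD, hperp y hyE,
        hgw, hhv, hhw, ← hwdef]
    obtain ⟨hi, hs⟩ := ih C hC (by omega) g' hg'fix
      (fun z hz => by rw [hg'C z hz]; exact hgC z hz) fun z hz => by
        rw [hg'C z hz, hg'C _ (hgC z hz)]; exact hsq z hz.1
    have hhi : orthInvariant hQ hR h = (sqMk h2, 1) := by
      rw [map_mul, orthInvariant_oRefl, orthInvariant_oRefl]
      refine Prod.ext ?_ (show Multiplicative.ofAdd (1 : ZMod 2) * Multiplicative.ofAdd 1 = 1 by decide)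
      show sqMk hQv * sqMk hs0 = sqMk h2
      rw [← sqMk_mul]
      have h3 : 2 * Q v * Q v ≠ 0 := by simp [h2, hQv]
      calc sqMk _ = sqMk h3 := by
            congr 1; rw [hQs]; ring
        _ = sqMk h2 := sqMk_mul_sq h2 h3
    refine ⟨?_, ?_⟩
    · rw [show g = h * g' by simp [g'], map_mul, hhi, hi, Prod.mk_mul_mk, one_mul, ← sqMk_mul]
      simp only [pow_succ']
    · have hEs : sgn Q E = dSgn (Fintype.card F) 1 := by
        let b : Module.Basis (Fin 2) F E := Module.Basis.mk (v := fun i => (⟨![v, w] i, by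
          fin_cases i <;> exact Submodule.subset_span (by simp)⟩ : E))
          (LinearIndependent.of_comp E.subtype hli) (by
            rw [top_le_iff]
            refine Submodule.map_injective_of_injective E.subtype_injective ?_
            rw [Submodule.map_span, Submodule.map_top, Submodule.range_subtype, ← Set.range_comp]
            show Submodule.span F (Set.range ![v, w]) = E
            rw [Matrix.range_cons_cons_empty])
        refine (isSquare_disc_iff h2 hE (by omega) b).1 ?_
        rw [Matrix.det_fin_two]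
        simp only [Matrix.of_apply, b, Module.Basis.mk_apply, Matrix.cons_val_zero, Matrix.cons_val_one,
          polar_self', hvw, hwv, hQw]
        exact ⟨2 * Q v, by ring⟩
      have := sgn_sup hE hC ho (hEd ▸ even_two) (⟨k, by omega⟩)
      rw [hsup, hEs, hs] at this
      rw [this]
      exact (dSgn_succ (FiniteField.odd_card_of_char_ne_two (F := F) fun h => h2 (by
        haveI := ringChar.of_eq h
        exact CharTwo.two_eq_zero)) k).symm

theorem isSquare_two_pow_iff (h2 : (2 : F) ≠ 0) (d : ℕ) :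
    IsSquare ((2 : F) ^ d) ↔ (Even d ∨ (Fintype.card F % 8 ≠ 3 ∧ Fintype.card F % 8 ≠ 5)) := by
  rw [← FiniteField.isSquare_two_iff (F := F)]
  rcases Nat.even_or_odd d with hd | hd
  · simp [hd, hd.isSquare_pow]
  · obtain ⟨c, rfl⟩ := hd
    refine ⟨fun h => Or.inr ?_, fun h => (h.resolve_left (Nat.not_even_iff_odd.2 ⟨c, rfl⟩)).pow _⟩
    rw [show (2 : F) ^ (2 * c + 1) = 2 ^ c * 2 ^ c * 2 by ring] at h
    exact (isSquare_mul_sq_iff (pow_ne_zero c h2)).1 h

variable {ι : Type} [Fintype ι] [DecidableEq ι] {R : QuadraticForm F (ι → F)}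

/-- Type and membership in `Ω` of a square root of `-1`. -/
theorem neg_sq_iff (hR : (polarBilin R).Nondegenerate) (h2 : (2 : F) ≠ 0) {d : ℕ} (hn : Fintype.card ι = 2 * d)
    {f : Module.End F (ι → F)} (hf : ∀ v, R (f v) = R v) (hff : ∀ v, f (f v) = -v) :
    sgn R ⊤ = dSgn (Fintype.card F) d ∧
      ((∃ x ∈ Cfsg.Geo.omegaGL ⇑R, Matrix.toLin' ((x : GL ι F) : Matrix ι ι F) = f) ↔
        (Even d ∨ (Fintype.card F % 8 ≠ 3 ∧ Fintype.card F % 8 ≠ 5))) := by
  have hG := reflGroup_eq_orth_of_two_ne hR h2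
  let e : (ι → F) ≃ₗ[F] (ι → F) := LinearEquiv.ofLinearMap f (-f)
    (LinearMap.ext fun v => by simp [hff]) (LinearMap.ext fun v => by simp [hff])
  let g : orth R := ⟨e, fun v => hf v⟩
  have htop : (⊤ : Submodule F (ι → F)) ⊓ polarPerp R ⊤ = ⊥ :=
    nondeg_iff.1 fun u _ hu' => hR.1 u fun v => hu' v trivial
  obtain ⟨hi, hs⟩ := neg_sq_invariant hR h2 hG d ⊤ htop
    (by rw [finrank_top, Module.finrank_fintype_fun_eq_card, hn]) g
    (fun v hv => by
      have : v = 0 := (Submodule.mem_bot F).1 (htop ▸ ⟨Submodule.mem_top, hv⟩)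
      rw [this, map_zero]) (fun _ _ => Submodule.mem_top) (fun v _ => hff v)
  refine ⟨hs, ?_⟩
  rw [← isSquare_two_pow_iff h2]
  constructor
  · rintro ⟨x, hx, hxf⟩
    rw [omegaGL_eq_map] at hx
    obtain ⟨y, hy, rfl⟩ := hx
    rw [toLin'_orthToGL] at hxf
    rw [SetLike.mem_coe, show y = g from Subtype.ext (LinearEquiv.toLinearMap_injective hxf),
      mem_commutator_orth_iff hR hG, hi, Prod.mk_eq_one, sqMk_eq_one_iff] at hy
    exact hy.1
  · intro h
    refine ⟨orthToGL R g, ?_, toLin'_orthToGL g⟩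
    rw [omegaGL_eq_map]
    refine Subgroup.mem_map_of_mem _ ((mem_commutator_orth_iff hR hG _).2 ?_)
    rw [hi, Prod.mk_eq_one, sqMk_eq_one_iff]
    exact ⟨h, rfl⟩

/-- A square root of `-1` exists in the type it allows. -/
theorem exists_neg_sq (hR : (polarBilin R).Nondegenerate) (h2 : (2 : F) ≠ 0) {d : ℕ} (hn : Fintype.card ι = 2 * d)
    (hs : sgn R ⊤ = dSgn (Fintype.card F) d) :
    ∃ f : Module.End F (ι → F), (∀ v, R (f v) = R v) ∧ ∀ v, f (f v) = -v := by
  classical
  let κ := Fin d ⊕ Fin d
  let S : QuadraticForm F (κ → F) := matQuad (1 : Matrix κ κ F)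
  have hS : (polarBilin S).Nondegenerate := nondegenerate_matQuad (by
    rw [Matrix.transpose_one, ← two_smul F (1 : Matrix κ κ F), Matrix.det_smul, Matrix.det_one, mul_one]
    exact pow_ne_zero _ h2)
  have hSa : ∀ v, S v = ∑ i, v i * v i := fun v => by simp [S, matQuad_apply, dotProduct]
  let J : Module.End F (κ → F) := LinearMap.pi (Sum.elim (fun i => -LinearMap.proj (Sum.inr i))
    (fun i => LinearMap.proj (Sum.inl i)))
  have hJ : ∀ v, S (J v) = S v := fun v => by
    rw [hSa, hSa, Fintype.sum_sum_type, Fintype.sum_sum_type, add_comm]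
    simp [J]
  have hJJ : ∀ v, J (J v) = -v := fun v => by
    funext s
    rcases s with i | i <;> simp [J]
  obtain ⟨hs', -⟩ := neg_sq_iff hS h2 (d := d) (by simp [κ]; omega) hJ hJJ
  obtain ⟨E, hE⟩ := exists_isometry hR hS (k := d) (by rw [Module.finrank_fintype_fun_eq_card, hn])
    (by simp [κ]; omega) (by rw [hs, hs'])
  refine ⟨E.symm.toLinearMap ∘ₗ J ∘ₗ E.toLinearMap, fun v => ?_, fun v => ?_⟩
  · rw [← hE, LinearMap.comp_apply, LinearMap.comp_apply, LinearEquiv.coe_coe, LinearEquiv.coe_coe,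
      E.apply_symm_apply, hJ, hE]
  · simp [hJJ]

/-- Totally singular subspaces invariant under a square root of `-1`. -/
theorem neg_sq_ts (hQ : (polarBilin Q).Nondegenerate) (h2 : (2 : F) ≠ 0) {d m : ℕ}
    (hn : Module.finrank F V = 2 * d) (hmd : m < d) {f : Module.End F V} (hf : ∀ v, Q (f v) = Q v)
    (hff : ∀ v, f (f v) = -v) :
    (∃ W : Submodule F V, Module.finrank F W = m ∧ (∀ w ∈ W, Q w = 0) ∧ Inv f W) ↔
      (Fintype.card F % 4 = 1 ∨ Even m) := by
  classical
  have hodd : Fintype.card F % 2 = 1 := FiniteField.odd_card_of_char_ne_two fun h => h2 (by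
    haveI := ringChar.of_eq h
    exact CharTwo.two_eq_zero)
  have h := isHerm_polar hQ
  have hiso := polar_iso (Q := Q) hf
  have htop : (⊤ : Submodule F V) ⊓ polarPerp Q ⊤ = ⊥ :=
    nondeg_iff.1 fun u _ hu' => hQ.1 u fun v => hu' v trivial
  by_cases h4 : Fintype.card F % 4 = 1
  · simp only [h4, true_or, iff_true]
    obtain ⟨s, hs⟩ : ∃ s : F, s * s = -1 := by
      obtain ⟨s, hs⟩ := FiniteField.isSquare_neg_one_iff.2 (show Fintype.card F % 4 ≠ 3 by omega)
      exact ⟨s, hs.symm⟩
    let U : F → Submodule F V := fun s => LinearMap.ker (f - s • 1)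
    have hU : ∀ s v, v ∈ U s ↔ f v = s • v := fun s v => by simp [U, sub_eq_zero]
    have hsing : ∀ s : F, s * s = -1 → ∀ v ∈ U s, Q v = 0 := fun s hs v hv => by
      have e := hf v
      rw [(hU s v).1 hv, CfsgLib.Geometry.map_smul', hs] at e
      exact (mul_eq_zero.1 (show (2 : F) * Q v = 0 by linear_combination -e)).resolve_left h2
    have hUtop : U s ⊔ U (-s) = ⊤ := Submodule.eq_top_iff'.2 fun v => by
      refine Submodule.mem_sup.2 ⟨(2 : F)⁻¹ • (v - s • f v), (hU _ _).2 ?_, (2 : F)⁻¹ • (v + s • f v),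
        (hU _ _).2 ?_, ?_⟩
      · rw [map_smul, smul_comm s, map_sub, map_smul, hff, smul_sub, smul_sub, smul_smul s s, hs]
        simp only [smul_neg, neg_smul, one_smul]
        module
      · rw [map_smul, smul_comm (-s), map_add, map_smul, hff, smul_add (-s), smul_smul (-s) s, neg_mul, hs]
        simp only [smul_neg, neg_smul, one_smul, neg_neg]
        module
      · rw [← smul_add, sub_add_add_cancel, ← two_smul F v, smul_smul, inv_mul_cancel₀ h2, one_smul]
    have hUd : d ≤ Module.finrank F (U s) := by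
      have h1 := two_mul_singular_le htop (le_top : U (-s) ≤ ⊤) (hsing (-s) (by rw [neg_mul_neg, hs]))
      have h3 := Submodule.finrank_add_le_finrank_add_finrank (U s) (U (-s))
      rw [hUtop, finrank_top] at h3
      rw [finrank_top] at h1
      omega
    let b := Module.finBasis F (U s)
    let g : Fin m → V := fun k => (b (Fin.castLE (hmd.le.trans hUd) k) : V)
    have hg : LinearIndependent F g :=
      (b.linearIndependent.map' (U s).subtype (U s).ker_subtype).comp _ (Fin.castLE_injective _)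
    have hsub : Submodule.span F (Set.range g) ≤ U s :=
      Submodule.span_le.2 (by rintro _ ⟨k, rfl⟩; exact Subtype.coe_prop _)
    refine ⟨Submodule.span F (Set.range g), by rw [finrank_span_eq_card hg, Fintype.card_fin],
      fun v hv => hsing s hs v (hsub hv), fun v hv => ?_⟩
    rw [(hU s v).1 (hsub hv)]
    exact Submodule.smul_mem _ _ hv
  have h43 : Fintype.card F % 4 = 3 := by omega
  simp only [h4, false_or]
  obtain ⟨hirr, hdeg⟩ := irreducible_X_sq_add_one (F := F) h43
  set P : F[X] := X ^ 2 + C (1 : F)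
  have hss : f.IsSemisimple := Module.End.isSemisimple_of_squarefree_aeval_eq_zero hirr.squarefree
    (LinearMap.ext fun v => by simp [P, pow_two, Module.End.mul_apply, hff])
  have hkD : ∀ D : Submodule F V, Inv f D → Killed f {P} 2 D := fun D hD =>
    ⟨fun S hS => by rw [Finset.mem_singleton.1 hS]; exact hirr,
      fun S hS => by rw [Finset.mem_singleton.1 hS]; exact hdeg,
      hD, fun v _ => by simp [P, pow_two, Module.End.mul_apply, hff]⟩
  constructor
  · rintro ⟨W, hW1, -, hW3⟩
    obtain ⟨c, hc⟩ := finrank_dvd hss (hkD W hW3)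
    exact ⟨c, by omega⟩
  · rintro ⟨c, hc⟩
    have hmon : P.Monic := monic_X_pow_add_C 1 two_ne_zero
    haveI := Fact.mk hirr
    haveI : Module.Finite F (AdjoinRoot P) := (AdjoinRoot.powerBasis' hmon).finite
    haveI : Finite (AdjoinRoot P) := Module.finite_of_finite F
    let := Fintype.ofFinite (AdjoinRoot P)
    have hroot : AdjoinRoot.root P ^ 2 = -1 := by
      have e : AdjoinRoot.mk P (X ^ 2 + C (1 : F)) = 0 := AdjoinRoot.mk_self
      rw [map_add, map_pow, AdjoinRoot.mk_X, AdjoinRoot.mk_C, map_one] at e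
      exact eq_neg_of_add_eq_zero_left e
    have hbar : IsConj P (RingHom.id F) (FiniteField.frobeniusAlgHom F (AdjoinRoot P)).toRingHom := by
      refine isConj_of_pow hirr hmon (s := Fintype.card F) (Fintype.one_lt_card) _ (fun x => by
        simp [FiniteField.coe_frobeniusAlgHom]) (fun c => (FiniteField.pow_card c).symm) ?_ ?_
      · obtain ⟨c, hc⟩ : 4 ∣ Fintype.card F + 1 := by omega
        rw [hc, pow_mul, show (4 : ℕ) = 2 * 2 from rfl, pow_mul, hroot, neg_one_sq, one_pow]
      · rw [card_adjoinRoot hirr hmon, hdeg, pow_two]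
    obtain ⟨J, hJ, hW⟩ := exists_ti h hiso hss {P} 1 ⊤ (nondeg_iff.2 htop) (hkD ⊤ fun v _ => trivial)
      fun U _ hUnd hUi hani => (finrank_aniso_le h hiso {P} (fun S hS v₁ v₂ e1 e2 n1 n2 ho => by
        obtain rfl := Finset.mem_singleton.1 hS
        exact exists_ti_of_pair hirr h hbar hmon hiso e1 e2 n1 n2 ho) U hUnd (hkD U hUi) hani).trans
        (by rw [Finset.card_singleton])
    rw [finrank_top, hn] at hJ
    obtain ⟨W, -, h1, h2', h3⟩ := hW c (by omega)
    refine ⟨W, by omega, fun w hw => ?_, h1⟩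
    have e : polar Q w w = 0 := h2' w hw w hw
    rw [polar_self'] at e
    exact (mul_eq_zero.1 e).resolve_left h2

/-- An element of `Ω` whose square is scalar squares to `1` or to `-1`. -/
theorem scalar_two_cases (hR : (polarBilin R).Nondegenerate) (hn : 0 < Fintype.card ι) {x : GL ι F}
    (hx : x ∈ Cfsg.Geo.omegaGL ⇑R) {z : F} (hz : ((x ^ 2 : GL ι F) : Matrix ι ι F) = z • (1 : Matrix ι ι F)) :
    Matrix.toLin' (x : Matrix ι ι F) ^ 2 = 1 ∨
      ∀ v, Matrix.toLin' (x : Matrix ι ι F) (Matrix.toLin' (x : Matrix ι ι F) v) = -v := by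
  set f := Matrix.toLin' (x : Matrix ι ι F) with hfdef
  have hfz : f ^ 2 = z • 1 := by
    rw [hfdef, ← toLin'_pow, hz, map_smul, Matrix.toLin'_one, Module.End.one_eq_id]
  obtain ⟨v, hv⟩ : ∃ v, R v ≠ 0 := by
    by_contra hc
    push Not at hc
    haveI : Nonempty ι := Fintype.card_pos_iff.1 hn
    obtain ⟨j⟩ := ‹Nonempty ι›
    have := hR.1 (Pi.single j 1) fun y => by
      simp [polarBilin_apply_apply, polar, hc]
    simpa using congrFun this j
  have hzz : z * z = 1 := by
    have h1 : R ((f ^ 2) v) = R v := by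
      rw [pow_two, Module.End.mul_apply, omega_preserves hx, omega_preserves hx]
    rw [hfz, LinearMap.smul_apply, Module.End.one_apply, CfsgLib.Geometry.map_smul'] at h1
    exact (mul_eq_right₀ hv).1 h1
  rcases mul_self_eq_one_iff.1 hzz with rfl | rfl
  · exact Or.inl (hfz.trans (one_smul _ _))
  · refine Or.inr fun v => ?_
    have := LinearMap.congr_fun hfz v
    simpa [pow_two] using this

end CfsgLib.OrthPrime
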