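import Cfsg.Agent.Lib.OrthPrime.Count

/-! The type of an even-dimensional non-degenerate subspace is multiplicative. -/

set_option autoImplicit false

namespace CfsgLib.OrthPrime

open QuadraticMap CfsgLib.Geometry CfsgLib.OrthMax

variable {F V : Type*} [Field F] [AddCommGroup V] [Module F V] [FiniteDimensional F V]
variable {Q : QuadraticForm F V}

theorem nondeg_comp {D : Submodule F V} (hD : D ⊓ polarPerp Q D = ⊥) :
    (polarBilin (Q.comp D.subtype)).Nondegenerate := by
  have hp : ∀ x y : D, polar (Q.comp D.subtype) x y = polar Q (x : V) (y : V) := fun x y => by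
    simp [QuadraticMap.polar]
  have hl : ∀ x : D, (∀ y : D, polar Q (x : V) (y : V) = 0) → x = 0 := fun x hx => by
    have hm : (x : V) ∈ D ⊓ polarPerp Q D :=
      ⟨x.2, mem_polarPerp.2 fun y hy => by rw [polar_comm]; exact hx ⟨y, hy⟩⟩
    rw [hD, Submodule.mem_bot] at hm
    exact Subtype.ext hm
  exact ⟨fun x hx => hl x fun y => (hp x y).symm.trans (hx y), fun y hy => hl y fun x =>
    by rw [QuadraticMap.polar_comm]; exact (hp x y).symm.trans (hy x)⟩

theorem two_mul_singular_le {D : Submodule F V} (hD : D ⊓ polarPerp Q D = ⊥) {U : Submodule F V}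
    (hUD : U ≤ D) (hU : ∀ u ∈ U, Q u = 0) : 2 * Module.finrank F U ≤ Module.finrank F D := by
  have hQD := nondeg_comp hD
  set U' := U.comap D.subtype
  have h1 := finrank_polarPerp hQD U'
  have h2 : U' ≤ polarPerp (Q.comp D.subtype) U' := fun x hx => mem_polarPerp.2 fun y hy =>
    polar_eq_zero_of_singular (W := U') (Q := Q.comp D.subtype) (fun w hw => hU _ hw) hy hx
  have h3 := Submodule.finrank_mono h2
  have h4 : Module.finrank F U' = Module.finrank F U := (Submodule.comapSubtypeEquivOfLe hUD).finrank_eq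
  omega

/-- An orthogonal decomposition of a non-degenerate subspace by a non-degenerate part. -/
theorem exists_orth_compl {D E : Submodule F V} (hD : D ⊓ polarPerp Q D = ⊥) (hED : E ≤ D)
    (hE : E ⊓ polarPerp Q E = ⊥) :
    (D ⊓ polarPerp Q E) ⊓ polarPerp Q (D ⊓ polarPerp Q E) = ⊥ ∧
    Disjoint E (D ⊓ polarPerp Q E) ∧ E ⊔ (D ⊓ polarPerp Q E) = D ∧
    (∀ a ∈ E, ∀ b ∈ D ⊓ polarPerp Q E, polar Q a b = 0) ∧
    Module.finrank F E + Module.finrank F ↥(D ⊓ polarPerp Q E) = Module.finrank F D := by
  set C := D ⊓ polarPerp Q E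
  have ho : ∀ a ∈ E, ∀ b ∈ C, polar Q a b = 0 := fun a ha b hb => mem_polarPerp.1 hb.2 a ha
  have hd : Disjoint E C := disjoint_iff_inf_le.2 fun x hx => hE.le ⟨hx.1, hx.2.2⟩
  have hQE := nondeg_comp hE
  have hsup : E ⊔ C = D := by
    refine le_antisymm (sup_le hED inf_le_left) fun x hx => ?_
    obtain ⟨e, he⟩ := LinearMap.BilinForm.toDual (polarBilin (Q.comp E.subtype)) hQE |>.surjective
      ((polarBilin Q x).comp E.subtype)
    refine Submodule.mem_sup.2 ⟨e, e.2, x - e, ⟨D.sub_mem hx (hED e.2), mem_polarPerp.2 fun z hz => ?_⟩,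
      add_sub_cancel _ _⟩
    have h := LinearMap.congr_fun he ⟨z, hz⟩
    rw [LinearMap.BilinForm.toDual_def] at h
    simp only [LinearMap.comp_apply, Submodule.subtype_apply, polarBilin_apply_apply] at h
    have h' : polar Q (e : V) z = polar Q x z := by
      rw [← h]; simp [QuadraticMap.polar]
    rw [polar_sub_right, polar_comm Q z x, polar_comm Q z e, h', sub_self]
  refine ⟨?_, hd, hsup, ho, ?_⟩
  · rw [eq_bot_iff]
    rintro x ⟨hx, hx'⟩
    refine hD.le ⟨hx.1, mem_polarPerp.2 fun z hz => ?_⟩
    obtain ⟨a, ha, b, hb, rfl⟩ := Submodule.mem_sup.1 (hsup ▸ hz)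
    rw [polar_add_left, ho a ha x hx, mem_polarPerp.1 hx' b hb, add_zero]
  · have := Submodule.finrank_sup_add_finrank_inf_eq E C
    rw [hsup, hd.eq_bot, finrank_bot, add_zero] at this
    exact this.symm

variable [Fintype F] [DecidableEq F]

theorem hasExcess_aniso {D : Submodule F V} (hD : D ⊓ polarPerp Q D = ⊥) (hd : Module.finrank F D = 2)
    (hani : ∀ v ∈ D, Q v = 0 → v = 0) : HasExcess Q D (-(Fintype.card F : ℤ)) := by
  classical
  haveI : Finite V := Module.finite_of_finite F
  haveI := Fintype.ofFinite D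
  let b := Module.finBasisOfFinrankEq F D hd
  have hb0 : (b 0 : V) ≠ 0 := fun h => b.ne_zero 0 (Subtype.ext h)
  set A := Q (b 0 : V)
  have hA : A ≠ 0 := fun h => hb0 (hani _ (b 0).2 h)
  set a := polar Q (b 0 : V) (b 1 : V) / A
  set c₀ := Q (b 1 : V) / A
  let mk : F → F → D := fun x y => x • b 0 + y • b 1
  have hmk : ∀ x y, Q (mk x y : V) = A * (x * x + a * (x * y) + c₀ * (y * y)) := fun x y => by
    show Q (x • (b 0 : V) + y • (b 1 : V)) = _
    rw [CfsgLib.Geometry.map_add', CfsgLib.Geometry.map_smul', CfsgLib.Geometry.map_smul',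
      polar_smul_left', polar_smul_right']
    simp only [a, c₀]
    field_simp
    ring
  have hcoord : ∀ v : D, v = mk (b.repr v 0) (b.repr v 1) := fun v => by
    conv_lhs => rw [← b.sum_repr v]
    rw [Fin.sum_univ_two]
  have hfib : ∀ e d : F, e ≠ 0 → d ≠ 0 → fib Q D d ≤ fib Q D e := by
    intro e d he hd0
    obtain ⟨v, hv⟩ := exists_represents (nondeg_comp hD) (by omega) (A * e / d)
    have hv' : Q (v : V) = A * e / d := hv
    set x₀ := b.repr v 0
    set y₀ := b.repr v 1
    have hN : x₀ * x₀ + a * (x₀ * y₀) + c₀ * (y₀ * y₀) = e / d := by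
      rw [hcoord v, hmk, mul_div_assoc] at hv'
      exact mul_left_cancel₀ hA hv'
    let T : D → D := fun w => mk (x₀ * b.repr w 0 - c₀ * y₀ * b.repr w 1)
      (x₀ * b.repr w 1 + y₀ * b.repr w 0 + a * y₀ * b.repr w 1)
    have hT : ∀ w : D, Q (T w : V) = e / d * Q (w : V) := fun w => by
      conv_rhs => rw [hcoord w, hmk, ← hN]
      rw [hmk]; ring
    have hTinj : Function.Injective T := by
      intro w w' hw
      have e1 : T w - T w' = T (w - w') := by
        simp only [T, mk, map_sub, Finsupp.sub_apply]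
        module
      have h0 : Q (T (w - w') : V) = 0 := by
        rw [← e1, hw, sub_self, ZeroMemClass.coe_zero, QuadraticMap.map_zero]
      rw [hT] at h0
      rcases mul_eq_zero.1 h0 with h | h
      · exact absurd h (div_ne_zero he hd0)
      · exact sub_eq_zero.1 (Subtype.ext (hani _ (w - w').2 h))
    refine Nat.card_le_card_of_injective
      (fun w : {w : D // Q (w : V) = d} => (⟨T w.1, by rw [hT, w.2, div_mul_cancel₀ _ hd0]⟩ :
        {w : D // Q (w : V) = e})) fun w w' hw => Subtype.ext (hTinj (congrArg Subtype.val hw))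
  have h0 : fib Q D 0 = 1 := by
    haveI : Subsingleton {v : D // Q (v : V) = 0} := ⟨fun u w => Subtype.ext (Subtype.ext
      ((hani _ u.1.2 u.2).trans (hani _ w.1.2 w.2).symm))⟩
    haveI : Nonempty {v : D // Q (v : V) = 0} := ⟨⟨0, by simp⟩⟩
    exact Nat.card_unique
  have heq : ∀ d : F, d ≠ 0 → fib Q D d = fib Q D 1 := fun d hd0 =>
    le_antisymm (hfib 1 d one_ne_zero hd0) (hfib d 1 hd0 one_ne_zero)
  have htot : (Nat.card D : ℤ) = 1 + ((Fintype.card F : ℤ) - 1) * fib Q D 1 := by
    rw [← Nat.card_congr (Equiv.sigmaFiberEquiv fun v : D => Q (v : V)), Nat.card_sigma,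
      Finset.sum_eq_add_sum_sdiff_singleton_of_mem (Finset.mem_univ (0 : F)),
      Finset.sum_congr rfl fun d hd0 => (show Nat.card {v : D // Q (v : V) = d} = fib Q D 1 from
        heq d (by simpa using hd0)),
      Finset.sum_const, show Nat.card {v : D // Q (v : V) = 0} = 1 from h0]
    simp [Finset.card_sdiff, Nat.cast_sub (show 1 ≤ Fintype.card F from Fintype.card_pos)]
  intro c
  have hD2 : (Nat.card D : ℤ) = (Fintype.card F : ℤ) * Fintype.card F := by
    rw [natCard_submodule, hd]; push_cast; ring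
  by_cases hc : c = 0
  · subst hc
    rw [h0, hD2]; simp [delta]; ring
  · have hq1 : (Fintype.card F : ℤ) - 1 ≠ 0 := by
      have := Fintype.one_lt_card (α := F); omega
    rw [heq c hc]
    have hf : (fib Q D 1 : ℤ) = Fintype.card F + 1 := mul_left_cancel₀ hq1
      (by linear_combination hD2 - htot)
    rw [hf, hD2]; simp [delta, hc]; ring

theorem hasExcess (D : Submodule F V) : ∀ k : ℕ, D ⊓ polarPerp Q D = ⊥ → Module.finrank F D = 2 * k →
    HasExcess Q D (sgn Q D * (Fintype.card F : ℤ) ^ k) := by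
  intro k
  induction k generalizing D with
  | zero =>
    intro hD hd
    rw [show D = ⊥ from Submodule.finrank_eq_zero.1 (by simpa using hd)] at hD ⊢
    rw [sgn_bot, one_mul]
    exact hasExcess_plus hD le_rfl (fun u hu => by
      rw [(Submodule.mem_bot F).1 hu, QuadraticMap.map_zero]) (k := 0) (by simp) (by simp)
  | succ k ih =>
    intro hD hd
    by_cases hp : Plus Q D
    · obtain ⟨U, hUD, hU, hUd⟩ := hp
      rw [sgn_plus ⟨U, hUD, hU, hUd⟩, one_mul]
      exact hasExcess_plus hD hUD hU hd (by omega)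
    rw [sgn_minus hp]
    rcases Nat.eq_zero_or_pos k with rfl | hk
    · have h := hasExcess_aniso hD hd fun v hv hv0 => by
        by_contra h0
        refine hp ⟨Submodule.span F {v}, (Submodule.span_singleton_le_iff_mem _ _).2 hv, fun u hu => ?_, ?_⟩
        · obtain ⟨c, rfl⟩ := Submodule.mem_span_singleton.1 hu
          rw [CfsgLib.Geometry.map_smul', hv0, mul_zero]
        · rw [finrank_span_singleton h0, hd]
      simpa using h
    obtain ⟨e, f, he, hf, he0, hf0, hef⟩ := exists_pair_of_radical (Q := Q) D (by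
      rw [hD, finrank_bot]; omega)
    set E := Submodule.span F ({e, f} : Set V)
    have hED : E ≤ D := Submodule.span_le.2 (by rintro x (rfl | rfl); exacts [he, hf])
    have hE : E ⊓ polarPerp Q E = ⊥ := by
      rw [eq_bot_iff]
      rintro x ⟨hx, hx'⟩
      exact (Submodule.mem_bot F).2 (pair_nondeg he0 hf0 hef x hx fun s hs => by
        rw [polar_comm]; exact mem_polarPerp.1 hx' s hs)
    have hli : LinearIndependent F ![e, f] := LinearIndependent.pair_iff.2 fun a b hab => by
      have h1 := congrArg (fun z => polar Q z f) hab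
      have h2 := congrArg (fun z => polar Q z e) hab
      simp only [polar_add_left, polar_smul_left', polar_self', he0, hf0, hef, polar_comm Q f e,
        polar_zero_left] at h1 h2
      exact ⟨by linear_combination h1, by linear_combination h2⟩
    have hE2 : Module.finrank F E = 2 := by
      have h := finrank_span_eq_card hli
      rw [Matrix.range_cons_cons_empty, Fintype.card_fin] at h
      exact h
    obtain ⟨hC, hdis, hsup, ho, hfr⟩ := exists_orth_compl hD hED hE
    have hEx : HasExcess Q E ((Fintype.card F : ℤ) ^ 1) := hasExcess_plus hE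
      (U := Submodule.span F {e})
      ((Submodule.span_singleton_le_iff_mem _ _).2 (Submodule.subset_span (by simp)))
      (fun u hu => by
        obtain ⟨c, rfl⟩ := Submodule.mem_span_singleton.1 hu
        rw [CfsgLib.Geometry.map_smul', he0, mul_zero]) (k := 1) (by omega)
      (finrank_span_singleton fun h => by simp [h, polar_zero_left] at hef)
    have hnp : ¬ Plus Q (D ⊓ polarPerp Q E) := by
      rintro ⟨U, hUC, hU, hUd⟩
      refine hp ⟨Submodule.span F {e} ⊔ U, sup_le ((Submodule.span_singleton_le_iff_mem _ _).2 he)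
        (hUC.trans inf_le_left), fun u hu => ?_, ?_⟩
      · obtain ⟨a, ha, b, hb, rfl⟩ := Submodule.mem_sup.1 hu
        obtain ⟨c, rfl⟩ := Submodule.mem_span_singleton.1 ha
        rw [CfsgLib.Geometry.map_add', CfsgLib.Geometry.map_smul', he0, hU b hb, polar_smul_left',
          ho e (Submodule.subset_span (by simp)) b (hUC hb)]
        ring
      · have hd' : Disjoint (Submodule.span F {e}) U := hdis.mono
          ((Submodule.span_singleton_le_iff_mem _ _).2 (Submodule.subset_span (by simp))) hUC
        have h1 := Submodule.finrank_sup_add_finrank_inf_eq (Submodule.span F {e}) U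
        rw [hd'.eq_bot, finrank_bot, finrank_span_singleton (fun h => by simp [h, polar_zero_left] at hef)] at h1
        omega
    have h := hEx.sup hdis ho (ih _ hC (by omega))
    rw [hsup, sgn_minus hnp] at h
    convert h using 1
    ring

/-- The type is multiplicative on orthogonal sums. -/
theorem sgn_sup {A B : Submodule F V} (hA : A ⊓ polarPerp Q A = ⊥) (hB : B ⊓ polarPerp Q B = ⊥)
    (ho : ∀ a ∈ A, ∀ b ∈ B, polar Q a b = 0) (ha : Even (Module.finrank F A))
    (hb : Even (Module.finrank F B)) : sgn Q (A ⊔ B) = sgn Q A * sgn Q B := by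
  obtain ⟨i, hi⟩ := ha
  obtain ⟨j, hj⟩ := hb
  have hd : Disjoint A B := disjoint_iff_inf_le.2 fun x hx =>
    hA.le ⟨hx.1, mem_polarPerp.2 fun a ha' => ho a ha' x hx.2⟩
  have hS : (A ⊔ B) ⊓ polarPerp Q (A ⊔ B) = ⊥ := by
    rw [eq_bot_iff]
    rintro x ⟨hx, hx'⟩
    obtain ⟨a, ha', b, hb', rfl⟩ := Submodule.mem_sup.1 hx
    have e1 : a = 0 := (Submodule.mem_bot F).1 (hA ▸ (⟨ha', mem_polarPerp.2 fun z hz => by
      have := mem_polarPerp.1 hx' z (Submodule.mem_sup_left hz)
      rwa [polar_add_right, ho z hz b hb', add_zero] at this⟩ : a ∈ A ⊓ polarPerp Q A))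
    have e2 : b = 0 := (Submodule.mem_bot F).1 (hB ▸ (⟨hb', mem_polarPerp.2 fun z hz => by
      have := mem_polarPerp.1 hx' z (Submodule.mem_sup_right hz)
      rwa [polar_add_right, polar_comm Q z a, ho a ha' z hz, zero_add] at this⟩ :
        b ∈ B ⊓ polarPerp Q B))
    simp [e1, e2]
  have hdim := Submodule.finrank_sup_add_finrank_inf_eq A B
  rw [hd.eq_bot, finrank_bot] at hdim
  have h1 := hasExcess (A ⊔ B) (i + j) hS (by omega)
  have h2 := (hasExcess A i hA (by omega)).sup hd ho (hasExcess B j hB (by omega))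
  have h3 := h1.unique h2
  rw [pow_add] at h3
  have hq : (Fintype.card F : ℤ) ^ i * (Fintype.card F : ℤ) ^ j ≠ 0 := by
    have : (Fintype.card F : ℤ) ≠ 0 := by exact_mod_cast Fintype.card_ne_zero
    exact mul_ne_zero (pow_ne_zero _ this) (pow_ne_zero _ this)
  exact mul_right_cancel₀ hq (by linear_combination h3)

end CfsgLib.OrthPrime
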