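import Cfsg.Agent.Lib.OrthPrime.Sign
import Cfsg.Agent.Lib.PrimeOrderSp.Transfer
import Cfsg.Agent.Lib.PrimeOrderSp.Model

/-! Isometries of odd prime order of quadratic spaces, prime to the characteristic. -/

set_option autoImplicit false

namespace CfsgLib.OrthPrime

open QuadraticMap Polynomial CfsgLib.Geometry CfsgLib.OrthMax CfsgLib.PrimeOrderSp CfsgLib.KnownB.PrimeOrder

universe u

variable {F : Type u} [Field F] {V : Type*} [AddCommGroup V] [Module F V]
variable {Q : QuadraticForm F V}

theorem isHerm_polar (hQ : (polarBilin Q).Nondegenerate) :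
    IsHerm (σ := RingHom.id F) (polarBilin Q) :=
  ⟨⟨1, fun u v => by rw [RingHom.id_apply, one_mul]; exact polar_comm (⇑Q) v u⟩, hQ.1⟩

theorem nondeg_iff {D : Submodule F V} :
    Nondeg (σ := RingHom.id F) (polarBilin Q) D ↔ D ⊓ polarPerp Q D = ⊥ := by
  refine ⟨fun h => eq_bot_iff.2 fun x hx => (Submodule.mem_bot F).2 (h x hx.1 fun v hv => ?_),
    fun h u hu hu' => (Submodule.mem_bot F).1 (h.le ⟨hu, mem_polarPerp.2 fun v hv => ?_⟩)⟩
  · exact (polar_comm (⇑Q) x v).trans (mem_polarPerp.1 hx.2 v hv)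
  · exact (polar_comm (⇑Q) v u).trans (hu' v hv)

theorem polar_iso {f : Module.End F V} (hf : ∀ v, Q (f v) = Q v) (u v : V) :
    polarBilin Q (f u) (f v) = polarBilin Q u v := by
  simp only [polarBilin_apply_apply, polar, ← map_add, hf]

/-- The number of constituents of a hyperbolic or elliptic piece. -/
def unit (i : ℕ) : ℕ := if Even i then 1 else 2

variable [FiniteDimensional F V] {f : Module.End F V} {r : ℕ}

theorem fix_eq_zero (hr : (r : F) ≠ 0) (hfr : f ^ r = 1) {D : Submodule F V} (hle : D ≤ movSp f) {v : V}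
    (hv : v ∈ D) (hfix : f v = v) : v = 0 :=
  Submodule.disjoint_def.1 (isCompl_fix_mov hr hfr).disjoint v (mem_fixSp.2 hfix) (hle hv)

/-- In the moved space totally isotropic means totally singular. -/
theorem ts_of_ti (hr : (r : F) ≠ 0) (hfr : f ^ r = 1) (hf : ∀ v, Q (f v) = Q v) {W : Submodule F V}
    (hW : Inv f W) (hle : W ≤ movSp f) (hti : TI (σ := RingHom.id F) (polarBilin Q) W) :
    ∀ w ∈ W, Q w = 0 := by
  intro w hw
  let g : W →ₗ[F] W := ((f - 1).comp W.subtype).codRestrict W fun x => by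
    simp only [LinearMap.comp_apply, LinearMap.sub_apply, Module.End.one_apply, Submodule.subtype_apply]
    exact W.sub_mem (hW _ x.2) x.2
  have hg : Function.Injective g := (injective_iff_map_eq_zero g).2 fun x hx =>
    Subtype.ext (fix_eq_zero hr hfr hle x.2 (by
      have h : f (x : V) - (x : V) = 0 := congrArg Subtype.val hx
      exact sub_eq_zero.1 h))
  obtain ⟨x, hx⟩ := LinearMap.injective_iff_surjective.1 hg ⟨w, hw⟩
  have hx' : f (x : V) - (x : V) = w := congrArg Subtype.val hx
  have h1 : polar Q (f (x : V)) (x : V) = 0 := hti _ (hW _ x.2) _ x.2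
  have h2 : polar Q (x : V) (x : V) = 0 := hti _ x.2 _ x.2
  rw [polar_self'] at h2
  rw [← hx', CfsgLib.Geometry.map_sub', hf, h1]
  linear_combination h2

variable [Fintype F] [DecidableEq F] [Fact r.Prime]

omit [DecidableEq F] in
theorem card_modEq_fixed {α : Type*} [Finite α] (σ : α → α) (hσ : σ^[r] = id) {a : α} (ha : σ a = a)
    (huniq : ∀ b, σ b = b → b = a) : (Nat.card α : ZMod r) = 1 := by
  classical
  haveI := Fintype.ofFinite α
  have h := Equiv.Perm.card_fixedPoints_modEq (f := (σ : Function.End α)) (p := r) (n := 1) (by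
    rw [pow_one]; exact (hom_coe_pow (fun g : Function.End α ↦ g) rfl (fun g h ↦ rfl) σ r).trans hσ)
  have h1 : Fintype.card (Function.fixedPoints σ) = 1 :=
    Fintype.card_eq_one_iff.2 ⟨⟨a, ha⟩, fun b => Subtype.ext (huniq b.1 b.2)⟩
  rw [Nat.card_eq_fintype_card, ← Nat.cast_one, ZMod.natCast_eq_natCast_iff, ← h1]
  exact h

theorem pow_apply_eq (hfr : f ^ r = 1) (v : V) : (⇑f)^[r] v = v := by
  rw [← Module.End.pow_apply, hfr, Module.End.one_apply]

/-- The type of a fixed-point-free invariant subspace is determined by its dimension. -/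
theorem sgn_mul_pow (hf : ∀ v, Q (f v) = Q v) (hr : (r : F) ≠ 0) (hfr : f ^ r = 1)
    (hi : orderOf ((Fintype.card F : ℕ) : ZMod r) ≠ 1) {D : Submodule F V} (hle : D ≤ movSp f)
    (hinv : Inv f D) (hD : D ⊓ polarPerp Q D = ⊥) {k : ℕ} (hk : Module.finrank F D = 2 * k) :
    (sgn Q D : ZMod r) * ((Fintype.card F : ℕ) : ZMod r) ^ k = 1 := by
  haveI : Finite V := Module.finite_of_finite F
  have hfree : ∀ v ∈ D, f v = v → v = 0 := fun v hv h => fix_eq_zero hr hfr hle hv h
  have h1 : (Nat.card D : ZMod r) = 1 := card_modEq_fixed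
    (fun v : D => (⟨f v, hinv v v.2⟩ : D)) (by
      have hk' : ∀ m (v : D), (((fun v : D => (⟨f v, hinv v v.2⟩ : D))^[m] v : D) : V) = (⇑f)^[m] v :=
        fun m => by
          induction m with
          | zero => intro v; rfl
          | succ m ih =>
            intro v; rw [Function.iterate_succ_apply', Function.iterate_succ_apply', ← ih]
      funext v; exact Subtype.ext ((hk' r v).trans (pow_apply_eq hfr _)))
    (a := 0) (Subtype.ext (map_zero f)) fun b hb => Subtype.ext (hfree b b.2 (congrArg Subtype.val hb))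
  have h2 : (fib Q D 0 : ZMod r) = 1 := card_modEq_fixed
    (fun v : {v : D // Q (v : V) = 0} => (⟨⟨f v.1, hinv _ v.1.2⟩, (hf _).trans v.2⟩ : {v : D // Q (v : V) = 0}))
    (by
      have hk' : ∀ m (v : {v : D // Q (v : V) = 0}), ((((fun v : {v : D // Q (v : V) = 0} =>
          (⟨⟨f v.1, hinv _ v.1.2⟩, (hf _).trans v.2⟩ : {v : D // Q (v : V) = 0}))^[m] v).1 : D) : V) =
          (⇑f)^[m] v.1 := fun m => by
        induction m with
        | zero => intro v; rfl
        | succ m ih =>
          intro v; rw [Function.iterate_succ_apply', Function.iterate_succ_apply', ← ih]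
      funext v; exact Subtype.ext (Subtype.ext ((hk' r v).trans (pow_apply_eq hfr _))))
    (a := ⟨0, by simp⟩) (Subtype.ext (Subtype.ext (map_zero f))) fun b hb =>
      Subtype.ext (Subtype.ext (hfree _ b.1.2 (congrArg (fun x => (x.1 : V)) hb)))
  have hx := hasExcess D k hD hk 0
  have hqr := congrArg (fun z : ℤ => (z : ZMod r)) hx
  simp only [Int.cast_mul, Int.cast_add, Int.cast_natCast, Int.cast_pow, delta, if_true, Int.cast_sub,
    Int.cast_one, h1, h2, mul_one] at hqr
  have hq1 : ((Fintype.card F : ℕ) : ZMod r) - 1 ≠ 0 := fun h => hi (orderOf_eq_one_iff.2 (sub_eq_zero.1 h))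
  exact mul_right_cancel₀ hq1 (by linear_combination -hqr)

variable (hQ : (polarBilin Q).Nondegenerate) (hf : ∀ v, Q (f v) = Q v) (hr : (r : F) ≠ 0) (hr2 : r ≠ 2)
  (hfr : f ^ r = 1)

include hr2 in
omit [DecidableEq F] in
theorem two_ne : (2 : ZMod r) ≠ 0 := by
  rw [show (2 : ZMod r) = ((2 : ℕ) : ZMod r) by norm_num, Ne, ZMod.natCast_eq_zero_iff]
  exact fun h => hr2 ((Nat.prime_dvd_prime_iff_eq Fact.out Nat.prime_two).1 h)

include hQ hf hr hr2 hfr

/-- For odd multiplicative order all constituents are totally isotropic. -/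
theorem cyc_ti (hodd : Odd (orderOf ((Fintype.card F : ℕ) : ZMod r))) {P : F[X]} (hP : P ∈ factors F r)
    {v : V} (hv : v ∈ movSp f) (hPv : Polynomial.aeval f P v = 0) :
    TI (σ := RingHom.id F) (polarBilin Q) (cyc f v) := by
  classical
  have h := isHerm_polar hQ
  have hk := killed_movSp (f := f) hr hfr
  have hA : cyc f v ≤ movSp f := cyc_le inv_movSp hv
  intro x hx y hy
  by_contra hxy
  have hv0 : v ≠ 0 := by
    rintro rfl
    obtain ⟨a, rfl⟩ := hx
    simp at hxy
  have hnd : Nondeg (σ := RingHom.id F) (polarBilin Q) (cyc f v) := fun u hu huW => by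
    by_contra hu0
    exact hxy ((cyc_minimal (hk.irr P hP) hPv (((cyc_inv v).perp h (polar_iso hf)).inf (cyc_inv v)) hu
      ⟨huW, hu⟩ hu0 hx).1 y hy)
  set A := cyc f v
  have hdim : Module.finrank F A = orderOf ((Fintype.card F : ℕ) : ZMod r) :=
    (finrank_cyc (hk.irr P hP) hPv hv0).trans (hk.deg P hP)
  let B : LinearMap.BilinForm F A := (polarBilin Q).compl₁₂ A.subtype A.subtype
  have hB : B.Nondegenerate := by
    refine ⟨fun u hu => Subtype.ext (hnd u u.2 fun w hw => hu ⟨w, hw⟩), fun w hw => ?_⟩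
    exact Subtype.ext (hnd w w.2 fun u hu => (polar_comm (⇑Q) (w : V) u).trans (hw ⟨u, hu⟩))
  let g : A →ₗ[F] A := f.restrict fun u hu => cyc_inv v u hu
  let b := Module.finBasisOfFinrankEq F A hdim
  set G := LinearMap.BilinForm.toMatrix b B
  set M := LinearMap.toMatrix b b g
  have hG : G.det ≠ 0 := (LinearMap.BilinForm.nondegenerate_iff_det_ne_zero b).1 hB
  have hMG : M.transpose * G * M = G := by
    rw [← LinearMap.BilinForm.toMatrix_comp b b B g g]
    congr 1
    exact LinearMap.ext₂ fun u w => polar_iso hf _ _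
  have hpow : g ^ r = 1 := LinearMap.ext fun u => Subtype.ext (by
    have hk' : ∀ m, ((g ^ m) u : V) = (f ^ m) (u : V) := fun m => by
      induction m with
      | zero => simp
      | succ m ih => rw [pow_succ', pow_succ', Module.End.mul_apply, Module.End.mul_apply, ← ih]; rfl
    rw [hk', hfr]; rfl)
  have hM1 : M.det = 1 := by
    have e1 : M.det * M.det = 1 := by
      have := congrArg Matrix.det hMG
      rw [Matrix.det_mul, Matrix.det_mul, Matrix.det_transpose] at this
      exact mul_right_cancel₀ hG (by linear_combination this)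
    have e2 : M.det ^ r = 1 := by
      rw [LinearMap.det_toMatrix, ← map_pow, hpow, map_one]
    obtain ⟨c, hc⟩ := (Fact.out : r.Prime).odd_of_ne_two hr2
    calc M.det = M.det ^ (2 * c + 1) := by rw [pow_succ, pow_mul, pow_two, e1, one_pow, one_mul]
      _ = M.det ^ r := congrArg _ hc.symm
      _ = 1 := e2
  have h0 : (M - 1).det = 0 := by
    have e : (M - 1).transpose * G * M = -(G * (M - 1)) := by
      rw [Matrix.transpose_sub, Matrix.transpose_one, Matrix.sub_mul, Matrix.sub_mul, hMG,
        Matrix.one_mul, Matrix.mul_sub, Matrix.mul_one, neg_sub]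
    have e' := congrArg Matrix.det e
    rw [Matrix.det_mul, Matrix.det_mul, Matrix.det_transpose, hM1, mul_one, Matrix.det_neg,
      Fintype.card_fin, hodd.neg_one_pow, Matrix.det_mul] at e'
    have h2 : (2 : F) ≠ 0 := by
      intro h2
      have halt : B.IsAlt := fun u => by
        show polar Q (u : V) (u : V) = 0
        rw [polar_self', h2, zero_mul]
      have := CfsgLib.PrimeOrderSp.even_finrank (B := B) halt (D := ⊤)
        (fun u _ hu => hB.1 u fun w => hu w trivial)
      rw [finrank_top, hdim] at this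
      exact Nat.not_even_iff_odd.2 hodd this
    exact (mul_eq_zero.1 (show (2 * G.det) * (M - 1).det = 0 by linear_combination e')).resolve_left
      (mul_ne_zero h2 hG)
  obtain ⟨c, hc0, hc⟩ := Matrix.exists_mulVec_eq_zero_iff.2 h0
  rw [Matrix.sub_mulVec, Matrix.one_mulVec, sub_eq_zero] at hc
  set w := b.equivFun.symm c
  have hw : g w = w := b.equivFun.injective (by
    have := LinearMap.toMatrix_mulVec_repr b b g w
    have hwc : ⇑(b.repr w) = c := b.equivFun.apply_symm_apply c
    rw [hwc] at this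
    show ⇑(b.repr (g w)) = ⇑(b.repr w)
    rw [← this, hwc]; exact hc)
  refine hc0 ?_
  have : (w : V) = 0 := fix_eq_zero hr hfr hA w.2 (congrArg Subtype.val hw)
  rw [← b.equivFun.apply_symm_apply c, show b.equivFun.symm c = 0 from Subtype.ext this, map_zero]

/-- Every invariant non-degenerate subspace of the moved space contains a smallest possible one. -/
theorem exists_piece {D : Submodule F V} (hle : D ≤ movSp f) (hinv : Inv f D)
    (hD : D ⊓ polarPerp Q D = ⊥) (hD0 : D ≠ ⊥) :
    ∃ E ≤ D, Inv f E ∧ E ⊓ polarPerp Q E = ⊥ ∧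
      Module.finrank F E = unit (orderOf ((Fintype.card F : ℕ) : ZMod r)) *
        orderOf ((Fintype.card F : ℕ) : ZMod r) ∧
      sgn Q E = (-1) ^ unit (orderOf ((Fintype.card F : ℕ) : ZMod r)) := by
  classical
  have h := isHerm_polar hQ
  have hiso := polar_iso (Q := Q) hf
  set i := orderOf ((Fintype.card F : ℕ) : ZMod r) with hidef
  have hk : Killed f (factors F r) i D := (killed_movSp (f := f) hr hfr).mono hinv hle
  obtain ⟨P, hP, v, hv, hv0, hPv⟩ := exists_factor _ hinv hD0 hk.kill
  have hAD := cyc_le hinv hv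
  have hAr : Module.finrank F (cyc f v) = i := (finrank_cyc (hk.irr P hP) hPv hv0).trans (hk.deg P hP)
  have hi0 : 0 < i := by rw [← hk.deg P hP]; exact (hk.irr P hP).natDegree_pos
  -- a totally isotropic constituent has a partner
  have pairing : TI (σ := RingHom.id F) (polarBilin Q) (cyc f v) →
      ∃ R ∈ factors F r, ∃ w ∈ D, Polynomial.aeval f R w = 0 ∧
        cyc f v ⊓ perp (polarBilin Q) (cyc f w) = ⊥ ∧ cyc f w ⊓ perp (polarBilin Q) (cyc f v) = ⊥ := by
    intro hti
    obtain ⟨C, hC, hCle, hsup, hdis⟩ := exists_compl_inv (isSemisimple_of_pow hr hfr)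
      (((cyc_inv v).perp h hiso).inf hinv) hinv inf_le_right
    have hC0 : C ≠ ⊥ := by
      intro h0
      rw [h0, sup_bot_eq] at hsup
      have h1 := finrank_perp h (nondeg_iff.2 hD) hAD
      rw [hsup] at h1
      omega
    obtain ⟨R, hR, w, hw, hw0, hRw⟩ := exists_factor _ hC hC0 (hk.mono hC hCle).kill
    have hwperp : ¬ cyc f w ≤ perp (polarBilin Q) (cyc f v) := fun hle' =>
      hw0 (Submodule.disjoint_def.1 hdis w ⟨hle' (mem_cyc_self w), hCle hw⟩ hw)
    refine ⟨R, hR, w, hCle hw, hRw, ?_, ?_⟩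
    · rw [Submodule.eq_bot_iff]
      intro x hx
      by_contra hx0
      have h1 := cyc_minimal (hk.irr P hP) hPv ((cyc_inv v).inf ((cyc_inv w).perp h hiso)) hx.1 hx hx0
      exact hwperp fun y hy => mem_perp.2 fun a ha => h.refl ((h1 ha).2 y hy)
    · rw [Submodule.eq_bot_iff]
      intro x hx
      by_contra hx0
      exact hwperp ((cyc_minimal (hk.irr R hR) hRw ((cyc_inv w).inf ((cyc_inv v).perp h hiso)) hx.1 hx
        hx0).trans inf_le_right)
  have sum : ∀ w ∈ D, TI (σ := RingHom.id F) (polarBilin Q) (cyc f v) →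
      TI (σ := RingHom.id F) (polarBilin Q) (cyc f w) →
      cyc f v ⊓ perp (polarBilin Q) (cyc f w) = ⊥ → cyc f w ⊓ perp (polarBilin Q) (cyc f v) = ⊥ →
      (cyc f v ⊔ cyc f w) ⊓ polarPerp Q (cyc f v ⊔ cyc f w) = ⊥ ∧ Disjoint (cyc f v) (cyc f w) := by
    intro w hw t1 t2 d1 d2
    refine ⟨nondeg_iff.1 fun x hx hx' => ?_, disjoint_iff_inf_le.2 fun x hx =>
      d1.le ⟨hx.1, mem_perp.2 fun y hy => t2 x hx.2 y hy⟩⟩
    obtain ⟨a, ha, b, hb, rfl⟩ := Submodule.mem_sup.1 hx
    have ea : a ∈ cyc f v ⊓ perp (polarBilin Q) (cyc f w) := ⟨ha, mem_perp.2 fun y hy => by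
      have := hx' y (Submodule.mem_sup_right hy)
      rwa [map_add, LinearMap.add_apply, t2 b hb y hy, add_zero] at this⟩
    have eb : b ∈ cyc f w ⊓ perp (polarBilin Q) (cyc f v) := ⟨hb, mem_perp.2 fun y hy => by
      have := hx' y (Submodule.mem_sup_left hy)
      rwa [map_add, LinearMap.add_apply, t1 a ha y hy, zero_add] at this⟩
    rw [d1, Submodule.mem_bot] at ea
    rw [d2, Submodule.mem_bot] at eb
    rw [ea, eb, add_zero]
  rcases Nat.even_or_odd i with hev | hodd
  · rw [unit, if_pos hev, one_mul, pow_one]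
    suffices hex : ∃ R ∈ factors F r, ∃ w ∈ D, Polynomial.aeval f R w = 0 ∧
        ¬ TI (σ := RingHom.id F) (polarBilin Q) (cyc f w) by
      obtain ⟨R, hR, w, hw, hRw, hnti⟩ := hex
      have hw0 : w ≠ 0 := by
        rintro rfl
        refine hnti fun x hx y hy => ?_
        obtain ⟨a, rfl⟩ := hx
        simp
      have hnd : Nondeg (σ := RingHom.id F) (polarBilin Q) (cyc f w) := fun u hu huW => by
        by_contra hu0
        exact hnti fun x hx y hy => (cyc_minimal (hk.irr R hR) hRw (((cyc_inv w).perp h hiso).inf (cyc_inv w))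
          hu ⟨huW, hu⟩ hu0 hx).1 y hy
      have hEd : Module.finrank F (cyc f w) = i := (finrank_cyc (hk.irr R hR) hRw hw0).trans (hk.deg R hR)
      refine ⟨cyc f w, cyc_le hinv hw, cyc_inv w, nondeg_iff.1 hnd, hEd, ?_⟩
      obtain ⟨j, hj⟩ := hev
      have h1 := sgn_mul_pow hf hr hfr (by omega) ((cyc_le hinv hw).trans hle) (cyc_inv w)
        (nondeg_iff.1 hnd) (k := j) (by omega)
      have hq : ((Fintype.card F : ℕ) : ZMod r) ^ j = -1 := by
        have e : ((Fintype.card F : ℕ) : ZMod r) ^ j * ((Fintype.card F : ℕ) : ZMod r) ^ j = 1 := by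
          rw [← pow_add, ← hj, hidef, pow_orderOf_eq_one]
        exact (mul_self_eq_one_iff.1 e).resolve_left (pow_ne_one_of_lt_orderOf (by omega) (by omega))
      rw [hq] at h1
      rcases sgn_cases (Q := Q) (cyc f w) with hs | hs
      · rw [hs, Int.cast_one, one_mul] at h1
        exact absurd (show (2 : ZMod r) = 0 by linear_combination -h1) (two_ne hr2)
      · exact hs
    by_contra hc
    push Not at hc
    obtain ⟨R, hR, w, hw, hRw, d1, d2⟩ := pairing (hc P hP v hv hPv)
    obtain ⟨j, hj⟩ := hev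
    obtain ⟨bar, hbar⟩ := exists_isConj hr (j := j) (by omega) (by omega) hP
    haveI := Fact.mk (hk.irr P hP)
    have hdvd : P ∣ P.comp (X ^ (r - 1)) := by
      rw [← AdjoinRoot.mk_eq_zero, ← AdjoinRoot.aeval_eq, aeval_comp, map_pow, aeval_X]
      have hroot : AdjoinRoot.root P ^ (r - 1) * AdjoinRoot.root P = 1 := by
        rw [← pow_succ, Nat.sub_add_cancel (Fact.out : r.Prime).one_le,
          root_pow_eq_one (Fact.out : r.Prime).ne_zero hP]
      rw [show AdjoinRoot.root P ^ (r - 1) = bar (AdjoinRoot.root P) from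
        (eq_inv_of_mul_eq_one_left hroot).trans (eq_inv_of_mul_eq_one_left hbar.root).symm]
      have h2 := congrArg bar (AdjoinRoot.aeval_eq (f := P) P)
      rw [AdjoinRoot.mk_self, map_zero] at h2
      rw [← h2, Polynomial.aeval_def, Polynomial.aeval_def, Polynomial.hom_eval₂]
      exact congrArg (fun φ => Polynomial.eval₂ φ (bar (AdjoinRoot.root P)) P)
        (RingHom.ext fun c => (hbar.of c).symm)
    have hadj : ∀ (a : V) (T : F[X]) (y : V), polarBilin Q a (Polynomial.aeval f T y) =
        polarBilin Q (Polynomial.aeval f (T.comp (X ^ (r - 1))) a) y := by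
      intro a T
      have h1 : ∀ a y, polarBilin Q a (f y) = polarBilin Q ((f ^ (r - 1)) a) y := fun a y => by
        rw [← hiso ((f ^ (r - 1)) a) y, ← Module.End.mul_apply f, ← pow_succ',
          Nat.sub_add_cancel (Fact.out : r.Prime).one_le, hfr, Module.End.one_apply]
      induction T using Polynomial.induction_on generalizing a with
      | C c => intro y; simp [Module.algebraMap_end_apply]
      | add s t hs ht =>
        intro y
        rw [map_add, LinearMap.add_apply, map_add, hs, ht, add_comp, map_add, LinearMap.add_apply,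
          map_add, LinearMap.add_apply]
      | monomial m c ih =>
        intro y
        rw [pow_succ, ← mul_assoc, map_mul (Polynomial.aeval f), aeval_X, Module.End.mul_apply, ih,
          h1]
        simp only [mul_comp (p := Polynomial.C c * X ^ m) (q := X), X_comp]
        rw [mul_comm _ (X ^ (r - 1)), map_mul (Polynomial.aeval f), map_pow, aeval_X, Module.End.mul_apply]
    set E := cyc f v ⊔ cyc f w
    have hkillw : Polynomial.aeval f P w = 0 := by
      have hm : Polynomial.aeval f P w ∈ cyc f w ⊓ perp (polarBilin Q) (cyc f v) :=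
        ⟨(cyc_inv w).aeval P (mem_cyc_self w), mem_perp.2 fun a ha => h.refl (by
          obtain ⟨c, hc⟩ := hdvd
          obtain ⟨s, rfl⟩ := ha
          rw [hadj, evalAt_apply, ← Module.End.mul_apply, ← map_mul, hc,
            show P * c * s = c * s * P by ring, map_mul, Module.End.mul_apply, hPv]
          simp)⟩
      rwa [d2, Submodule.mem_bot] at hm
    have hkill : ∀ x ∈ E, Polynomial.aeval f P x = 0 := fun x hx => by
      obtain ⟨a, ⟨s, rfl⟩, b, ⟨t, rfl⟩, rfl⟩ := Submodule.mem_sup.1 hx
      rw [map_add, evalAt_apply, evalAt_apply, ← Module.End.mul_apply, ← Module.End.mul_apply,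
        ← map_mul, ← map_mul, mul_comm P s, mul_comm P t, map_mul, map_mul, Module.End.mul_apply,
        Module.End.mul_apply, hPv, hkillw, map_zero, map_zero, add_zero]
    have hED : E ≤ D := sup_le hAD (cyc_le hinv hw)
    have hEinv : Inv f E := (cyc_inv v).sup (cyc_inv w)
    obtain ⟨hEnd, -⟩ := sum w hw (hc P hP v hv hPv) (hc R hR w hw hRw) d1 d2
    have hzero : ∀ x ∈ E, ∀ y ∈ E, polarBilin Q (f x) y + polarBilin Q (f y) x = 0 := by
      have h1 : ∀ z ∈ E, polarBilin Q (f z) z = 0 := fun z hz =>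
        hc P hP z (hED hz) (hkill z hz) _ (cyc_inv z _ (mem_cyc_self z)) _ (mem_cyc_self z)
      intro x hx y hy
      have := h1 _ (E.add_mem hx hy)
      rw [map_add, map_add, map_add, LinearMap.add_apply, LinearMap.add_apply, h1 x hx, h1 y hy,
        zero_add, add_zero] at this
      linear_combination this
    have hvE : v ∈ E := Submodule.mem_sup_left (mem_cyc_self v)
    have hneg : f (f v) = -v := by
      have hm : f (f v) + v ∈ E ⊓ polarPerp Q E := by
        refine ⟨E.add_mem (hEinv _ (hEinv _ hvE)) hvE, mem_polarPerp.2 fun y hy => ?_⟩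
        obtain ⟨y', hy', rfl⟩ := hEinv.exists_preimage h hiso hy
        have e1 := hzero v hvE y' hy'
        have e2 := hiso (f v) y'
        show polar Q (f y') (f (f v) + v) = 0
        rw [polar_add_right, polar_comm Q (f y') (f (f v))]
        simp only [polarBilin_apply_apply] at e1 e2
        rw [e2]; exact e1
      rw [hEnd, Submodule.mem_bot] at hm
      exact eq_neg_of_add_eq_zero_left hm
    have h4 : (f ^ 4) v = v := by
      rw [show (4 : ℕ) = 1 + 1 + 1 + 1 by norm_num]
      simp only [pow_add, pow_one, Module.End.mul_apply, hneg, map_neg, neg_neg]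
    obtain ⟨a, ha⟩ : ∃ a, r * a % 4 = 1 := by
      obtain ⟨c, hc'⟩ := (Fact.out : r.Prime).odd_of_ne_two hr2
      exact ⟨r % 4, by rw [Nat.mul_mod, Nat.mod_mod]; rcases (show r % 4 = 1 ∨ r % 4 = 3 by omega) with e | e <;> simp [e]⟩
    have hfv : f v = v := by
      have e1 : (f ^ (r * a)) v = v := by rw [pow_mul, hfr, one_pow, Module.End.one_apply]
      have e2 : ∀ m, (f ^ (4 * m)) v = v := fun m => by
        induction m with
        | zero => simp
        | succ m ih => rw [Nat.mul_succ, pow_add, Module.End.mul_apply, h4, ih]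
      rw [show r * a = 1 + 4 * (r * a / 4) by omega, pow_add, Module.End.mul_apply, e2, pow_one] at e1
      exact e1
    exact hv0 (fix_eq_zero hr hfr hle hv hfv)
  · rw [unit, if_neg (Nat.not_even_iff_odd.2 hodd), neg_one_sq]
    have t1 := cyc_ti hQ hf hr hr2 hfr hodd hP (hle hv) hPv
    obtain ⟨R, hR, w, hw, hRw, d1, d2⟩ := pairing t1
    have t2 := cyc_ti hQ hf hr hr2 hfr hodd hR (hle hw) hRw
    obtain ⟨hEnd, hdis⟩ := sum w hw t1 t2 d1 d2
    have hw0 : w ≠ 0 := by
      rintro rfl
      have hv' : v ∈ cyc f v ⊓ perp (polarBilin Q) (cyc f (0 : V)) := ⟨mem_cyc_self v, mem_perp.2 fun y hy => by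
        obtain ⟨a, rfl⟩ := hy; simp⟩
      rw [d1] at hv'
      exact hv0 hv'
    have hdim : Module.finrank F ↥(cyc f v ⊔ cyc f w) = 2 * i := by
      have h2 := Submodule.finrank_sup_add_finrank_inf_eq (cyc f v) (cyc f w)
      rw [hdis.eq_bot, finrank_bot, hAr, finrank_cyc (hk.irr R hR) hRw hw0, hk.deg R hR, add_zero] at h2
      omega
    exact ⟨_, sup_le hAD (cyc_le hinv hw), (cyc_inv v).sup (cyc_inv w), hEnd, hdim,
      sgn_plus ⟨cyc f v, le_sup_left, ts_of_ti hr hfr hf (cyc_inv v) (hAD.trans hle) t1, by omega⟩⟩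

/-- The structure of an invariant non-degenerate subspace of the moved space. -/
theorem struct {D : Submodule F V} (hle : D ≤ movSp f) (hinv : Inv f D) (hD : D ⊓ polarPerp Q D = ⊥) :
    ∃ N, Module.finrank F D = N * (unit (orderOf ((Fintype.card F : ℕ) : ZMod r)) *
        orderOf ((Fintype.card F : ℕ) : ZMod r)) ∧
      sgn Q D = (-1) ^ (N * unit (orderOf ((Fintype.card F : ℕ) : ZMod r))) ∧
      ∀ b ≤ N, ∃ E ≤ D, Inv f E ∧ E ⊓ polarPerp Q E = ⊥ ∧
        Module.finrank F E = b * (unit (orderOf ((Fintype.card F : ℕ) : ZMod r)) *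
          orderOf ((Fintype.card F : ℕ) : ZMod r)) ∧
        sgn Q E = (-1) ^ (b * unit (orderOf ((Fintype.card F : ℕ) : ZMod r))) := by
  suffices H : ∀ (k : ℕ) (D : Submodule F V), D ≤ movSp f → Module.finrank F D ≤ k → Inv f D →
      D ⊓ polarPerp Q D = ⊥ →
      ∃ N, Module.finrank F D = N * (unit (orderOf ((Fintype.card F : ℕ) : ZMod r)) *
        orderOf ((Fintype.card F : ℕ) : ZMod r)) ∧
      sgn Q D = (-1) ^ (N * unit (orderOf ((Fintype.card F : ℕ) : ZMod r))) ∧
      ∀ b ≤ N, ∃ E ≤ D, Inv f E ∧ E ⊓ polarPerp Q E = ⊥ ∧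
        Module.finrank F E = b * (unit (orderOf ((Fintype.card F : ℕ) : ZMod r)) *
          orderOf ((Fintype.card F : ℕ) : ZMod r)) ∧
        sgn Q E = (-1) ^ (b * unit (orderOf ((Fintype.card F : ℕ) : ZMod r))) from
    H _ D hle le_rfl hinv hD
  set i := orderOf ((Fintype.card F : ℕ) : ZMod r) with hidef
  have heven : Even (unit i * i) := by
    by_cases hev : Even i
    · exact hev.mul_left _
    · rw [unit, if_neg hev]; exact even_two_mul i
  intro k
  induction k with
  | zero =>
    intro D _ h0 _ _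
    have hbot := Submodule.finrank_eq_zero.1 (Nat.le_zero.1 h0)
    subst hbot
    exact ⟨0, by simp, by simp [sgn_bot], fun b hb => ⟨⊥, le_rfl, fun v hv => by
      simp [(Submodule.mem_bot F).1 hv], by simp, by simp [Nat.le_zero.1 hb], by simp [Nat.le_zero.1 hb, sgn_bot]⟩⟩
  | succ k ih =>
    intro D hle hdim hinv hD
    by_cases hD0 : D = ⊥
    · subst hD0
      exact ih _ bot_le (by simp) hinv hD
    obtain ⟨E, hED, hEinv, hE, hEdim, hEs⟩ := exists_piece hQ hf hr hr2 hfr hle hinv hD hD0
    obtain ⟨hC, hdis, hsup, ho, hfr'⟩ := exists_orth_compl hD hED hE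
    have hperp : D ⊓ polarPerp Q E = perp (polarBilin Q) E ⊓ D := by
      ext x
      simp only [Submodule.mem_inf, mem_polarPerp, mem_perp, polarBilin_apply_apply]
      exact ⟨fun h => ⟨fun w hw => (polar_comm (⇑Q) x w).trans (h.2 w hw), h.1⟩,
        fun h => ⟨h.2, fun w hw => (polar_comm (⇑Q) w x).trans (h.1 w hw)⟩⟩
    set C := D ⊓ polarPerp Q E
    have hCinv : Inv f C := hperp ▸ (hEinv.perp (isHerm_polar hQ) (polar_iso hf)).inf hinv
    have hipos : 0 < unit i * i := by
      rcases Nat.eq_zero_or_pos (unit i * i) with h0 | h0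
      swap
      · exact h0
      rw [h0] at hEdim
      have hb := Submodule.finrank_eq_zero.1 hEdim
      rw [hb, sgn_bot] at hEs
      by_cases hev : Even i
      · rw [unit, if_pos hev] at hEs; norm_num at hEs
      · rw [unit, if_neg hev] at h0
        exact absurd (show i = 0 by omega) fun h => hev (h ▸ ⟨0, rfl⟩)
    have hEpos : 0 < Module.finrank F E := hEdim ▸ hipos
    have hCk : Module.finrank F C ≤ k := by omega
    obtain ⟨N, hN, hNs, hsub⟩ := ih C (inf_le_left.trans hle) hCk hCinv hC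
    have hCev : Even (Module.finrank F C) := hN ▸ heven.mul_left N
    have hs := sgn_sup hE hC ho (hEdim ▸ heven) hCev
    rw [hsup, hEs, hNs, ← pow_add] at hs
    refine ⟨N + 1, by rw [← hfr', hN, hEdim]; ring, by rw [hs]; congr 1; ring, fun b hb => ?_⟩
    rcases b with _ | b
    · exact ⟨⊥, bot_le, fun v hv => by simp [(Submodule.mem_bot F).1 hv], by simp, by simp, by simp [sgn_bot]⟩
    obtain ⟨E', hE'C, hE'inv, hE', hE'dim, hE's⟩ := hsub b (by omega)
    have ho' : ∀ a ∈ E, ∀ c ∈ E', polar Q a c = 0 := fun a ha c hc => ho a ha c (hE'C hc)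
    have hs' := sgn_sup hE hE' ho' (hEdim ▸ heven) (hE'dim ▸ heven.mul_left b)
    rw [hEs, hE's, ← pow_add] at hs'
    have hdis' : Disjoint E E' := hdis.mono_right hE'C
    refine ⟨E ⊔ E', sup_le hED (hE'C.trans inf_le_left), hEinv.sup hE'inv, ?_, ?_,
      by rw [hs']; congr 1; ring⟩
    · rw [eq_bot_iff]
      rintro x ⟨hx, hx'⟩
      obtain ⟨a, ha, c, hc, rfl⟩ := Submodule.mem_sup.1 hx
      have ea : a ∈ E ⊓ polarPerp Q E := ⟨ha, mem_polarPerp.2 fun z hz => by
        have := mem_polarPerp.1 hx' z (Submodule.mem_sup_left hz)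
        rwa [polar_add_right, ho' z hz c hc, add_zero] at this⟩
      have ec : c ∈ E' ⊓ polarPerp Q E' := ⟨hc, mem_polarPerp.2 fun z hz => by
        have := mem_polarPerp.1 hx' z (Submodule.mem_sup_right hz)
        rwa [polar_add_right, polar_comm Q z a, ho' a ha z hz, zero_add] at this⟩
      rw [hE, Submodule.mem_bot] at ea
      rw [hE', Submodule.mem_bot] at ec
      simp [ea, ec]
    · have := Submodule.finrank_sup_add_finrank_inf_eq E E'
      rw [hdis'.eq_bot, finrank_bot, hEdim, hE'dim, add_zero] at this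
      rw [this]; ring

/-- Totally singular invariant subspaces of the moved space. -/
theorem exists_ts {D : Submodule F V} (hle : D ≤ movSp f) (hinv : Inv f D) (hD : D ⊓ polarPerp Q D = ⊥) :
    ∃ J : ℕ,
      (Module.finrank F D ≤ (2 * J + (if Even (orderOf ((Fintype.card F : ℕ) : ZMod r)) then
        (r - 1) / orderOf ((Fintype.card F : ℕ) : ZMod r) else 0)) *
          orderOf ((Fintype.card F : ℕ) : ZMod r)) ∧
      ∀ j ≤ J, ∃ W ≤ D, Inv f W ∧ (∀ w ∈ W, Q w = 0) ∧
        Module.finrank F W = j * orderOf ((Fintype.card F : ℕ) : ZMod r) := by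
  classical
  have h := isHerm_polar hQ
  have hiso := polar_iso (Q := Q) hf
  set i := orderOf ((Fintype.card F : ℕ) : ZMod r) with hidef
  have hk : Killed f (factors F r) i D := (killed_movSp (f := f) hr hfr).mono hinv hle
  have hss := isSemisimple_of_pow hr hfr
  suffices H : ∃ J : ℕ, Module.finrank F D ≤ (2 * J + (if Even i then (r - 1) / i else 0)) * i ∧
      ∀ j ≤ J, ∃ W, W ≤ D ∧ Inv f W ∧ TI (σ := RingHom.id F) (polarBilin Q) W ∧
        Module.finrank F W = j * i by
    obtain ⟨J, hJ, hW⟩ := H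
    refine ⟨J, hJ, fun j hj => ?_⟩
    obtain ⟨W, h1, h2, h3, h4⟩ := hW j hj
    exact ⟨W, h1, h2, ts_of_ti hr hfr hf h2 (h1.trans hle) h3, h4⟩
  split_ifs with hev
  · obtain ⟨j₀, hj₀⟩ := hev
    have hcard := card_factors (F := F) (r := r) hr
    rw [← hidef] at hcard
    refine exists_ti h hiso hss (factors F r) _ D (nondeg_iff.2 hD) hk fun U hU hUnd hUi hani => ?_
    refine (finrank_aniso_le h hiso (factors F r) (fun P hP v₁ v₂ h1 h2 n1 n2 ho => ?_) U hUnd
      (hk.mono hUi hU) hani).trans ?_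
    · rcases Nat.eq_zero_or_pos j₀ with h0 | hpos
      · have := hk.deg P hP
        have := (hk.irr P hP).natDegree_pos
        omega
      obtain ⟨bar, hbar⟩ := exists_isConj hr (j := j₀) hpos (by omega) hP
      exact exists_ti_of_pair (hk.irr P hP) h hbar (monic_factor (Fact.out : r.Prime).ne_zero hP) hiso
        h1 h2 n1 n2 ho
    · rcases Nat.eq_zero_or_pos i with h0 | hpos
      · simp [h0]
      · rw [← hcard, Nat.mul_div_cancel _ hpos]
  · refine exists_ti h hiso hss (factors F r) 0 D (nondeg_iff.2 hD) hk fun U hU _ hUi hani => ?_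
    rw [zero_mul, Nat.le_zero, Submodule.finrank_eq_zero]
    by_contra h0
    obtain ⟨P, hP, v, hv, hv0, hPv⟩ := exists_factor _ hUi h0 (hk.mono hUi hU).kill
    exact hv0 (hani P hP v hv hPv
      (cyc_ti hQ hf hr hr2 hfr (Nat.not_even_iff_odd.1 hev) hP ((hU.trans hle) hv) hPv))

end CfsgLib.OrthPrime
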