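import Cfsg.Agent.Lib.OrthPrime.NegSq
import Cfsg.Agent.Lib.OrthPrime.InvolTS

/-! Elements of order two modulo scalars on totally singular subspaces, even dimension. -/

set_option autoImplicit false

namespace CfsgLib.OrthPrime

open QuadraticMap CfsgLib.Geometry CfsgLib.OrthMax CfsgLib.PrimeOrderSp

universe u

variable {F : Type u} [Field F] [Fintype F] {ι : Type} [Fintype ι] [DecidableEq ι] {R : QuadraticForm F (ι → F)}

theorem odd_card_of_two_ne (h2 : (2 : F) ≠ 0) : Fintype.card F % 2 = 1 :=
  FiniteField.odd_card_of_char_ne_two (F := F) fun h => h2 (by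
    haveI := ringChar.of_eq h
    exact CharTwo.two_eq_zero)

theorem top_nondeg (hR : (polarBilin R).Nondegenerate) :
    (⊤ : Submodule F (ι → F)) ⊓ polarPerp R ⊤ = ⊥ :=
  nondeg_iff.1 fun u _ hu' => hR.1 u fun v => hu' v trivial

/-- A subspace of dimension other than `0` and `n` is not the moved space of a scalar. -/
theorem not_scalar_of_mov (h2 : (2 : F) ≠ 0) {f : Module.End F (ι → F)} (hff : f ^ 2 = 1)
    (h0 : Module.finrank F (movSp f) ≠ 0) (h1 : Module.finrank F (movSp f) ≠ Fintype.card ι) (z : F) :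
    f ≠ z • 1 := by
  intro h
  haveI : Nonempty ι := by
    by_contra hc
    rw [not_nonempty_iff] at hc
    exact h0 (Nat.eq_zero_of_le_zero ((Submodule.finrank_le _).trans (by
      rw [Module.finrank_fintype_fun_eq_card, Fintype.card_eq_zero])))
  obtain ⟨j⟩ := ‹Nonempty ι›
  have hz : z * z = 1 := by
    have := congrFun (LinearMap.congr_fun hff (Pi.single j 1)) j
    rw [h, smul_pow, one_pow, LinearMap.smul_apply, Module.End.one_apply, Pi.smul_apply, Pi.single_eq_same,
      smul_eq_mul, mul_one, pow_two] at this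
    exact this
  rcases mul_self_eq_one_iff.1 hz with rfl | rfl
  · refine h0 ?_
    rw [show movSp f = ⊥ by simp [movSp, h], finrank_bot]
  · refine h1 ?_
    rw [show movSp f = ⊤ from LinearMap.range_eq_top.2 fun v => ⟨-((2 : F)⁻¹ • v), by
      rw [h]
      rw [LinearMap.sub_apply, LinearMap.smul_apply, Module.End.one_apply, neg_one_smul, neg_neg, sub_neg_eq_add,
        ← two_smul F ((2 : F)⁻¹ • v), smul_smul, mul_inv_cancel₀ h2, one_smul]⟩,
      finrank_top, Module.finrank_fintype_fun_eq_card]

/-- Every element of `Ω` of order `2` modulo scalars fixes a totally singular `m`-space exactly when this holds. -/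
theorem ts_two_even (hR : (polarBilin R).Nondegenerate) (h2 : (2 : F) ≠ 0) {d m : ℕ}
    (hn : Fintype.card ι = 2 * d) (hd : 4 ≤ d) (hmd : m < d) :
    (∀ x : GL ι F, x ∈ Cfsg.Geo.omegaGL ⇑R →
      (∃ z : F, ((x ^ 2 : GL ι F) : Matrix ι ι F) = z • (1 : Matrix ι ι F)) →
      (∀ z : F, (x : Matrix ι ι F) ≠ z • (1 : Matrix ι ι F)) →
      ∃ W : Submodule F (ι → F), (Module.finrank F W = m ∧ ∀ w ∈ W, R w = 0) ∧ W.map (Matrix.toLin' (x : Matrix ι ι F)) ≤ W) ↔
    ((Fintype.card F % 4 = 1 ∨ sgn R ⊤ = -1 ∨ m + 2 ≤ d) ∧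
      (sgn R ⊤ = dSgn (Fintype.card F) d → (Even d ∨ (Fintype.card F % 8 ≠ 3 ∧ Fintype.card F % 8 ≠ 5)) →
        (Fintype.card F % 4 = 1 ∨ Even m))) := by
  classical
  have htop := top_nondeg hR
  have hodd := odd_card_of_two_ne h2
  have hfr : Module.finrank F (ι → F) = 2 * d := by rw [Module.finrank_fintype_fun_eq_card, hn]
  have hsgn : ∀ f : Module.End F (ι → F), (∀ v, R (f v) = R v) → f ^ 2 = 1 →
      Even (Module.finrank F (movSp f)) → sgn R ⊤ = sgn R (fixSp f) * sgn R (movSp f) := by
    intro f hf hff he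
    obtain ⟨hx, hm, hsum, ho, hc⟩ := invol_facts hR h2 hf hff
    rw [← hc.sup_eq_top]
    refine sgn_sup hx hm ho ?_ he
    obtain ⟨j, hj⟩ := he
    exact ⟨d - j, by omega⟩
  constructor
  · intro H
    refine ⟨?_, fun hs hΩ => ?_⟩
    · by_contra hc
      push Not at hc
      obtain ⟨hq4, he, hmd2⟩ := hc
      have he1 : sgn R ⊤ = 1 := (sgn_cases ⊤).resolve_right he
      obtain ⟨D, -, hD, hDd, hDs⟩ := exists_nd_dim htop (k := 1) (dSgn_cases (Fintype.card F) 1)
        (fun h => absurd h one_ne_zero) (Or.inl (by rw [finrank_top, hfr]; omega))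
      obtain ⟨f, hf, hff, hmov⟩ := exists_neg_end hR h2 hD
      obtain ⟨x, hx, hxf⟩ := (invol_mem_omega_iff hR h2 hf hff).2 ⟨1, by rw [hmov, hDd], by rw [hmov, hDs]⟩
      obtain ⟨W, ⟨hW1, hW2⟩, hW3⟩ := H x hx ⟨1, Matrix.toLin'.injective (by
        rw [toLin'_pow, hxf, hff, one_smul, Matrix.toLin'_one, Module.End.one_eq_id])⟩ fun z hz =>
          not_scalar_of_mov h2 hff (by rw [hmov, hDd]; omega) (by rw [hmov, hDd, hn]; omega) z (by
            rw [← hxf, hz, map_smul, Matrix.toLin'_one, Module.End.one_eq_id])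
      rw [hxf, Submodule.map_le_iff_le_comap] at hW3
      obtain ⟨a, b, hab, ha, hb⟩ := invol_ts_bound hR h2 hf hff hW2 fun v hv => hW3 hv
      obtain ⟨-, -, hsum, -, -⟩ := invol_facts hR h2 hf hff
      have hDs' : sgn R D = -1 := by
        rw [hDs, dSgn, if_neg (by simp [hq4])]
      have hmul := hsgn f hf hff (by rw [hmov, hDd]; exact even_two_mul 1)
      rw [hmov, hDs', he1] at hmul
      rw [hmov, hDd] at hb hsum
      rcases ha with ha | ⟨-, ha⟩
      swap
      · rw [sgn_plus ha] at hmul; norm_num at hmul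
      rcases hb with hb | ⟨-, hb⟩
      swap
      · rw [sgn_plus hb] at hDs'; norm_num at hDs'
      omega
    · by_contra hc
      push Not at hc
      obtain ⟨f, hf, hff⟩ := exists_neg_sq hR h2 hn hs
      obtain ⟨x, hx, hxf⟩ := (neg_sq_iff hR h2 hn hf hff).2.2 hΩ
      obtain ⟨W, ⟨hW1, hW2⟩, hW3⟩ := H x hx ⟨-1, Matrix.toLin'.injective (by
        rw [toLin'_pow, hxf, map_smul, Matrix.toLin'_one]
        refine LinearMap.ext fun v => ?_
        simp [pow_two, hff])⟩ fun z hz => by
          have hfz : f = z • 1 := by rw [← hxf, hz, map_smul, Matrix.toLin'_one, Module.End.one_eq_id]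
          haveI : Nonempty ι := Fintype.card_pos_iff.1 (by omega)
          obtain ⟨j⟩ := ‹Nonempty ι›
          have := congrFun (hff (Pi.single j 1)) j
          rw [hfz] at this
          simp at this
          have := FiniteField.isSquare_neg_one_iff.1 ⟨z, this.symm⟩
          omega
      rw [hxf, Submodule.map_le_iff_le_comap] at hW3
      rcases (neg_sq_ts hR h2 hfr hmd hf hff).1 ⟨W, hW1, hW2, fun v hv => hW3 hv⟩ with h | h
      · exact hc.1 h
      · exact Nat.not_even_iff_odd.2 (Nat.not_even_iff_odd.1 hc.2) h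
  · rintro ⟨hinv, hneg⟩ x hx ⟨z, hz⟩ hns
    have hf := omega_preserves hx
    set f := Matrix.toLin' (x : Matrix ι ι F) with hfdef
    rcases scalar_two_cases hR (by omega) hx hz with hff | hff
    · obtain ⟨k, hk, hs⟩ := (invol_mem_omega_iff hR h2 hf hff).1 ⟨x, hx, rfl⟩
      obtain ⟨-, -, hsum, -, hcompl⟩ := invol_facts hR h2 hf hff
      have hmul := hsgn f hf hff (by rw [hk]; exact even_two_mul k)
      have hk0 : 0 < k := Nat.pos_of_ne_zero fun h0 => hns 1 (Matrix.toLin'.injective (by
        have : f - 1 = 0 := LinearMap.range_eq_bot.1 (Submodule.finrank_eq_zero.1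
          (show Module.finrank F (movSp f) = 0 by omega))
        rw [one_smul, Matrix.toLin'_one, ← Module.End.one_eq_id]
        exact sub_eq_zero.1 this))
      have hkd : k < d := by
        by_contra hc
        have hfix : fixSp f = ⊥ := Submodule.finrank_eq_zero.1 (by omega)
        refine hns (-1) (Matrix.toLin'.injective (LinearMap.ext fun v => ?_))
        have hv : v ∈ movSp f := by
          have := hcompl.sup_eq_top
          rw [hfix, bot_sup_eq] at this
          rw [this]; trivial
        rw [map_smul, Matrix.toLin'_one, ← hfdef, apply_mov hff hv]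
        simp
      let A := if sgn R (fixSp f) = 1 then d - k else d - k - 1
      let B := if sgn R (movSp f) = 1 then k else k - 1
      have hmAB : m ≤ A + B := by
        simp only [A, B]
        rcases sgn_cases (Q := R) (fixSp f) with h | h <;> rcases sgn_cases (Q := R) (movSp f) with h' | h' <;>
          rw [h, h'] at hmul <;> rw [h, h']
        · simp; omega
        · simp; omega
        · simp; omega
        · have hne : Fintype.card F % 4 ≠ 1 := fun h4 => by
            rw [h', dSgn, if_pos (Or.inl h4)] at hs; norm_num at hs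
          have := (hinv.resolve_left hne).resolve_left (by rw [hmul]; norm_num)
          simp; omega
      have ha : 2 * min m A < Module.finrank F (fixSp f) ∨
          (2 * min m A = Module.finrank F (fixSp f) ∧ Plus R (fixSp f)) := by
        simp only [A]
        by_cases h : sgn R (fixSp f) = 1
        · rw [if_pos h]
          rcases lt_or_ge m (d - k) with h' | h'
          · exact Or.inl (by omega)
          · exact Or.inr ⟨by omega, plus_iff_sgn.2 h⟩
        · rw [if_neg h]; exact Or.inl (by omega)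
      have hb : 2 * (m - min m A) < Module.finrank F (movSp f) ∨
          (2 * (m - min m A) = Module.finrank F (movSp f) ∧ Plus R (movSp f)) := by
        simp only [B] at hmAB
        by_cases h : sgn R (movSp f) = 1
        · rw [if_pos h] at hmAB
          rcases lt_or_ge (m - min m A) k with h' | h'
          · exact Or.inl (by omega)
          · exact Or.inr ⟨by omega, plus_iff_sgn.2 h⟩
        · rw [if_neg h] at hmAB
          exact Or.inl (by omega)
      obtain ⟨W, hW1, hW2, hW3⟩ := exists_invol_ts hR h2 hf hff ha hb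
      exact ⟨W, ⟨by omega, hW2⟩, Submodule.map_le_iff_le_comap.2 fun v hv => hW3 v hv⟩
    · obtain ⟨hs, hΩ⟩ := neg_sq_iff hR h2 hn hf hff
      obtain ⟨W, hW1, hW2, hW3⟩ := (neg_sq_ts hR h2 hfr hmd hf hff).2 (hneg hs (hΩ.1 ⟨x, hx, rfl⟩))
      exact ⟨W, ⟨hW1, hW2⟩, Submodule.map_le_iff_le_comap.2 fun v hv => hW3 v hv⟩

end CfsgLib.OrthPrime
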