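import Cfsg.Agent.Lib.OrthPrime.Criterion

/-! Invariant non-degenerate subspaces of unipotent isometries. -/

set_option autoImplicit false

namespace CfsgLib.OrthPrime

open QuadraticMap CfsgLib.Geometry CfsgLib.OrthMax CfsgLib.PrimeOrderSp

universe u v

variable {F : Type u} [Field F] {V : Type v} [AddCommGroup V] [Module F V]
variable {Q : QuadraticForm F V} {f : Module.End F V}

theorem apply_eq_add_sub (f : Module.End F V) (w : V) : f w = w + (f - 1) w := by
  rw [LinearMap.sub_apply, Module.End.one_apply, add_sub_cancel]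

theorem inv_sub_one {W : Submodule F V} (hi : Inv f W) : ∀ w ∈ W, (f - 1) w ∈ W := fun w hw => by
  rw [LinearMap.sub_apply, Module.End.one_apply]
  exact W.sub_mem (hi w hw) hw

theorem mov_adjoint (hf : ∀ v, Q (f v) = Q v) (u w : V) :
    polar Q ((f - 1) u) (f w) = -polar Q u ((f - 1) w) := by
  have h : polar Q (f u) (f w) = polar Q u w := by simp only [polar, ← map_add, hf]
  simp only [LinearMap.sub_apply, Module.End.one_apply, polar_sub_left, polar_sub_right, h]
  ring

theorem polar_range_ker (hf : ∀ v, Q (f v) = Q v) {z w : V} (hz : z ∈ LinearMap.range (f - 1))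
    (hw : w ∈ LinearMap.ker (f - 1)) : polar Q z w = 0 := by
  obtain ⟨u, rfl⟩ := hz
  rw [LinearMap.mem_ker] at hw
  have h := mov_adjoint hf u w
  rw [apply_eq_add_sub f w, hw, add_zero, polar_zero_right, neg_zero] at h
  exact h

theorem mov_alt_two (hf : ∀ v, Q (f v) = Q v) (u : V) : polar Q ((f - 1) u) (f u + u) = 0 := by
  have h : polar Q (f u) (f u) = polar Q u u := by simp only [polar, ← map_add, hf]
  rw [LinearMap.sub_apply, Module.End.one_apply, polar_sub_left, polar_add_right, polar_add_right, h,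
    polar_comm Q (f u) u]
  ring

theorem mov_alt_ts (hf : ∀ v, Q (f v) = Q v) (hts : ∀ u, Q ((f - 1) u) = 0) (u : V) :
    polar Q ((f - 1) u) u = 0 := by
  have h := hf u
  rw [apply_eq_add_sub f u, CfsgLib.Geometry.map_add', hts, add_zero] at h
  rw [polar_comm]
  exact add_eq_left.1 h

variable [FiniteDimensional F V]

theorem map_nondeg_inj {W : Submodule F V} (hi : Inv f W) (hinj : ∀ w ∈ W, f w = 0 → w = 0) :
    ∀ w ∈ W, ∃ w' ∈ W, f w' = w := by
  have hg : Function.Injective (f.restrict hi) := (injective_iff_map_eq_zero _).2 fun x hx =>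
    Subtype.ext (hinj x x.2 (congrArg Subtype.val hx))
  intro w hw
  obtain ⟨x, hx⟩ := LinearMap.injective_iff_surjective.1 hg ⟨w, hw⟩
  exact ⟨x, x.2, congrArg Subtype.val hx⟩

theorem perp_range_iff (hf : ∀ v, Q (f v) = Q v) {W : Submodule F V} (hi : Inv f W)
    (hW : W ⊓ polarPerp Q W = ⊥) {w : V} (hw : w ∈ W) :
    (∀ u ∈ W, polar Q ((f - 1) u) w = 0) ↔ (f - 1) w = 0 := by
  refine ⟨fun h => ?_, fun h u _ => polar_range_ker hf ⟨u, rfl⟩ (LinearMap.mem_ker.2 h)⟩
  obtain ⟨w', hw', rfl⟩ := map_nondeg_inj hi (fun x hx hx0 => (Submodule.mem_bot F).1 (hW ▸ ⟨hx,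
    mem_polarPerp.2 fun z _ => by
      have h1 : polar Q (f z) (f x) = polar Q z x := by simp only [polar, ← map_add, hf]
      rw [hx0, polar_zero_right] at h1
      exact h1.symm⟩)) w hw
  have hn : (f - 1) w' = 0 := (Submodule.mem_bot F).1 (hW ▸ ⟨inv_sub_one hi w' hw',
    mem_polarPerp.2 fun z hz => by
      have h1 := h z hz
      rw [mov_adjoint hf, neg_eq_zero] at h1
      exact h1⟩)
  rw [apply_eq_add_sub f w', hn, add_zero, hn]

theorem finrank_map_add_ker (n : Module.End F V) (W : Submodule F V) :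
    Module.finrank F (W.map n) + Module.finrank F (W ⊓ LinearMap.ker n : Submodule F V) = Module.finrank F W := by
  have h := LinearMap.finrank_range_add_finrank_ker (n.domRestrict W)
  rw [LinearMap.range_domRestrict, LinearMap.ker_domRestrict] at h
  rw [← h, ← Submodule.finrank_map_subtype_eq W (Submodule.comap W.subtype (LinearMap.ker n)),
    Submodule.map_comap_subtype]

/-- Inside an invariant non-degenerate subspace the moved part is what is orthogonal to the fixed part. -/
theorem inf_range_eq (hf : ∀ v, Q (f v) = Q v) {W : Submodule F V} (hi : Inv f W)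
    (hW : W ⊓ polarPerp Q W = ⊥) : W ⊓ LinearMap.range (f - 1) = W.map (f - 1) := by
  refine le_antisymm ?_ (le_inf (Submodule.map_le_iff_le_comap.2 (inv_sub_one hi))
    LinearMap.map_le_range)
  set K := W ⊓ LinearMap.ker (f - 1)
  have hle : W.map (f - 1) ≤ W ⊓ polarPerp Q K := le_inf
    (Submodule.map_le_iff_le_comap.2 (inv_sub_one hi))
    (by
      rintro _ ⟨u, -, rfl⟩
      exact mem_polarPerp.2 fun w hw => by rw [polar_comm]; exact polar_range_ker hf ⟨u, rfl⟩ hw.2)
  have hd : Module.finrank F (W ⊓ polarPerp Q K : Submodule F V) + Module.finrank F K = Module.finrank F W := by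
    have h := finrank_polarPerp (nondeg_comp hW) (K.comap W.subtype)
    rw [(Submodule.comapSubtypeEquivOfLe (inf_le_left : K ≤ W)).finrank_eq] at h
    rw [← h, ← Submodule.finrank_map_subtype_eq W (polarPerp (Q.comp W.subtype) (K.comap W.subtype))]
    suffices e : W ⊓ polarPerp Q K = (polarPerp (Q.comp W.subtype) (K.comap W.subtype)).map W.subtype by rw [e]
    ext x
    constructor
    · rintro ⟨hx, hx'⟩
      exact ⟨⟨x, hx⟩, mem_polarPerp.2 fun y hy => (polar_comp Q W y ⟨x, hx⟩).trans (mem_polarPerp.1 hx' _ hy), rfl⟩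
    · rintro ⟨y, hy, rfl⟩
      refine ⟨y.2, mem_polarPerp.2 fun z hz => ?_⟩
      exact (polar_comp Q W ⟨z, hz.1⟩ y).symm.trans (mem_polarPerp.1 hy _ hz)
  have heq := Submodule.eq_of_le_of_finrank_eq hle (by
    have h9 : Module.finrank F (W.map (f - 1)) + Module.finrank F K = Module.finrank F W :=
      finrank_map_add_ker (f - 1) W
    omega)
  rintro z ⟨hz, hzr⟩
  rw [heq]
  exact ⟨hz, mem_polarPerp.2 fun w hw => by rw [polar_comm]; exact polar_range_ker hf hzr hw.2⟩

/-- The rank is even as soon as a twisted form is alternating. -/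
theorem even_rank (hf : ∀ v, Q (f v) = Q v) {W : Submodule F V} (hi : Inv f W) (hW : W ⊓ polarPerp Q W = ⊥)
    (T : Module.End F V) (hT : ∀ w ∈ W, T w ∈ W) (hTi : ∀ w ∈ W, T w = 0 → w = 0)
    (halt : ∀ u ∈ W, polar Q ((f - 1) u) (T u) = 0) : Even (Module.finrank F (W.map (f - 1))) := by
  set n := f - 1
  let α : LinearMap.BilinForm F W := (polarBilin Q).compl₁₂ (n ∘ₗ W.subtype) (T ∘ₗ W.subtype)
  have hα : ∀ u v : W, α u v = polar Q (n u) (T v) := fun u v => rfl
  obtain ⟨C, hC⟩ := Submodule.exists_isCompl (LinearMap.ker (n.domRestrict W))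
  have hnd : Nondeg (σ := RingHom.id F) α C := by
    intro u hu hperp
    have hker : u ∈ LinearMap.ker (n.domRestrict W) := by
      rw [LinearMap.mem_ker, LinearMap.domRestrict_apply]
      refine (Submodule.mem_bot F).1 (hW ▸ ⟨inv_sub_one hi _ u.2, mem_polarPerp.2 fun z hz => ?_⟩)
      obtain ⟨z', hz', rfl⟩ := map_nondeg_inj hT hTi z hz
      obtain ⟨a, ha, b, hb, hab⟩ := Submodule.mem_sup.1 (hC.sup_eq_top.symm ▸
        (Submodule.mem_top : (⟨z', hz'⟩ : W) ∈ (⊤ : Submodule F W)))
      have ha' : n (a : V) = 0 := LinearMap.mem_ker.1 ha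
      have h1 : α u a = 0 := by
        have h2 : α (u + a) (u + a) = 0 := halt _ (u + a).2
        simp only [map_add, LinearMap.add_apply, (hα u u).trans (halt _ u.2), (hα a a).trans (halt _ a.2),
          hα a u, ha', polar_zero_left, zero_add, add_zero] at h2
        exact h2
      have h3 : α u (a + b) = 0 := by rw [map_add, h1, hperp b hb, add_zero]
      rw [hab] at h3
      rw [polar_comm]
      exact h3
    exact (Submodule.mem_bot F).1 (hC.disjoint.eq_bot ▸ ⟨hker, hu⟩)
  have hev := even_finrank (B := α) (fun u => halt _ u.2) hnd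
  have h1 := Submodule.finrank_add_eq_of_isCompl hC
  have h2 := LinearMap.finrank_range_add_finrank_ker (n.domRestrict W)
  rw [LinearMap.range_domRestrict] at h2
  rwa [show Module.finrank F (W.map n) = Module.finrank F C by omega]

/-- The dimensions attached to an invariant non-degenerate subspace. -/
theorem nd_dims (hf : ∀ v, Q (f v) = Q v) {W : Submodule F V} (hi : Inv f W) (hW : W ⊓ polarPerp Q W = ⊥) :
    let n := f - 1
    ∃ x, Module.finrank F W + Module.finrank F ((W.map n).map n) = 2 * Module.finrank F (W.map n) + x ∧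
      Module.finrank F ((W.map n).map n) ≤ Module.finrank F (LinearMap.range (n * n)) ∧
      x + Module.finrank F (LinearMap.ker n ⊓ LinearMap.range n : Submodule F V) ≤ Module.finrank F (LinearMap.ker n) ∧
      Module.finrank F (W.map n ⊓ LinearMap.ker n : Submodule F V) + x =
        Module.finrank F (W ⊓ LinearMap.ker n : Submodule F V) := by
  intro n
  have h1 := finrank_map_add_ker n W
  have h2 := finrank_map_add_ker n (W.map n)
  have hle : W.map n ⊓ LinearMap.ker n ≤ W ⊓ LinearMap.ker n :=
    inf_le_inf_right _ (Submodule.map_le_iff_le_comap.2 (inv_sub_one hi))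
  have h3 := Submodule.finrank_mono hle
  refine ⟨Module.finrank F (W ⊓ LinearMap.ker n : Submodule F V) -
    Module.finrank F (W.map n ⊓ LinearMap.ker n : Submodule F V), by omega, ?_, ?_, by omega⟩
  · refine Submodule.finrank_mono ?_
    rintro _ ⟨_, ⟨u, -, rfl⟩, rfl⟩
    exact ⟨u, rfl⟩
  · set K := W ⊓ LinearMap.ker n
    set R := LinearMap.ker n ⊓ LinearMap.range n
    have h4 := Submodule.finrank_sup_add_finrank_inf_eq K R
    have h5 : Module.finrank F (K ⊔ R : Submodule F V) ≤ Module.finrank F (LinearMap.ker n) :=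
      Submodule.finrank_mono (sup_le inf_le_right inf_le_left)
    have h6 : Module.finrank F (K ⊓ R : Submodule F V) ≤
        Module.finrank F (W.map n ⊓ LinearMap.ker n : Submodule F V) := by
      refine Submodule.finrank_mono ?_
      rw [← inf_range_eq hf hi hW]
      exact fun z hz => ⟨⟨hz.1.1, hz.2.2⟩, hz.1.2⟩
    omega

end CfsgLib.OrthPrime
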