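import Cfsg.Agent.Lib.OrthPrime.Unip

/-! Unipotent isometries with prescribed moved space. -/

set_option autoImplicit false

namespace CfsgLib.OrthPrime

open QuadraticMap CfsgLib.Geometry CfsgLib.OrthMax CfsgLib.PrimeOrderSp

universe u v

variable {F : Type u} [Field F] {V : Type v} [AddCommGroup V] [Module F V] [FiniteDimensional F V]
variable {Q : QuadraticForm F V}

omit [FiniteDimensional F V] in
theorem map_sum_orth {κ : Type*} (S : Finset κ) (P : κ → V) (c : κ → F)
    (ho : ∀ k l, k ≠ l → polar Q (P k) (P l) = 0) :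
    Q (∑ k ∈ S, c k • P k) = ∑ k ∈ S, c k * c k * Q (P k) := by
  classical
  induction S using Finset.induction_on with
  | empty => simp
  | insert a T ha ih =>
    have h0 : polar Q (c a • P a) (∑ k ∈ T, c k • P k) = 0 := by
      rw [← polarBilin_apply_apply, map_sum]
      refine Finset.sum_eq_zero fun k hk => ?_
      rw [polarBilin_apply_apply, polar_smul_left', polar_smul_right', ho a k (by rintro rfl; exact ha hk)]
      ring
    rw [Finset.sum_insert ha, Finset.sum_insert ha, CfsgLib.Geometry.map_add', ih, h0, add_zero,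
      CfsgLib.Geometry.map_smul']

theorem exists_pairing (hQ : (polarBilin Q).Nondegenerate) {κ : Type*} {P : κ → V}
    (hli : LinearIndependent F P) (t : κ → F) : ∃ x, ∀ k, polar Q x (P k) = t k := by
  obtain ⟨g, hg⟩ := LinearMap.exists_extend ((Module.Basis.span hli).constr F t)
  obtain ⟨x, hx⟩ := (LinearMap.BilinForm.toDual (polarBilin Q) hQ).surjective g
  refine ⟨x, fun k => ?_⟩
  have h1 := LinearMap.congr_fun hx (P k)
  rw [LinearMap.BilinForm.toDual_def] at h1
  rw [← polarBilin_apply_apply, h1,
    show P k = Submodule.subtype _ (Module.Basis.span hli k) by simp [Module.Basis.span_apply],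
    ← LinearMap.comp_apply, hg, Module.Basis.constr_basis]

/-- Short root elements along a totally singular space, and long ones along orthogonal vectors. -/
theorem exists_unip (hQ : (polarBilin Q).Nondegenerate) {j s : ℕ} {U : Submodule F V}
    (hU : ∀ u ∈ U, Q u = 0) (hUd : Module.finrank F U = 2 * j + s) (w : Fin s → V)
    (hUw : ∀ u ∈ U, ∀ k, polar Q u (w k) = 0) (hww : ∀ k l, k ≠ l → polar Q (w k) (w l) = 0)
    (hw : ∀ k, 2 * Q (w k) ≠ 0) :
    ∃ f : Module.End F V, (∀ v, Q (f v) = Q v) ∧ (f - 1) ^ 3 = 0 ∧ (s = 0 → (f - 1) ^ 2 = 0) ∧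
      Module.finrank F (LinearMap.range (f - 1)) = 2 * j + 2 * s ∧
      Module.finrank F (LinearMap.range ((f - 1) * (f - 1))) ≤ s ∧
      2 * j + s ≤ Module.finrank F (LinearMap.ker (f - 1) ⊓ LinearMap.range (f - 1) : Submodule F V) ∧
      LinearMap.range (f - 1) ≤ U ⊔ Submodule.span F (Set.range w) ∧
      LinearMap.ker (f - 1) ≤ polarPerp Q (U ⊔ Submodule.span F (Set.range w)) := by
  classical
  let bU := Module.finBasisOfFinrankEq F U hUd
  let a : Fin j → V := fun k => (bU ⟨k, by omega⟩ : V)
  let b : Fin j → V := fun k => (bU ⟨j + k, by omega⟩ : V)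
  let e : Fin s → V := fun k => (bU ⟨2 * j + k, by omega⟩ : V)
  let P : (Fin j ⊕ Fin j) ⊕ (Fin s ⊕ Fin s) → V := Sum.elim (Sum.elim a b) (Sum.elim e w)
  have hua : ∀ k, a k ∈ U := fun k => Subtype.coe_prop _
  have hub : ∀ k, b k ∈ U := fun k => Subtype.coe_prop _
  have hue : ∀ k, e k ∈ U := fun k => Subtype.coe_prop _
  have hUU : ∀ u ∈ U, ∀ u' ∈ U, polar Q u u' = 0 := fun u hu u' hu' => polar_eq_zero_of_singular hU hu hu'
  have ho : ∀ k l, k ≠ l → polar Q (P k) (P l) = 0 := by
    have hwu : ∀ k, ∀ u ∈ U, polar Q (w k) u = 0 := fun k u hu => (polar_comm (⇑Q) _ _).trans (hUw u hu k)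
    rintro ((k | k) | (k | k)) ((l | l) | (l | l)) hne <;> simp only [P, Sum.elim_inl, Sum.elim_inr] <;>
      first
        | exact hUU _ (Subtype.coe_prop _) _ (Subtype.coe_prop _)
        | exact hUw _ (Subtype.coe_prop _) _
        | exact hwu _ _ (Subtype.coe_prop _)
        | exact hww k l fun h => hne (by rw [h])
  have hPP : ∀ k, polar Q (P k) (P k) = Sum.elim (fun _ => 0) (Sum.elim (fun _ => 0) fun k => 2 * Q (w k)) k := by
    rintro ((k | k) | (k | k)) <;> simp only [P, Sum.elim_inl, Sum.elim_inr, polar_self']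
    · rw [hU _ (hua k), mul_zero]
    · rw [hU _ (hub k), mul_zero]
    · rw [hU _ (hue k), mul_zero]
  -- independence
  let idx : (Fin j ⊕ Fin j) ⊕ Fin s → Fin (2 * j + s) :=
    Sum.elim (Sum.elim (fun k => ⟨k, by omega⟩) fun k => ⟨j + k, by omega⟩) fun k => ⟨2 * j + k, by omega⟩
  have hidx : Function.Injective idx := by
    rintro ((k | k) | k) ((l | l) | l) h <;> simp [idx, Fin.ext_iff] at h ⊢ <;> omega
  have hliU : LinearIndependent F fun i => (bU (idx i) : V) :=
    (bU.linearIndependent.comp idx hidx).map' U.subtype U.ker_subtype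
  have hli : LinearIndependent F P := by
    rw [Fintype.linearIndependent_iff]
    intro c hc
    have hcw : ∀ k, c (Sum.inr (Sum.inr k)) = 0 := fun k => by
      have h1 := congrArg (fun z => polar Q z (w k)) hc
      simp only [polar_zero_left] at h1
      rw [← polarBilin_apply_apply, map_sum, LinearMap.sum_apply,
        Finset.sum_eq_single (Sum.inr (Sum.inr k)) (fun l _ hl => by
          rw [polarBilin_apply_apply, polar_smul_left',
            show polar Q (P l) (w k) = 0 from ho l (Sum.inr (Sum.inr k)) hl, mul_zero]) (by simp),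
        polarBilin_apply_apply, polar_smul_left', show polar Q (P (Sum.inr (Sum.inr k))) (w k) = 2 * Q (w k) from
          hPP (Sum.inr (Sum.inr k))] at h1
      exact (mul_eq_zero.1 h1).resolve_right (hw k)
    have h2 : ∑ i, Sum.elim (fun i => c (Sum.inl i)) (fun i => c (Sum.inr (Sum.inl i))) i • (bU (idx i) : V) = 0 := by
      rw [← hc]
      simp [Fintype.sum_sum_type, hcw, P, idx, a, b, e, add_assoc]
    have h3 := Fintype.linearIndependent_iff.1 hliU _ h2
    rintro (i | i | i)
    · exact h3 (Sum.inl i)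
    · exact h3 (Sum.inr i)
    · exact hcw i
  -- the displacement
  let cf : (Fin j ⊕ Fin j) ⊕ (Fin s ⊕ Fin s) → V →ₗ[F] F := Sum.elim
    (Sum.elim (fun k => -polarBilin Q (b k)) fun k => polarBilin Q (a k))
    (Sum.elim (fun k => -polarBilin Q (w k) - Q (w k) • polarBilin Q (e k)) fun k => polarBilin Q (e k))
  let n : Module.End F V := ∑ k, (cf k).smulRight (P k)
  have hn : ∀ x, n x = ∑ k, cf k x • P k := fun x => by simp [n]
  have hPn : ∀ l x, polar Q (P l) (n x) = cf l x * polar Q (P l) (P l) := fun l x => by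
    rw [hn, ← polarBilin_apply_apply, map_sum, Finset.sum_eq_single l (fun k _ hk => by
      rw [map_smul, polarBilin_apply_apply, ho l k hk.symm, smul_zero]) (by simp), map_smul,
      polarBilin_apply_apply, smul_eq_mul]
  have hiso : ∀ v, Q ((1 + n) v) = Q v := fun x => by
    rw [LinearMap.add_apply, Module.End.one_apply, CfsgLib.Geometry.map_add']
    have h1 : polar Q x (n x) = ∑ k, cf k x * polar Q x (P k) := by
      rw [hn, ← polarBilin_apply_apply, map_sum]
      simp [polarBilin_apply_apply, smul_eq_mul]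
    rw [h1, hn, map_sum_orth _ _ _ ho, add_assoc, ← Finset.sum_add_distrib]
    simp only [Fintype.sum_sum_type]
    have hA : ∀ k, Q (a k) = 0 := fun k => hU _ (hua k)
    have hB : ∀ k, Q (b k) = 0 := fun k => hU _ (hub k)
    have hE : ∀ k, Q (e k) = 0 := fun k => hU _ (hue k)
    simp only [cf, P, Sum.elim_inl, Sum.elim_inr, LinearMap.neg_apply, LinearMap.sub_apply, LinearMap.smul_apply,
      polarBilin_apply_apply, hA, hB, hE, mul_zero, zero_add, smul_eq_mul, polar_comm Q (b _) x, polar_comm Q (a _) x,
      polar_comm Q (w _) x, polar_comm Q (e _) x]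
    rw [← Finset.sum_add_distrib, ← Finset.sum_add_distrib]
    have e1 : ∀ S : Fin s → F, (∀ k, S k = 0) → ∑ k, S k = 0 := fun S h => Finset.sum_eq_zero fun k _ => h k
    have e2 : ∀ S : Fin j → F, (∀ k, S k = 0) → ∑ k, S k = 0 := fun S h => Finset.sum_eq_zero fun k _ => h k
    rw [e1 _ fun k => by ring, e2 _ fun k => by ring, add_zero, add_zero]
  have hker : ∀ x, (∀ k, polar Q (P k) x = 0) → n x = 0 := fun x h => by
    rw [hn]
    refine Finset.sum_eq_zero fun k _ => ?_
    have ha : ∀ k, polar Q (a k) x = 0 := fun k => h (Sum.inl (Sum.inl k))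
    have hb : ∀ k, polar Q (b k) x = 0 := fun k => h (Sum.inl (Sum.inr k))
    have he : ∀ k, polar Q (e k) x = 0 := fun k => h (Sum.inr (Sum.inl k))
    have hw' : ∀ k, polar Q (w k) x = 0 := fun k => h (Sum.inr (Sum.inr k))
    rcases k with (k | k) | (k | k) <;>
      simp [cf, ha, hb, he, hw']
  have hnU : ∀ u ∈ U, n u = 0 := fun u hu => hker u fun k => by
    rcases k with (k | k) | (k | k)
    · exact hUU _ (hua k) u hu
    · exact hUU _ (hub k) u hu
    · exact hUU _ (hue k) u hu
    · exact (polar_comm (⇑Q) _ _).trans (hUw u hu k)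
  have hn2 : ∀ x, n (n x) ∈ Submodule.span F (Set.range e) := fun x => by
    rw [hn (n x)]
    refine Submodule.sum_mem _ fun k _ => ?_
    have ha : ∀ k, polar Q (a k) (n x) = 0 := fun k =>
      (hPn (Sum.inl (Sum.inl k)) x).trans (by rw [hPP]; simp)
    have hb : ∀ k, polar Q (b k) (n x) = 0 := fun k =>
      (hPn (Sum.inl (Sum.inr k)) x).trans (by rw [hPP]; simp)
    have he : ∀ k, polar Q (e k) (n x) = 0 := fun k =>
      (hPn (Sum.inr (Sum.inl k)) x).trans (by rw [hPP]; simp)
    rcases k with (k | k) | (k | k) <;> simp only [cf, Sum.elim_inl, Sum.elim_inr, LinearMap.neg_apply,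
      LinearMap.sub_apply, LinearMap.smul_apply, polarBilin_apply_apply, ha, hb, he, neg_zero, smul_zero, sub_zero,
      zero_smul, Submodule.zero_mem]
    exact Submodule.smul_mem _ _ (Submodule.subset_span ⟨k, rfl⟩)
  have hspanU : Submodule.span F (Set.range e) ≤ U := Submodule.span_le.2 (by rintro _ ⟨k, rfl⟩; exact hue k)
  have hn3 : n ^ 3 = 0 := LinearMap.ext fun x => hnU _ (hspanU (hn2 x))
  have hrange : LinearMap.range n = Submodule.span F (Set.range P) := by
    refine le_antisymm ?_ (Submodule.span_le.2 ?_)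
    · rintro _ ⟨x, rfl⟩
      rw [hn]
      exact Submodule.sum_mem _ fun k _ => Submodule.smul_mem _ _ (Submodule.subset_span ⟨k, rfl⟩)
    · rintro _ ⟨l, rfl⟩
      obtain ⟨x, hx⟩ := exists_pairing hQ hli (t := Sum.elim
        (Sum.elim (fun k => if Sum.inl (Sum.inr k) = l then 1 else 0)
          fun k => if Sum.inl (Sum.inl k) = l then -1 else 0)
        (Sum.elim (fun k => if Sum.inr (Sum.inr k) = l then 1 else 0) fun k =>
          -(if Sum.inr (Sum.inl k) = l then 1 else 0) - Q (w k) * (if Sum.inr (Sum.inr k) = l then 1 else 0)))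
      refine ⟨x, ?_⟩
      have hxc : ∀ k, polar Q (P k) x = _ := fun k => (polar_comm (⇑Q) _ _).trans (hx k)
      rw [hn, Finset.sum_eq_single l (fun k _ hk => ?_) (by simp)]
      · have : cf l x = 1 := by
          rcases l with (k | k) | (k | k)
          · simpa [cf, P] using congrArg Neg.neg (hxc (Sum.inl (Sum.inr k)))
          · simpa [cf, P] using hxc (Sum.inl (Sum.inl k))
          · have h1 := hxc (Sum.inr (Sum.inr k))
            have h2 := hxc (Sum.inr (Sum.inl k))
            simp [P] at h1 h2
            simp [cf, h1, h2]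
          · simpa [cf, P] using hxc (Sum.inr (Sum.inl k))
        rw [this, one_smul]
      · have : cf k x = 0 := by
          rcases k with (k | k) | (k | k)
          · simpa [cf, P, hk] using congrArg Neg.neg (hxc (Sum.inl (Sum.inr k)))
          · simpa [cf, P, hk] using hxc (Sum.inl (Sum.inl k))
          · have h1 := hxc (Sum.inr (Sum.inr k))
            have h2 := hxc (Sum.inr (Sum.inl k))
            simp [P, hk] at h1 h2
            simp [cf, h1, h2]
          · simpa [cf, P, hk] using hxc (Sum.inr (Sum.inl k))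
        rw [this, zero_smul]
  have hPU : Submodule.span F (Set.range P) ≤ U ⊔ Submodule.span F (Set.range w) :=
    Submodule.span_le.2 (by
      rintro _ ⟨(k | k) | (k | k), rfl⟩
      · exact Submodule.mem_sup_left (hua k)
      · exact Submodule.mem_sup_left (hub k)
      · exact Submodule.mem_sup_left (hue k)
      · exact Submodule.mem_sup_right (Submodule.subset_span ⟨k, rfl⟩))
  have hrd : Module.finrank F (LinearMap.range n) = 2 * j + 2 * s := by
    rw [hrange, finrank_span_eq_card hli]
    simp only [Fintype.card_sum, Fintype.card_fin]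
    omega
  have hUr : U ≤ LinearMap.range n := by
    rw [hrange]
    have hle : Submodule.span F (Set.range fun i => (bU (idx i) : V)) ≤ U :=
      Submodule.span_le.2 (by rintro _ ⟨i, rfl⟩; exact Subtype.coe_prop _)
    rw [← Submodule.eq_of_le_of_finrank_eq hle (by
      rw [finrank_span_eq_card hliU, hUd]; simp only [Fintype.card_sum, Fintype.card_fin]; omega)]
    refine Submodule.span_mono ?_
    rintro _ ⟨(k | k) | k, rfl⟩
    · exact ⟨Sum.inl (Sum.inl k), rfl⟩
    · exact ⟨Sum.inl (Sum.inr k), rfl⟩
    · exact ⟨Sum.inr (Sum.inl k), rfl⟩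
  refine ⟨1 + n, hiso, ?_, fun h0 => ?_, ?_, ?_, ?_, ?_, ?_⟩ <;> rw [add_sub_cancel_left]
  · exact hn3
  · subst h0
    refine LinearMap.ext fun x => ?_
    have := hn2 x
    rw [show Set.range e = ∅ from Set.range_eq_empty e, Submodule.span_empty, Submodule.mem_bot] at this
    rw [pow_two, Module.End.mul_apply, this, LinearMap.zero_apply]
  · exact hrd
  · refine (Submodule.finrank_mono (t := Submodule.span F (Set.range e)) ?_).trans
      ((finrank_range_le_card e).trans (by rw [Fintype.card_fin]))
    rintro _ ⟨x, rfl⟩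
    exact hn2 x
  · rw [← hUd]
    exact Submodule.finrank_mono (le_inf (fun u hu => hnU u hu) hUr)
  · exact hrange.trans_le hPU
  · intro x hx
    have hle : U ⊔ Submodule.span F (Set.range w) ≤ Submodule.span F (Set.range P) := sup_le
      (hrange ▸ hUr) (Submodule.span_mono (by rintro _ ⟨k, rfl⟩; exact ⟨Sum.inr (Sum.inr k), rfl⟩))
    refine mem_polarPerp.2 fun z hz => ?_
    have hzr : z ∈ LinearMap.range n := hrange ▸ hle hz
    refine polar_range_ker (f := 1 + n) hiso ?_ ?_ <;> rwa [add_sub_cancel_left]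

/-- An anisotropic vector orthogonal to a totally singular space. -/
theorem exists_anisotropic_perp (hQ : (polarBilin Q).Nondegenerate) {U : Submodule F V}
    (h : 2 * Module.finrank F U < Module.finrank F V) : ∃ w ∈ polarPerp Q U, Q w ≠ 0 := by
  by_contra hc
  push Not at hc
  have h1 := finrank_polarPerp hQ U
  have h2 := finrank_polarPerp hQ (polarPerp Q U)
  have h3 := Submodule.finrank_mono (show polarPerp Q U ≤ polarPerp Q (polarPerp Q U) from fun z hz =>
    mem_polarPerp.2 fun y hy => polar_eq_zero_of_singular hc hy hz)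
  omega

/-- A second one. -/
theorem exists_anisotropic_perp_two (hQ : (polarBilin Q).Nondegenerate) (h2 : (2 : F) ≠ 0) {U : Submodule F V}
    (h : 2 * Module.finrank F U + 1 < Module.finrank F V) {w₁ : V} (hw₁ : w₁ ∈ polarPerp Q U) (hQw : Q w₁ ≠ 0) :
    ∃ w ∈ polarPerp Q U, polar Q w₁ w = 0 ∧ Q w ≠ 0 := by
  by_contra hc
  push Not at hc
  set T := polarPerp Q U ⊓ polarPerp Q (Submodule.span F {w₁})
  have hT : ∀ t ∈ T, Q t = 0 := fun t ht =>
    hc t ht.1 (mem_polarPerp.1 ht.2 w₁ (Submodule.mem_span_singleton_self _))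
  have hle : T ≤ polarPerp Q (polarPerp Q U) := fun t ht => mem_polarPerp.2 fun z hz => by
    set c := polar Q w₁ z / (2 * Q w₁)
    have hz' : z - c • w₁ ∈ T := ⟨(polarPerp Q U).sub_mem hz ((polarPerp Q U).smul_mem _ hw₁),
      mem_polarPerp.2 fun y hy => by
        obtain ⟨a, rfl⟩ := Submodule.mem_span_singleton.1 hy
        rw [polar_smul_left', polar_sub_right, polar_smul_right', polar_self',
          div_mul_cancel₀ _ (mul_ne_zero h2 hQw), sub_self, mul_zero]⟩
    have e1 := polar_eq_zero_of_singular hT hz' ht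
    rwa [polar_sub_left, polar_smul_left', mem_polarPerp.1 ht.2 w₁ (Submodule.mem_span_singleton_self _),
      mul_zero, sub_zero] at e1
  have h1 := finrank_polarPerp hQ U
  have h3 := finrank_polarPerp hQ (polarPerp Q U)
  have h4 := Submodule.finrank_mono hle
  have h5 := finrank_polarPerp hQ (Submodule.span F {w₁})
  rw [finrank_span_singleton (fun h => hQw (by rw [h, QuadraticMap.map_zero]))] at h5
  have h6 : Module.finrank F (polarPerp Q U ⊔ polarPerp Q (Submodule.span F {w₁}) : Submodule F V) ≤
      Module.finrank F V := Submodule.finrank_le _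
  have h7 : Module.finrank F (polarPerp Q U ⊔ polarPerp Q (Submodule.span F {w₁}) : Submodule F V) +
      Module.finrank F T = Module.finrank F (polarPerp Q U) + Module.finrank F (polarPerp Q (Submodule.span F {w₁})) :=
    Submodule.finrank_sup_add_finrank_inf_eq _ _
  omega

end CfsgLib.OrthPrime
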